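import Groth.Agent.FlatMorWeight.Sums

/-! Composition of weightings. -/

universe u

set_option backward.isDefEq.respectTransparency.types false

namespace Groth.Agent.FlatMorWeight

open AlgebraicGeometry CategoryTheory Limits TopologicalSpace

theorem locallyQuasiFinite_of_etale {X Y : Scheme.{u}} (f : X ⟶ Y) [Etale f] : LocallyQuasiFinite f := by
  refine ⟨fun {U} hU {V} hV e => ?_⟩
  have h := HasRingHomProperty.appLE @Etale f ‹_› ⟨U, hU⟩ ⟨V, hV⟩ e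
  algebraize [(f.appLE U V e).hom]
  exact inferInstanceAs (Algebra.QuasiFinite Γ(Y, U) Γ(X, V))

variable {X Y Z : Scheme.{u}} {f : X ⟶ Y} {g : Y ⟶ Z} {wf : X → ℤ} {wg : Y → ℤ} {Ω : Type u}
  [Field Ω] [IsAlgClosed Ω]

/-- The map between base changes induced by `f`. -/
noncomputable def compMap (f : X ⟶ Y) (g : Y ⟶ Z) {V : Scheme.{u}} (h : V ⟶ Z) :
    pullback (f ≫ g) h ⟶ pullback g h :=
  pullback.lift (pullback.fst _ _ ≫ f) (pullback.snd _ _) (by rw [Category.assoc, pullback.condition])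

@[reassoc (attr := simp)] theorem compMap_fst (f : X ⟶ Y) (g : Y ⟶ Z) {V : Scheme.{u}} (h : V ⟶ Z) :
    compMap f g h ≫ pullback.fst g h = pullback.fst (f ≫ g) h ≫ f := pullback.lift_fst _ _ _

@[simp] theorem compMap_snd (f : X ⟶ Y) (g : Y ⟶ Z) {V : Scheme.{u}} (h : V ⟶ Z) :
    compMap f g h ≫ pullback.snd g h = pullback.snd (f ≫ g) h := pullback.lift_snd _ _ _

theorem isPullback_compMap (f : X ⟶ Y) (g : Y ⟶ Z) {V : Scheme.{u}} (h : V ⟶ Z) :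
    IsPullback (pullback.fst (f ≫ g) h) (compMap f g h) f (pullback.fst g h) := by
  refine IsPullback.of_bot ?_ (compMap_fst f g h).symm (IsPullback.of_hasPullback g h)
  rw [compMap_snd]
  exact IsPullback.of_hasPullback (f ≫ g) h

/-- The core: both pieces over the same neighbourhood, compatible. -/
theorem comp_sum_eventually [LocallyQuasiFinite f] [LocallyOfFiniteType f] [LocallyQuasiFinite g]
    [LocallyOfFiniteType g] (hf : MoreMor.IsWeighting f wf) (hg : MoreMor.IsWeighting g wg)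
    {V : Scheme.{u}} (h : V ⟶ Z) [Etale h] {U : (pullback (f ≫ g) h).Opens} {W : (pullback g h).Opens}
    {z : Spec (CommRingCat.of Ω) ⟶ pullback (f ≫ g) h} (hz : IsSingle (pullback.snd (f ≫ g) h) U z)
    (hy : IsSingle (pullback.snd g h) W (z ≫ compMap f g h)) (hUW : U ≤ compMap f g h ⁻¹ᵁ W) :
    ∃ N : V.Opens, pullback.snd (f ≫ g) h (pt z) ∈ N ∧
      ∀ {Ω : Type u} [Field Ω] [IsAlgClosed Ω] (v₁ : Spec (CommRingCat.of Ω) ⟶ V),
      pt v₁ ∈ N → (GPIn (pullback.snd (f ≫ g) h) U v₁).Finite ∧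
        ∑ᶠ y ∈ GPIn (pullback.snd (f ≫ g) h) U v₁,
          wf (pullback.fst (f ≫ g) h (pt y)) * wg (f (pullback.fst (f ≫ g) h (pt y))) =
        wf (pullback.fst (f ≫ g) h (pt z)) * wg (f (pullback.fst (f ≫ g) h (pt z))) := by
  classical
  let πQ := pullback.snd (f ≫ g) h
  let πP := pullback.snd g h
  let q := compMap f g h
  let j := q ∣_ W
  let i := (q ⁻¹ᵁ W).ι
  let O : (q ⁻¹ᵁ W).toScheme.Opens := i ⁻¹ᵁ U
  haveI := hz.1
  haveI := hy.1
  haveI hOfin : IsFinite (O.ι ≫ j) := by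
    haveI : IsIso (i ∣_ U) := by
      have : Surjective (i ∣_ U) := ⟨fun p =>
        let x : (i ⁻¹ᵁ U).toScheme := ⟨⟨p.1, hUW p.2⟩, p.2⟩
        ⟨x, Subtype.ext ((congrArg (fun m : (i ⁻¹ᵁ U).toScheme ⟶ pullback (f ≫ g) h => m x)
          (morphismRestrict_ι i U)).trans rfl)⟩⟩
      exact (isIso_iff_isOpenImmersion_and_surjective _).2 ⟨inferInstance, this⟩
    haveI : IsFinite ((O.ι ≫ j) ≫ (W.ι ≫ πP)) := by
      have : (O.ι ≫ j) ≫ (W.ι ≫ πP) = (i ∣_ U) ≫ U.ι ≫ πQ := by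
        simp only [Category.assoc, j, q, πP, πQ, reassoc_of% (morphismRestrict_ι i U)]
        rw [reassoc_of% (morphismRestrict_ι (compMap f g h) W), compMap_snd]
      rw [this]
      infer_instance
    exact IsFinite.of_comp (O.ι ≫ j) (W.ι ≫ πP)
  have hsq : IsPullback (i ≫ pullback.fst (f ≫ g) h) j f (W.ι ≫ pullback.fst g h) :=
    (isPullback_morphismRestrict q W).flip.paste_horiz (isPullback_compMap f g h)
  let S := MoreMor.fibreIntegral (O.ι ≫ j) (fun x => wf ((i ≫ pullback.fst (f ≫ g) h) (O.ι x)))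
  have hS : IsLocallyConstant S := isLocallyConstant_of_isPullback hf hsq O
  haveI : LocallyQuasiFinite j := MorphismProperty.of_isPullback (P := @LocallyQuasiFinite) hsq ‹_›
  have hval : ∀ {Ω : Type u} [Field Ω] [IsAlgClosed Ω] (y : Spec (CommRingCat.of Ω) ⟶ W),
      (GPIn q U (y ≫ W.ι)).Finite ∧
        S (pt y) = ∑ᶠ x ∈ GPIn q U (y ≫ W.ι), wf (pullback.fst (f ≫ g) h (pt x)) := by
    intro Ω _ _ y
    obtain ⟨h1, h2⟩ := fibreIntegral_opens j y O (fun x => wf ((i ≫ pullback.fst (f ≫ g) h) x))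
    have hbij := bijOn_GPIn (isPullback_morphismRestrict q W).flip U y
    refine ⟨by rw [← hbij.image_eq]; exact h2.image _, h1.trans ?_⟩
    exact finsum_GPIn_bc (isPullback_morphismRestrict q W).flip U y
      (fun x => wf (pullback.fst (f ≫ g) h x))
  let yW : Spec (CommRingCat.of Ω) ⟶ W := IsOpenImmersion.lift W.ι (z ≫ q) (by
    rintro _ ⟨p, rfl⟩
    rw [Scheme.Opens.range_ι, eq_pt]
    exact hy.2.1)
  have hyW : yW ≫ W.ι = z ≫ q := IsOpenImmersion.lift_fac _ _ _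
  have hSy : S (pt yW) = wf (pullback.fst (f ≫ g) h (pt z)) := by
    rw [(hval yW).2, hyW, show GPIn q U (z ≫ q) = {z} from Set.ext fun x => ⟨fun hx => hz.2.2 x
      (by
        show x ≫ pullback.snd (f ≫ g) h = z ≫ _
        rw [← compMap_snd, ← Category.assoc, ← Category.assoc, show x ≫ q = z ≫ q from hx.1]) hx.2,
      by rintro rfl; exact ⟨rfl, hz.2.1⟩⟩, finsum_mem_singleton]
  obtain ⟨N₁, hN₁, hN₁'⟩ := hy.exists_nhds πP (W.ι '' (S ⁻¹' {S (pt yW)}))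
    (W.ι.isOpenEmbedding.isOpenMap _ (hS.isOpen_fiber _))
    ⟨pt yW, rfl, by rw [← pt_comp, hyW]⟩
  obtain ⟨N₂, hN₂, hN₂'⟩ := single_sum_eventually hg h W hy
  have hπ : pullback.snd g h (pt (z ≫ q)) = πQ (pt z) := by rw [← pt_comp, Category.assoc, compMap_snd, pt_comp]
  refine ⟨N₁ ⊓ N₂, ⟨hπ ▸ hN₁, hπ ▸ hN₂⟩, fun {Ω'} _ _ v₁ h₁ => ?_⟩
  obtain ⟨hfinW, hsumW⟩ := hN₂' v₁ h₁.2
  have hfinU : (GPIn πQ U v₁).Finite := (fibreIntegral_opens πQ v₁ U (fun _ => 0)).2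
  refine ⟨hfinU, ?_⟩
  have hmaps : ∀ x ∈ hfinU.toFinset, x ≫ q ∈ hfinW.toFinset := fun x hx => by
    rw [Set.Finite.mem_toFinset] at hx ⊢
    refine ⟨?_, ?_⟩
    · show (x ≫ q) ≫ pullback.snd g h = v₁
      rw [Category.assoc, compMap_snd]; exact hx.1
    · rw [pt_comp]; exact hUW hx.2
  rw [finsum_mem_eq_finite_toFinset_sum _ hfinU, ← Finset.sum_fiberwise_of_maps_to hmaps]
  rw [finsum_mem_eq_finite_toFinset_sum _ hfinW] at hsumW
  have hfz : f (pullback.fst (f ≫ g) h (pt z)) = pullback.fst g h (pt (z ≫ q)) := by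
    rw [pt_comp, ← Scheme.Hom.comp_apply, ← Scheme.Hom.comp_apply, compMap_fst]
  rw [hfz, ← hSy, ← hsumW, Finset.mul_sum]
  refine Finset.sum_congr rfl fun y hyW' => ?_
  rw [Set.Finite.mem_toFinset] at hyW'
  obtain ⟨b, hb, hby⟩ := hN₁' (pt y) hyW'.2
    (by rw [← pt_comp, show y ≫ πP = v₁ from hyW'.1]; exact h₁.1)
  let y' : Spec (CommRingCat.of Ω') ⟶ W := IsOpenImmersion.lift W.ι y (by
    rintro _ ⟨p, rfl⟩
    rw [Scheme.Opens.range_ι, eq_pt]; exact hyW'.2)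
  have hy' : y' ≫ W.ι = y := IsOpenImmersion.lift_fac _ _ _
  have hb' : pt y' = b := W.ι.isOpenEmbedding.injective (by rw [← pt_comp, hy', hby])
  obtain ⟨hfinq, hSq⟩ := hval y'
  rw [hb', show S b = S (pt yW) from hb, hy', finsum_mem_eq_finite_toFinset_sum _ (hy' ▸ hfinq)] at hSq
  rw [hSq, Finset.sum_mul]
  refine Finset.sum_congr ?_ fun x hx => ?_
  · ext x
    simp only [Finset.mem_filter, Set.Finite.mem_toFinset]
    refine ⟨fun hx => ⟨hx.2, hx.1.2⟩, fun hx => ⟨⟨?_, hx.2⟩, hx.1⟩⟩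
    show x ≫ pullback.snd (f ≫ g) h = v₁
    rw [← compMap_snd, ← Category.assoc, show x ≫ q = y from hx.1]
    exact hyW'.1
  · rw [Set.Finite.mem_toFinset] at hx
    congr 2
    rw [← show x ≫ q = y from hx.1, pt_comp, ← Scheme.Hom.comp_apply, ← Scheme.Hom.comp_apply, compMap_fst]

theorem bcMap_compMap (f : X ⟶ Y) (g : Y ⟶ Z) {V V' : Scheme.{u}} (h : V ⟶ Z) (c : V' ⟶ V) :
    compMap f g (c ≫ h) ≫ bcMap g h c = bcMap (f ≫ g) h c ≫ compMap f g h := by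
  refine pullback.hom_ext ?_ ?_
  · rw [Category.assoc, Category.assoc, bcMap_fst, compMap_fst, compMap_fst, ← Category.assoc, bcMap_fst]
  · rw [Category.assoc, Category.assoc, bcMap_snd, compMap_snd, bcMap_snd, ← Category.assoc, compMap_snd]

theorem exists_single_baseChange {V V' : Scheme.{u}} (h : V ⟶ Z) (c : V' ⟶ V) {U : (pullback g h).Opens}
    {z : Spec (CommRingCat.of Ω) ⟶ pullback g h} (hz : IsSingle (pullback.snd g h) U z)
    (v : Spec (CommRingCat.of Ω) ⟶ V') (hv : z ≫ pullback.snd g h = v ≫ c) :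
    ∃ z', IsSingle (pullback.snd g (c ≫ h)) (bcMap g h c ⁻¹ᵁ U) z' ∧ z' ≫ bcMap g h c = z ∧
      z' ≫ pullback.snd g (c ≫ h) = v :=
  ⟨(isPullback_bcMap g h c).lift z v hv, isSingle_bc (isPullback_bcMap g h c) hz _
    ((isPullback_bcMap g h c).lift_fst _ _ _), (isPullback_bcMap g h c).lift_fst _ _ _,
    (isPullback_bcMap g h c).lift_snd _ _ _⟩

theorem isWeighting_comp [LocallyQuasiFinite f] [LocallyOfFiniteType f] [LocallyQuasiFinite g]
    [LocallyOfFiniteType g] (hf : MoreMor.IsWeighting f wf) (hg : MoreMor.IsWeighting g wg) :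
    MoreMor.IsWeighting (f ≫ g) (fun x => wf x * wg (f x)) := by
  intro V₀ h₀ _ U₀ hU₀
  refine isLocallyConstant_of_singles (f := f ≫ g) (w := fun x => wf x * wg (f x)) ?_
    (IsPullback.of_hasPullback (f ≫ g) h₀) U₀
  intro Ω _ _ V h _ U z hz
  let vb := z ≫ pullback.snd (f ≫ g) h
  let yb := z ≫ pullback.fst (f ≫ g) h ≫ f
  obtain ⟨V₂, h₂, v₂, W₂, hh₂, hv₂, hP⟩ := exists_piece g yb
  haveI := hh₂
  let c₁ : pullback h h₂ ⟶ V := pullback.fst h h₂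
  have hc : vb ≫ h = v₂ ≫ h₂ := by
    rw [hv₂]
    simp only [vb, yb, Category.assoc, pullback.condition]
  let vb' := pullback.lift vb v₂ hc
  have hcond : pullback.snd h h₂ ≫ h₂ = c₁ ≫ h := pullback.condition.symm
  obtain ⟨m, hm₁, hm₂, hP'⟩ := hP.baseChange (c₁ ≫ h) (pullback.snd h h₂) hcond vb' (pullback.lift_snd _ _ _)
  obtain ⟨y', hy', hy'x, hy'v⟩ := isSingle_of_isPiece hP'
  obtain ⟨z', hz', hz'z, hz'v⟩ := exists_single_baseChange h c₁ hz vb' (pullback.lift_fst _ _ _).symm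
  have hzy : z' ≫ compMap f g (c₁ ≫ h) = y' := by
    refine pullback.hom_ext ?_ ?_
    · rw [Category.assoc, compMap_fst, ← bcMap_fst, Category.assoc, ← Category.assoc z', hz'z, hy'x]
    · rw [Category.assoc, compMap_snd, hz'v, hy'v]
  obtain ⟨N₀, hN₀, hN₀'⟩ := hz'.exists_nhds _ (compMap f g (c₁ ≫ h) ⁻¹' (m ⁻¹ᵁ W₂))
    ((m ⁻¹ᵁ W₂).isOpen.preimage (compMap f g (c₁ ≫ h)).continuous) (by
      show compMap f g (c₁ ≫ h) (pt z') ∈ m ⁻¹ᵁ W₂
      rw [← pt_comp, hzy]; exact hy'.2.1)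
  have hvN : pt vb' ∈ N₀ := by rwa [← pt_comp, hz'v] at hN₀
  let vN : Spec (CommRingCat.of Ω) ⟶ N₀ := IsOpenImmersion.lift N₀.ι vb' (by
    rintro _ ⟨p, rfl⟩
    rw [Scheme.Opens.range_ι, eq_pt]; exact hvN)
  have hvN' : vN ≫ N₀.ι = vb' := IsOpenImmersion.lift_fac _ _ _
  obtain ⟨z'', hz'', hz''z, hz''v⟩ := exists_single_baseChange (c₁ ≫ h) N₀.ι hz' vN (hz'v.trans hvN'.symm)
  obtain ⟨y'', hy'', hy''y, hy''v⟩ := exists_single_baseChange (c₁ ≫ h) N₀.ι hy' vN (hy'v.trans hvN'.symm)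
  have hzy' : z'' ≫ compMap f g (N₀.ι ≫ c₁ ≫ h) = y'' := by
    refine (isPullback_bcMap g (c₁ ≫ h) N₀.ι).hom_ext ?_ ?_
    · rw [Category.assoc, bcMap_compMap, ← Category.assoc, hz''z, hzy, hy''y]
    · rw [Category.assoc, compMap_snd, hz''v, hy''v]
  haveI : Etale c₁ := inferInstance
  obtain ⟨N, hN, hN'⟩ := comp_sum_eventually hf hg (N₀.ι ≫ c₁ ≫ h) hz'' (by rw [hzy']; exact hy'')
    (fun p hp => by
      show bcMap g (c₁ ≫ h) N₀.ι (compMap f g (N₀.ι ≫ c₁ ≫ h) p) ∈ m ⁻¹ᵁ W₂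
      rw [← Scheme.Hom.comp_apply, bcMap_compMap, Scheme.Hom.comp_apply]
      refine hN₀' _ hp ?_
      rw [← Scheme.Hom.comp_apply, bcMap_snd, Scheme.Hom.comp_apply]
      exact (pullback.snd (f ≫ g) (N₀.ι ≫ c₁ ≫ h) p).2)
  let cc : N₀.toScheme ⟶ V := N₀.ι ≫ c₁
  refine ⟨⟨cc '' N, cc.isOpenMap _ N.isOpen⟩, ⟨pt vN, ?_, ?_⟩, fun {Ω'} _ _ v₁ h₁ => ?_⟩
  · rw [← hz''v, pt_comp]; exact hN
  · rw [← pt_comp, show vN ≫ cc = vb from by
      rw [← Category.assoc, hvN']; exact pullback.lift_fst _ _ _]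
    rfl
  obtain ⟨a, ha, hav⟩ := h₁
  haveI : Etale cc := inferInstanceAs (Etale (N₀.ι ≫ c₁))
  haveI : LocallyQuasiFinite cc := locallyQuasiFinite_of_etale cc
  obtain ⟨u₁, hu₁, rfl⟩ := exists_GP_at cc v₁ a hav
  obtain rfl : u₁ ≫ cc = v₁ := hu₁
  haveI := hz.1
  obtain ⟨-, hs⟩ := hN' u₁ ha
  refine ⟨(fibreIntegral_opens (pullback.snd (f ≫ g) h) (u₁ ≫ cc) U (fun _ => 0)).2, ?_⟩
  let F : (pullback (f ≫ g) h : Scheme.{u}) → ℤ := fun x =>
    wf (pullback.fst (f ≫ g) h x) * wg (f (pullback.fst (f ≫ g) h x))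
  have e2 := finsum_GPIn_bc (isPullback_bcMap (f ≫ g) h c₁) U (u₁ ≫ N₀.ι) F
  have e1 := finsum_GPIn_bc (isPullback_bcMap (f ≫ g) (c₁ ≫ h) N₀.ι) (bcMap (f ≫ g) h c₁ ⁻¹ᵁ U) u₁
    (fun x => F (bcMap (f ≫ g) h c₁ x))
  simp only [F, ← Scheme.Hom.comp_apply, ← Category.assoc, bcMap_fst] at e1 e2
  simp only [F, cc, ← Scheme.Hom.comp_apply, ← Category.assoc] at hs ⊢
  rw [← e2, ← e1]
  simp only [Category.assoc, bcMap_fst, bcMap_fst_assoc] at hs ⊢
  refine hs.trans ?_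
  have hz3 : z'' ≫ pullback.fst (f ≫ g) (N₀.ι ≫ c₁ ≫ h) = z ≫ pullback.fst (f ≫ g) h := by
    rw [← bcMap_fst, ← Category.assoc, hz''z, ← bcMap_fst, ← Category.assoc, hz'z]
  simp only [← pt_comp, ← Category.assoc, hz3]

end Groth.Agent.FlatMorWeight
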