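import Mathlib
import Groth.Prelude.Def_MoreMor

/-! Fibre integrals as sums over geometric points. -/

universe u

namespace Groth.Agent.FlatMorWeight

open AlgebraicGeometry CategoryTheory Limits

variable {Ω : Type u} [Field Ω]

/-- The point of a field-valued point. -/
noncomputable def pt {X : Scheme.{u}} (z : Spec (CommRingCat.of Ω) ⟶ X) : X :=
  z (IsLocalRing.closedPoint Ω)

theorem pt_comp {X Y : Scheme.{u}} (z : Spec (CommRingCat.of Ω) ⟶ X) (f : X ⟶ Y) :
    pt (z ≫ f) = f (pt z) := rfl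

theorem eq_pt {X : Scheme.{u}} (z : Spec (CommRingCat.of Ω) ⟶ X) (q : Spec (CommRingCat.of Ω)) :
    z q = pt z := congrArg z (Subsingleton.elim (α := PrimeSpectrum Ω) _ _)

theorem pt_specMap {X : Scheme.{u}} (x : X) (φ : X.residueField x ⟶ CommRingCat.of Ω) :
    pt (Spec.map φ ≫ X.fromSpecResidueField x) = x :=
  Scheme.fromSpecResidueField_apply x _

theorem exists_specMap {X : Scheme.{u}} (z : Spec (CommRingCat.of Ω) ⟶ X) :
    ∃ φ : X.residueField (pt z) ⟶ CommRingCat.of Ω, Spec.map φ ≫ X.fromSpecResidueField (pt z) = z :=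
  ⟨_, Scheme.descResidueField_stalkClosedPointTo_fromSpecResidueField Ω X z⟩

/-- A geometric point at a given point. -/
theorem exists_geomPt {X : Scheme.{u}} (x : X) :
    ∃ z : Spec (CommRingCat.of (AlgebraicClosure (X.residueField x))) ⟶ X, pt z = x :=
  ⟨_, pt_specMap x (CommRingCat.ofHom (algebraMap (X.residueField x) (AlgebraicClosure (X.residueField x))))⟩

variable (Ω) in
/-- Geometric points over a given one. -/
def GP {U V : Scheme.{u}} (π : U ⟶ V) (v : Spec (CommRingCat.of Ω) ⟶ V) :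
    Set (Spec (CommRingCat.of Ω) ⟶ U) := {z | z ≫ π = v}

variable {U V : Scheme.{u}} (π : U ⟶ V)

theorem residueFieldMap_finite [LocallyQuasiFinite π] (u : U) : (π.residueFieldMap u).hom.Finite := by
  have h1 : LocallyQuasiFinite (Spec.map (π.residueFieldMap u) ≫ V.fromSpecResidueField (π u)) := by
    rw [Scheme.Hom.SpecMap_residueFieldMap_fromSpecResidueField]; infer_instance
  have h2 := @LocallyQuasiFinite.of_comp _ _ _ (Spec.map (π.residueFieldMap u))
    (V.fromSpecResidueField (π u)) h1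
  rw [HasRingHomProperty.Spec_iff (P := @LocallyQuasiFinite)] at h2
  algebraize [(π.residueFieldMap u).hom]
  exact Module.Finite.of_quasiFinite (R := V.residueField (π u))

/-- Points over a point `u` of the source correspond to field embeddings. -/
theorem card_GP_at [IsAlgClosed Ω] [LocallyQuasiFinite π] (v : Spec (CommRingCat.of Ω) ⟶ V) (u : U)
    (h : π u = pt v) :
    Finite {z : Spec (CommRingCat.of Ω) ⟶ U // z ≫ π = v ∧ pt z = u} ∧
    Nat.card {z : Spec (CommRingCat.of Ω) ⟶ U // z ≫ π = v ∧ pt z = u} =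
      (letI := (π.residueFieldMap u).hom.toAlgebra
       Field.finSepDegree (V.residueField (π u)) (U.residueField u)) ∧
    0 < Nat.card {z : Spec (CommRingCat.of Ω) ⟶ U // z ≫ π = v ∧ pt z = u} := by
  obtain ⟨ψ, hψ⟩ : ∃ ψ : V.residueField (π u) ⟶ CommRingCat.of Ω,
      Spec.map ψ ≫ V.fromSpecResidueField (π u) = v := by rw [h]; exact exists_specMap v
  have hcomp : ∀ φ : U.residueField u ⟶ CommRingCat.of Ω,
      (Spec.map φ ≫ U.fromSpecResidueField u) ≫ π = v ↔ π.residueFieldMap u ≫ φ = ψ := fun φ => by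
    rw [Category.assoc, ← Scheme.Hom.SpecMap_residueFieldMap_fromSpecResidueField,
      ← Spec.map_comp_assoc, ← hψ, cancel_mono, Spec.map_inj]
  let e₁ : {φ : U.residueField u ⟶ CommRingCat.of Ω // π.residueFieldMap u ≫ φ = ψ} ≃
      {z : Spec (CommRingCat.of Ω) ⟶ U // z ≫ π = v ∧ pt z = u} := Equiv.ofBijective
    (fun φ => ⟨Spec.map φ.1 ≫ U.fromSpecResidueField u, (hcomp _).2 φ.2, pt_specMap u _⟩) ⟨by
      intro a b hab
      exact Subtype.ext (Spec.map_injective ((cancel_mono _).1 (congrArg Subtype.val hab))), by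
      rintro ⟨z, hz1, hz2⟩
      subst hz2
      obtain ⟨φ, hφ⟩ := exists_specMap z
      exact ⟨⟨φ, (hcomp φ).1 (by rw [hφ]; exact hz1)⟩, Subtype.ext hφ⟩⟩
  letI : Algebra (V.residueField (π u)) (U.residueField u) := (π.residueFieldMap u).hom.toAlgebra
  letI : Algebra (V.residueField (π u)) Ω := ψ.hom.toAlgebra
  haveI : Module.Finite (V.residueField (π u)) (U.residueField u) := residueFieldMap_finite π u
  let e₂ : (U.residueField u →ₐ[V.residueField (π u)] Ω) ≃
      {φ : U.residueField u ⟶ CommRingCat.of Ω // π.residueFieldMap u ≫ φ = ψ} :=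
    { toFun := fun g => ⟨CommRingCat.ofHom g.toRingHom, CommRingCat.hom_ext g.comp_algebraMap⟩
      invFun := fun φ => { φ.1.hom with commutes' := fun r => congr($(φ.2).hom r) }
      left_inv := fun g => rfl
      right_inv := fun φ => rfl }
  have hcard := Nat.card_congr (e₂.trans e₁)
  haveI : Finite (U.residueField u →ₐ[V.residueField (π u)] Ω) :=
    Fintype.finite (minpoly.AlgHom.fintype _ _ _)
  haveI : Nonempty (U.residueField u →ₐ[V.residueField (π u)] Ω) := ⟨IsAlgClosed.lift⟩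
  refine ⟨Finite.of_equiv _ (e₂.trans e₁), ?_, ?_⟩
  · rw [← hcard]
    exact (Field.finSepDegree_eq_of_isAlgClosed (V.residueField (π u)) (U.residueField u) Ω).symm
  · rw [← hcard]; exact Nat.card_pos

theorem exists_GP_at [IsAlgClosed Ω] [LocallyQuasiFinite π] (v : Spec (CommRingCat.of Ω) ⟶ V) (u : U)
    (h : π u = pt v) : ∃ z ∈ GP Ω π v, pt z = u := by
  obtain ⟨hfin, -, hpos⟩ := card_GP_at π v u h
  obtain ⟨⟨z, hz⟩⟩ := (Nat.card_pos_iff.1 hpos).1
  exact ⟨z, hz.1, hz.2⟩

variable [IsAlgClosed Ω] [LocallyQuasiFinite π] (v : Spec (CommRingCat.of Ω) ⟶ V)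

theorem finite_GP (hfin : (π ⁻¹' {pt v}).Finite) : (GP Ω π v).Finite := by
  refine (hfin.biUnion (t := fun u => {z | z ≫ π = v ∧ pt z = u}) fun u hu => ?_).subset fun z hz => ?_
  · exact Set.finite_coe_iff.1 (card_GP_at π v u hu).1
  · refine Set.mem_biUnion (x := pt z) ?_ ⟨hz, rfl⟩
    show π (pt z) = pt v
    rw [← pt_comp, show z ≫ π = v from hz]

/-- The fibre integral as a sum over geometric points. -/
theorem fibreIntegral_eq_finsum (hfin : (π ⁻¹' {pt v}).Finite) (w : U → ℤ) :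
    MoreMor.fibreIntegral π w (pt v) = ∑ᶠ z ∈ GP Ω π v, w (pt z) := by
  classical
  haveI : Finite {u : U // π u = pt v} := hfin.to_subtype
  haveI := Fintype.ofFinite {u : U // π u = pt v}
  haveI : Finite (GP Ω π v) := (finite_GP π v hfin).to_subtype
  haveI := Fintype.ofFinite (GP Ω π v)
  rw [finsum_mem_eq_toFinset_sum, ← Finset.sum_set_coe]
  unfold MoreMor.fibreIntegral
  rw [finsum_eq_sum_of_fintype]
  let F : GP Ω π v → {u : U // π u = pt v} := fun z => ⟨pt z.1, by
    rw [← pt_comp, show z.1 ≫ π = v from z.2]⟩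
  rw [← Fintype.sum_fiberwise F fun z => w (pt z.1)]
  refine Finset.sum_congr rfl fun u _ => ?_
  have e : {z : GP Ω π v // F z = u} ≃
      {z : Spec (CommRingCat.of Ω) ⟶ U // z ≫ π = v ∧ pt z = u.1} :=
    { toFun := fun z => ⟨z.1.1, z.1.2, congrArg Subtype.val z.2⟩
      invFun := fun z => ⟨⟨z.1, z.2.1⟩, Subtype.ext z.2.2⟩
      left_inv := fun z => rfl
      right_inv := fun z => rfl }
  calc _ = w u.1 * (Nat.card {z : GP Ω π v // F z = u} : ℤ) := by
        rw [Nat.card_congr e, (card_GP_at π v u.1 u.2).2.1]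
    _ = _ := by
      rw [Nat.card_eq_fintype_card, Finset.sum_congr rfl (g := fun _ => w u.1) (fun z _ => by
        rw [show pt z.1.1 = u.1 from congrArg Subtype.val z.2])]
      rw [Finset.sum_const, Finset.card_univ, nsmul_eq_mul, mul_comm]

omit [IsAlgClosed Ω] [LocallyQuasiFinite π] in
theorem GP_opens (O : U.Opens) :
    (fun z => z ≫ O.ι) '' GP Ω (O.ι ≫ π) v = {z ∈ GP Ω π v | pt z ∈ O} := by
  ext z
  constructor
  · rintro ⟨y, hy, rfl⟩
    exact ⟨(Category.assoc _ _ _).trans hy, by rw [pt_comp]; exact (pt y).2⟩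
  · rintro ⟨hz, hzO⟩
    have hr : Set.range z ⊆ Set.range O.ι := by
      rintro _ ⟨q, rfl⟩
      rw [Scheme.Opens.range_ι, eq_pt]; exact hzO
    refine ⟨IsOpenImmersion.lift O.ι z hr, ?_, IsOpenImmersion.lift_fac _ _ _⟩
    show _ ≫ O.ι ≫ π = v
    rw [IsOpenImmersion.lift_fac_assoc]; exact hz

omit [LocallyQuasiFinite π] in
theorem fibreIntegral_opens (O : U.Opens) [IsFinite (O.ι ≫ π)] (w : U → ℤ) :
    MoreMor.fibreIntegral (O.ι ≫ π) (fun x => w (O.ι x)) (pt v) =
      ∑ᶠ z ∈ {z ∈ GP Ω π v | pt z ∈ O}, w (pt z) ∧ {z ∈ GP Ω π v | pt z ∈ O}.Finite := by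
  have hfin := Scheme.Hom.finite_preimage_singleton (O.ι ≫ π) (pt v)
  rw [← GP_opens π v O]
  refine ⟨?_, (finite_GP (O.ι ≫ π) v hfin).image _⟩
  rw [fibreIntegral_eq_finsum (O.ι ≫ π) v hfin, finsum_mem_image fun a _ b _ h => (cancel_mono O.ι).1 h]
  rfl

end Groth.Agent.FlatMorWeight
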