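import Groth.Agent.Et18.EtaleNormal
import Mathlib.RingTheory.Ideal.GoingUp
import Mathlib.RingTheory.QuasiFinite.Basic
import Mathlib.RingTheory.Etale.QuasiFinite
import Mathlib.FieldTheory.PurelyInseparable.Basic
import Groth.Prelude.Def_CAlg2

/-! Étale algebras over geometrically unibranch local rings: unique generic point near each point. -/

universe u

namespace Groth.Agent.FlatMorWeight

open TensorProduct

/-- A radicial base change separates no primes. -/
theorem le_of_pow_mem {A B C : Type u} [CommRing A] [CommRing B] [CommRing C] [Algebra A B] [Algebra A C]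
    (m : Ideal C) [m.IsMaximal] (e : ℕ) [ExpChar (C ⧸ m) e]
    (h : ∀ x : C ⧸ m, ∃ n, x ^ e ^ n ∈ ((Ideal.Quotient.mk m).comp (algebraMap A C)).range)
    (Q Q' : Ideal (B ⊗[A] C)) [Q.IsPrime] [Q'.IsPrime]
    (hQ : m.map (Algebra.TensorProduct.includeRight : C →ₐ[A] B ⊗[A] C) ≤ Q)
    (hQ' : m.map (Algebra.TensorProduct.includeRight : C →ₐ[A] B ⊗[A] C) ≤ Q')
    (heq : Q.comap (algebraMap B (B ⊗[A] C)) = Q'.comap (algebraMap B (B ⊗[A] C))) : Q ≤ Q' := by
  set J := m.map (Algebra.TensorProduct.includeRight : C →ₐ[A] B ⊗[A] C) with hJ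
  let ι : C ⧸ m →+* (B ⊗[A] C) ⧸ J :=
    Ideal.quotientMap J (Algebra.TensorProduct.includeRight : C →ₐ[A] B ⊗[A] C).toRingHom
      Ideal.le_comap_map
  have : Nontrivial ((B ⊗[A] C) ⧸ J) :=
    Ideal.Quotient.nontrivial_iff.2 fun hc => Ideal.IsPrime.ne_top ‹Q.IsPrime› (top_le_iff.1 (hc ▸ hQ))
  have : ExpChar ((B ⊗[A] C) ⧸ J) e :=
    letI := Ideal.Quotient.field m
    expChar_of_injective_ringHom ι.injective e
  have key : ∀ z : B ⊗[A] C, ∃ (n : ℕ) (b : B),
      Ideal.Quotient.mk J (z ^ e ^ n) = Ideal.Quotient.mk J (algebraMap B (B ⊗[A] C) b) := by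
    intro z
    induction z using TensorProduct.induction_on with
    | zero => exact ⟨0, 0, by simp⟩
    | tmul b c =>
      obtain ⟨n, a, ha⟩ := h (Ideal.Quotient.mk m c)
      refine ⟨n, b ^ e ^ n * algebraMap A B a, ?_⟩
      have hc : Ideal.Quotient.mk J ((1 : B) ⊗ₜ[A] (c ^ e ^ n)) =
          Ideal.Quotient.mk J ((1 : B) ⊗ₜ[A] algebraMap A C a) := by
        have h2 : Ideal.Quotient.mk m (c ^ e ^ n) = Ideal.Quotient.mk m (algebraMap A C a) := by
          rw [map_pow]; exact ha.symm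
        exact congrArg ι h2
      rw [Algebra.TensorProduct.tmul_pow,
        show (b ^ e ^ n) ⊗ₜ[A] (c ^ e ^ n) = (b ^ e ^ n) ⊗ₜ[A] (1 : C) * ((1 : B) ⊗ₜ[A] (c ^ e ^ n)) by simp,
        map_mul, hc, ← map_mul]
      congr 1
      rw [Algebra.TensorProduct.algebraMap_apply, Algebra.algebraMap_self_apply,
        Algebra.TensorProduct.tmul_mul_tmul, mul_one, one_mul,
        Algebra.algebraMap_eq_smul_one (A := C) a, ← TensorProduct.smul_tmul, Algebra.smul_def, mul_comm]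
    | add x y hx hy =>
      obtain ⟨n₁, b₁, h₁⟩ := hx
      obtain ⟨n₂, b₂, h₂⟩ := hy
      refine ⟨n₁ + n₂, b₁ ^ e ^ n₂ + b₂ ^ e ^ n₁, ?_⟩
      simp only [map_pow, map_add] at h₁ h₂ ⊢
      rw [add_pow_expChar_pow, pow_add, pow_mul, h₁, pow_mul' , h₂]
  intro z hz
  obtain ⟨n, b, hb⟩ := key z
  rw [Ideal.Quotient.eq] at hb
  have hne : e ^ n ≠ 0 := pow_ne_zero _ (expChar_pos (C ⧸ m) e).ne'
  have h1 : algebraMap B (B ⊗[A] C) b ∈ Q := by
    have := Q.sub_mem (Ideal.pow_mem_of_mem Q hz _ (Nat.pos_of_ne_zero hne)) (hQ hb)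
    simpa using this
  have h2 : algebraMap B (B ⊗[A] C) b ∈ Q' := by
    have : b ∈ Q'.comap (algebraMap B (B ⊗[A] C)) := heq ▸ h1
    exact this
  have h3 := Q'.add_mem (hQ' hb) h2
  rw [sub_add_cancel] at h3
  exact Ideal.IsPrime.mem_of_pow_mem ‹_› _ h3

/-- The core: a normal local integral extension of the reduction, radicial at the closed point. -/
theorem eq_of_le_of_etale' {A B C : Type u} [CommRing A] [IsLocalRing A] [CommRing B] [Algebra A B]
    [Algebra.Etale A B] [CommRing C] [Algebra A C] [IsDomain C] [IsIntegrallyClosed C] [IsLocalRing C]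
    [Algebra.IsIntegral A C] (e : ℕ) [ExpChar (C ⧸ IsLocalRing.maximalIdeal C) e]
    (hins : ∀ x : C ⧸ IsLocalRing.maximalIdeal C, ∃ n,
      x ^ e ^ n ∈ ((Ideal.Quotient.mk (IsLocalRing.maximalIdeal C)).comp (algebraMap A C)).range)
    (hC : ∀ (K : Type u) [Field K] [Algebra A K], RingHom.ker (algebraMap A K) = nilradical A →
      ∃ ψ : C →ₐ[A] K, Function.Injective ψ)
    (q : Ideal B) [q.IsPrime] (hq : q.comap (algebraMap A B) = IsLocalRing.maximalIdeal A)
    (P₁ P₂ : Ideal B) [P₁.IsPrime] [P₂.IsPrime] (h₁ : P₁ ≤ q) (h₂ : P₂ ≤ q)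
    (e₁ : P₁.comap (algebraMap A B) = nilradical A) (e₂ : P₂.comap (algebraMap A B) = nilradical A) :
    P₁ = P₂ := by
  set m := IsLocalRing.maximalIdeal C with hm
  let r : C →+* B ⊗[A] C := (Algebra.TensorProduct.includeRight : C →ₐ[A] B ⊗[A] C).toRingHom
  have main : ∀ P : Ideal B, P.IsPrime → P ≤ q → P.comap (algebraMap A B) = nilradical A →
      ∃ Q₀ Qb : Ideal (B ⊗[A] C), Q₀.IsPrime ∧ Qb.IsPrime ∧ Q₀ ≤ Qb ∧
        Q₀.comap (algebraMap B (B ⊗[A] C)) = P ∧ Q₀.comap r = ⊥ ∧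
        Qb.comap (algebraMap B (B ⊗[A] C)) = q ∧ m.map r ≤ Qb := by
    intro P _ hP eP
    obtain ⟨ψ, hψ⟩ := hC P.ResidueField (by
      ext a
      rw [RingHom.mem_ker, IsScalarTower.algebraMap_apply A B P.ResidueField,
        Ideal.algebraMap_residueField_eq_zero, ← eP, Ideal.mem_comap])
    let Φ : B ⊗[A] C →ₐ[A] P.ResidueField :=
      Algebra.TensorProduct.lift (IsScalarTower.toAlgHom A B P.ResidueField) ψ fun _ _ => Commute.all _ _
    let Q₀ : Ideal (B ⊗[A] C) := RingHom.ker Φ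
    have hQ₀B : Q₀.comap (algebraMap B (B ⊗[A] C)) = P := by
      ext b
      rw [Ideal.mem_comap, RingHom.mem_ker, ← Ideal.algebraMap_residueField_eq_zero (I := P)]
      show Φ (b ⊗ₜ[A] (1 : C)) = 0 ↔ _
      simp [Φ]
    have hQ₀C : Q₀.comap r = ⊥ := by
      ext c
      rw [Ideal.mem_comap, RingHom.mem_ker, Ideal.mem_bot]
      show Φ ((1 : B) ⊗ₜ[A] c) = 0 ↔ _
      simp [Φ, map_eq_zero_iff ψ hψ]
    obtain ⟨Qb, hle, hQbp, hQb⟩ := Ideal.exists_ideal_over_prime_of_isIntegral q Q₀ (hQ₀B.trans_le hP)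
    refine ⟨Q₀, Qb, RingHom.ker_isPrime _, hQbp, hle, hQ₀B, hQ₀C, hQb, Ideal.map_le_iff_le_comap.2 ?_⟩
    have hcA : (Qb.comap r).comap (algebraMap A C) = IsLocalRing.maximalIdeal A := by
      rw [← hq, ← hQb, Ideal.comap_comap, Ideal.comap_comap]
      congr 1
      exact ((Algebra.TensorProduct.includeRight : C →ₐ[A] B ⊗[A] C).comp_algebraMap).trans
        (IsScalarTower.algebraMap_eq A B (B ⊗[A] C))
    have : (Qb.comap r).IsMaximal :=
      Ideal.isMaximal_of_isIntegral_of_isMaximal_comap (R := A) _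
        (hcA ▸ IsLocalRing.maximalIdeal.isMaximal A)
    exact (IsLocalRing.eq_maximalIdeal this).symm.le
  obtain ⟨Q₁, Qb₁, _, _, hle₁, hB₁, hC₁, hq₁, hm₁⟩ := main P₁ inferInstance h₁ e₁
  obtain ⟨Q₂, Qb₂, _, _, hle₂, hB₂, hC₂, hq₂, hm₂⟩ := main P₂ inferInstance h₂ e₂
  have hQb : Qb₁ = Qb₂ :=
    le_antisymm
      (le_of_pow_mem m e hins Qb₁ Qb₂ hm₁ hm₂ (hq₁.trans hq₂.symm))
      (le_of_pow_mem m e hins Qb₂ Qb₁ hm₂ hm₁ (hq₂.trans hq₁.symm))
  subst hQb
  letI := Algebra.TensorProduct.rightAlgebra (R := A) (A := B) (B := C)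
  haveI : Algebra.Etale C (B ⊗[A] C) := .of_equiv (Algebra.TensorProduct.commRight A C B)
  obtain ⟨hdomD, -⟩ := Et18.normal_localization_of_etale C (B ⊗[A] C) Qb₁
  haveI := hdomD
  let ρ := algebraMap (B ⊗[A] C) (Localization.AtPrime Qb₁)
  have hker : ∀ Q : Ideal (B ⊗[A] C), Q.IsPrime → Q ≤ Qb₁ → RingHom.ker ρ ≤ Q := by
    intro Q hQ hle z hz
    obtain ⟨s, hs⟩ := (IsLocalization.map_eq_zero_iff Qb₁.primeCompl _ z).1 hz
    exact (hQ.mem_or_mem (hs ▸ Q.zero_mem)).resolve_left fun h => s.2 (hle h)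
  haveI : (RingHom.ker ρ).IsPrime := RingHom.ker_isPrime _
  have hu : ∀ Q : Ideal (B ⊗[A] C), Q.IsPrime → Q ≤ Qb₁ → Q.comap r = ⊥ → RingHom.ker ρ = Q := by
    intro Q hQ hle he
    refine Algebra.QuasiFinite.eq_of_le_of_under_eq (R := C) _ _ (hker Q hQ hle) ?_
    show (RingHom.ker ρ).comap r = Q.comap r
    rw [he]
    exact le_bot_iff.1 ((Ideal.comap_mono (hker Q hQ hle)).trans he.le)
  rw [← hB₁, ← hB₂, ← hu Q₁ inferInstance hle₁ hC₁, ← hu Q₂ inferInstance hle₂ hC₂]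

/-- Over a geometrically unibranch local ring, an étale algebra has at each point over the closed
point only one generalisation over the generic point. -/
theorem eq_of_le_of_etale {A B : Type u} [CommRing A] [IsLocalRing A] (hA : CAlg2.IsGeomUnibranch A)
    [CommRing B] [Algebra A B] [Algebra.Etale A B] (q : Ideal B) [q.IsPrime]
    (hq : q.comap (algebraMap A B) = IsLocalRing.maximalIdeal A) (P₁ P₂ : Ideal B) [P₁.IsPrime]
    [P₂.IsPrime] (h₁ : P₁ ≤ q) (h₂ : P₂ ≤ q) (e₁ : P₁.comap (algebraMap A B) = nilradical A)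
    (e₂ : P₂.comap (algebraMap A B) = nilradical A) : P₁ = P₂ := by
  obtain ⟨⟨hdom, hloc⟩, hins⟩ := hA
  haveI := hdom
  haveI := hloc
  haveI : IsIntegrallyClosed (CAlg2.normRed A) :=
    integralClosure.isIntegrallyClosedOfFiniteExtension (FractionRing (CAlg2.red A))
  haveI : Algebra.IsIntegral A (CAlg2.normRed A) := Algebra.IsIntegral.trans (CAlg2.red A)
  letI := Ideal.Quotient.field (IsLocalRing.maximalIdeal (CAlg2.normRed A))
  refine eq_of_le_of_etale' (C := CAlg2.normRed A) _ (fun x => hins _ x) ?_ q hq P₁ P₂ h₁ h₂ e₁ e₂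
  intro K _ _ hker
  let κ : CAlg2.red A →+* K :=
    Ideal.Quotient.lift (nilradical A) (algebraMap A K) fun a ha => RingHom.mem_ker.1 (hker.symm ▸ ha)
  have hκ : Function.Injective κ := (injective_iff_map_eq_zero κ).2 fun z hz => by
    obtain ⟨a, rfl⟩ := Ideal.Quotient.mk_surjective z
    rw [Ideal.Quotient.lift_mk] at hz
    exact Ideal.Quotient.eq_zero_iff_mem.2 (hker ▸ RingHom.mem_ker.2 hz)
  let ι : FractionRing (CAlg2.red A) →+* K := IsFractionRing.lift (A := CAlg2.red A) hκ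
  refine ⟨{ ι.comp (algebraMap (CAlg2.normRed A) (FractionRing (CAlg2.red A))) with
      commutes' := fun a => ?_ }, ι.injective.comp Subtype.val_injective⟩
  show ι (algebraMap (CAlg2.red A) _ (Ideal.Quotient.mk _ a)) = _
  rw [IsFractionRing.lift_algebraMap]
  exact Ideal.Quotient.lift_mk _ _ _

/-- The same over a ring which is geometrically unibranch at a prime. -/
theorem eq_of_le_of_etale_of_minimal {A L B : Type u} [CommRing A] [CommRing L] [IsLocalRing L] [Algebra A L]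
    [CommRing B] [Algebra A B] [Algebra.Etale A B] (p : Ideal A) [p.IsPrime] [IsLocalization.AtPrime L p]
    (hL : CAlg2.IsGeomUnibranch L) (q : Ideal B) [q.IsPrime] (hq : q.comap (algebraMap A B) = p)
    (P₁ P₂ : Ideal B) [P₁.IsPrime] [P₂.IsPrime] (h₁ : P₁ ≤ q) (h₂ : P₂ ≤ q)
    (m₁ : P₁.comap (algebraMap A B) ∈ minimalPrimes A) (m₂ : P₂.comap (algebraMap A B) ∈ minimalPrimes A) :
    P₁ = P₂ := by
  have hnil : (nilradical L).IsPrime := by
    haveI := hL.1.1
    exact Ideal.Quotient.isDomain_iff_prime _ |>.1 this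
  let i : B →+* L ⊗[A] B := (Algebra.TensorProduct.includeRight : B →ₐ[A] L ⊗[A] B).toRingHom
  have hsurj : ∀ z : L ⊗[A] B, ∃ (s : A) (b : B), s ∉ p ∧ algebraMap A (L ⊗[A] B) s * z = i b := by
    intro z
    induction z using TensorProduct.induction_on with
    | zero => exact ⟨1, 0, p.ne_top_iff_one.1 (Ideal.IsPrime.ne_top ‹_›), by simp⟩
    | tmul l b =>
      obtain ⟨⟨a, s⟩, hs⟩ := IsLocalization.surj p.primeCompl l
      refine ⟨s.1, a • b, s.2, ?_⟩
      rw [Algebra.TensorProduct.algebraMap_apply, Algebra.TensorProduct.tmul_mul_tmul, one_mul,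
        mul_comm, hs, Algebra.algebraMap_eq_smul_one, TensorProduct.smul_tmul]
      rfl
    | add x y hx hy =>
      obtain ⟨s, b, hs, hb⟩ := hx
      obtain ⟨t, c, ht, hc⟩ := hy
      refine ⟨s * t, algebraMap A B t * b + algebraMap A B s * c, fun h =>
        (Ideal.IsPrime.mem_or_mem ‹_› h).elim hs ht, ?_⟩
      rw [map_add, map_mul, map_mul, map_mul, ← hb, ← hc]
      simp only [i, AlgHom.toRingHom_eq_coe, RingHom.coe_coe, AlgHom.commutes]
      ring
  have main : ∀ P : Ideal B, P.IsPrime → P ≤ q → ∃ Q : Ideal (L ⊗[A] B), Q.IsPrime ∧ Q.comap i = P ∧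
      (Q.comap (algebraMap L (L ⊗[A] B))).comap (algebraMap A L) = P.comap (algebraMap A B) := by
    intro P _ hP
    have hu : ∀ s : p.primeCompl, IsUnit (IsScalarTower.toAlgHom A B P.ResidueField (algebraMap A B s.1)) :=
      fun s => by
        exact isUnit_iff_ne_zero.2 fun h => s.2
          (hq ▸ Ideal.mem_comap.2 (hP (Ideal.algebraMap_residueField_eq_zero.1 h)) :)
    let ψ : L →ₐ[A] P.ResidueField :=
      IsLocalization.liftAlgHom (M := p.primeCompl) (f := Algebra.ofId A P.ResidueField) fun s => by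
        have := hu s
        rwa [AlgHom.commutes] at this
    let Φ : L ⊗[A] B →ₐ[A] P.ResidueField :=
      Algebra.TensorProduct.lift ψ (IsScalarTower.toAlgHom A B P.ResidueField) fun _ _ => Commute.all _ _
    refine ⟨RingHom.ker Φ, RingHom.ker_isPrime _, ?_, ?_⟩
    · ext b
      rw [Ideal.mem_comap, RingHom.mem_ker, ← Ideal.algebraMap_residueField_eq_zero (I := P)]
      show Φ ((1 : L) ⊗ₜ[A] b) = 0 ↔ _
      simp [Φ]
    · rw [Ideal.comap_comap, ← IsScalarTower.algebraMap_eq]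
      ext a
      rw [Ideal.mem_comap, RingHom.mem_ker, AlgHom.commutes, Ideal.mem_comap,
        IsScalarTower.algebraMap_apply A B P.ResidueField, Ideal.algebraMap_residueField_eq_zero]
  obtain ⟨Qq, _, hQq, hQqA⟩ := main q inferInstance le_rfl
  obtain ⟨Q₁, _, hQ₁, hQ₁A⟩ := main P₁ inferInstance h₁
  obtain ⟨Q₂, _, hQ₂, hQ₂A⟩ := main P₂ inferInstance h₂
  have hle : ∀ (Q : Ideal (L ⊗[A] B)), Q.IsPrime → Q.comap i ≤ q → Q ≤ Qq := by
    intro Q hQ hQq' z hz
    obtain ⟨s, b, hs, hb⟩ := hsurj z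
    have : algebraMap A (L ⊗[A] B) s * z ∈ Qq := by
      rw [hb]
      have hbQ : b ∈ Q.comap i := show i b ∈ Q by rw [← hb]; exact Q.mul_mem_left _ hz
      exact show b ∈ Qq.comap i from hQq.symm ▸ hQq' hbQ
    refine (Ideal.IsPrime.mem_or_mem ‹_› this).resolve_left fun h => hs ?_
    rw [← hq, ← hQqA]
    exact show algebraMap L (L ⊗[A] B) (algebraMap A L s) ∈ Qq by
      rwa [← IsScalarTower.algebraMap_apply]
  have hcomap : ∀ J₁ J₂ : Ideal L, J₁.comap (algebraMap A L) = J₂.comap (algebraMap A L) → J₁ = J₂ :=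
    fun J₁ J₂ h => by
      exact (IsLocalization.map_under p.primeCompl L J₁).symm.trans ((congrArg (Ideal.map _) h).trans
        (IsLocalization.map_under p.primeCompl L J₂))
  have hq' : Qq.comap (algebraMap L (L ⊗[A] B)) = IsLocalRing.maximalIdeal L :=
    hcomap _ _ (by rw [hQqA, hq]; exact (IsLocalization.AtPrime.under_maximalIdeal L p).symm)
  have hmin : ∀ J : Ideal L, J.IsPrime → J.comap (algebraMap A L) ∈ minimalPrimes A → J = nilradical L := by
    intro J hJ hm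
    refine le_antisymm ?_ (nilradical_le_prime J)
    refine le_of_eq (hcomap _ _ ?_)
    exact le_antisymm (hm.2 ⟨Ideal.IsPrime.comap _, bot_le⟩ (Ideal.comap_mono (nilradical_le_prime J)))
      (Ideal.comap_mono (nilradical_le_prime J))
  have := eq_of_le_of_etale hL Qq hq' Q₁ Q₂ (hle _ inferInstance (hQ₁.trans_le h₁))
    (hle _ inferInstance (hQ₂.trans_le h₂)) (hmin _ inferInstance (hQ₁A ▸ m₁)) (hmin _ inferInstance (hQ₂A ▸ m₂))
  rw [← hQ₁, ← hQ₂, this]

end Groth.Agent.FlatMorWeight
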