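import Groth.Agent.FlatMorWeight.Sums
import Groth.Agent.FlatMorWeight.GeomUnibranch

/-! Universal openness of locally quasi-finite morphisms over geometrically unibranch schemes. -/

universe u

set_option backward.isDefEq.respectTransparency.types false

namespace Groth.Agent.FlatMorWeight

open AlgebraicGeometry CategoryTheory Limits TopologicalSpace

/-- `x` has no proper generalisation. -/
def IsMaximalPt {X : Scheme.{u}} (x : X) : Prop := ∀ z : X, z ⤳ x → z = x

theorem isMaximalPt_of_isGenericPoint {X : Scheme.{u}} {x : X} {W : Set X}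
    (hW : W ∈ irreducibleComponents X) (h : IsGenericPoint x W) : IsMaximalPt x := by
  intro z hz
  have hle : W ⊆ closure {z} := h ▸ closure_minimal (Set.singleton_subset_iff.2 hz.mem_closure) isClosed_closure
  exact IsGenericPoint.eq (le_antisymm (hW.2 isIrreducible_singleton.closure hle) hle) h

theorem exists_isMaximalPt_specializes {X : Scheme.{u}} (x : X) :
    ∃ η : X, η ⤳ x ∧ ∃ W ∈ irreducibleComponents X, IsGenericPoint η W := by
  have hc := irreducibleComponent_mem_irreducibleComponents x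
  have hirr : IsIrreducible (irreducibleComponent x) := isIrreducible_irreducibleComponent
  have hgen : IsGenericPoint hirr.genericPoint (irreducibleComponent x) := by
    have := hirr.isGenericPoint_genericPoint_closure
    rwa [isClosed_irreducibleComponent.closure_eq] at this
  exact ⟨_, hgen.specializes mem_irreducibleComponent, _, hc, hgen⟩

theorem IsMaximalPt.map_flat {X Y : Scheme.{u}} (g : X ⟶ Y) [Flat g] {x : X} (h : IsMaximalPt x) :
    IsMaximalPt (g x) := by
  intro z hz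
  obtain ⟨w, hw, rfl⟩ := Flat.generalizingMap g hz
  rw [h w hw]

theorem primeIdealOf_le_iff {X : Scheme.{u}} {U : X.Opens} (hU : IsAffineOpen U) (a b : U) :
    (hU.primeIdealOf a).asIdeal ≤ (hU.primeIdealOf b).asIdeal ↔ a.1 ⤳ b.1 := by
  refine (PrimeSpectrum.le_iff_specializes (hU.primeIdealOf a) (hU.primeIdealOf b)).trans ?_
  refine hU.fromSpec.isOpenEmbedding.isInducing.specializes_iff.symm.trans ?_
  rw [hU.fromSpec_primeIdealOf, hU.fromSpec_primeIdealOf]

theorem mem_minimalPrimes_primeIdealOf {X : Scheme.{u}} {U : X.Opens} (hU : IsAffineOpen U) (a : U)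
    (h : IsMaximalPt a.1) : (hU.primeIdealOf a).asIdeal ∈ minimalPrimes Γ(X, U) := by
  refine ⟨⟨inferInstance, bot_le⟩, fun J hJ hle => ?_⟩
  have := hJ.1
  have hs : hU.fromSpec ⟨J, hJ.1⟩ ⤳ a.1 := by
    rw [← hU.fromSpec_primeIdealOf a]
    exact hU.fromSpec.isOpenEmbedding.isInducing.specializes_iff.2
      ((PrimeSpectrum.le_iff_specializes ⟨J, hJ.1⟩ (hU.primeIdealOf a)).1 hle)
  have he : (⟨J, hJ.1⟩ : PrimeSpectrum Γ(X, U)) = hU.primeIdealOf a :=
    hU.fromSpec.isOpenEmbedding.injective ((h _ hs).trans (hU.fromSpec_primeIdealOf a).symm)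
  exact (congrArg PrimeSpectrum.asIdeal he).ge

/-- At a point over a geometrically unibranch point, an étale scheme has one maximal generalisation
over maximal points. -/
theorem eq_of_specializes_of_etale {V Y : Scheme.{u}} (g : V ⟶ Y) [Etale g] {v v₁ v₂ : V}
    (hY : CAlg2.IsGeomUnibranch (Y.presheaf.stalk (g v))) (h₁ : v₁ ⤳ v) (h₂ : v₂ ⤳ v)
    (m₁ : IsMaximalPt (g v₁)) (m₂ : IsMaximalPt (g v₂)) : v₁ = v₂ := by
  obtain ⟨W, hW, hyW, -⟩ := exists_isAffineOpen_mem_and_subset (x := g v) (U := ⊤) trivial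
  obtain ⟨N, hN, hvN, e⟩ := exists_isAffineOpen_mem_and_subset (x := v) (U := g ⁻¹ᵁ W) hyW
  algebraize [(g.appLE W N e).hom]
  haveI : Algebra.Etale Γ(Y, W) Γ(V, N) := by
    have := HasRingHomProperty.appLE (P := @Etale) g ‹_› ⟨W, hW⟩ ⟨N, hN⟩ e
    exact RingHom.etale_algebraMap.1 this
  have hv₁ : v₁ ∈ N := h₁.mem_open N.2 hvN
  have hv₂ : v₂ ∈ N := h₂.mem_open N.2 hvN
  let := Y.presheaf.algebra_section_stalk (⟨g v, hyW⟩ : W)
  have := hW.isLocalization_stalk ⟨g v, hyW⟩
  have hc : ∀ (w : V) (hw : w ∈ N), (hN.primeIdealOf ⟨w, hw⟩).asIdeal.comap (algebraMap Γ(Y, W) Γ(V, N)) =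
      (hW.primeIdealOf ⟨g w, e hw⟩).asIdeal := fun w hw =>
    congrArg PrimeSpectrum.asIdeal (IsAffineOpen.comap_primeIdealOf_appLE W hW N hN e hw)
  have := eq_of_le_of_etale_of_minimal (L := Y.presheaf.stalk (g v)) (hW.primeIdealOf ⟨g v, hyW⟩).asIdeal
    hY (hN.primeIdealOf ⟨v, hvN⟩).asIdeal (hc v hvN) (hN.primeIdealOf ⟨v₁, hv₁⟩).asIdeal
    (hN.primeIdealOf ⟨v₂, hv₂⟩).asIdeal ((primeIdealOf_le_iff hN _ _).2 h₁)
    ((primeIdealOf_le_iff hN _ _).2 h₂) (by rw [hc v₁ hv₁]; exact mem_minimalPrimes_primeIdealOf hW _ m₁)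
    (by rw [hc v₂ hv₂]; exact mem_minimalPrimes_primeIdealOf hW _ m₂)
  calc v₁ = hN.fromSpec (hN.primeIdealOf ⟨v₁, hv₁⟩) := (hN.fromSpec_primeIdealOf ⟨v₁, hv₁⟩).symm
    _ = hN.fromSpec (hN.primeIdealOf ⟨v₂, hv₂⟩) := congrArg hN.fromSpec (PrimeSpectrum.ext this)
    _ = v₂ := hN.fromSpec_primeIdealOf ⟨v₂, hv₂⟩

variable {X Y : Scheme.{u}} (f : X ⟶ Y)

/-- A finite piece over an étale neighbourhood meets every generalisation of its point. -/
theorem exists_mem_of_specializes {V : Scheme.{u}} (g : V ⟶ Y) [Etale g] (U : (pullback f g).Opens)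
    [IsFinite (U.ι ≫ pullback.snd f g)] (z : ↥(pullback f g)) (hz : z ∈ U)
    (hY : CAlg2.IsGeomUnibranch (Y.presheaf.stalk (g (pullback.snd f g z))))
    (hdom : ∀ x : X, IsMaximalPt x → IsMaximalPt (f x))
    (v₂ : V) (h : v₂ ⤳ pullback.snd f g z) : ∃ w ∈ U, pullback.snd f g w = v₂ := by
  obtain ⟨η, hη, W, hW, hgen⟩ := exists_isMaximalPt_specializes v₂
  obtain ⟨ζ, hζ, W', hW', hgen'⟩ := exists_isMaximalPt_specializes z
  have hζU : ζ ∈ U := hζ.mem_open U.2 hz
  have h1 : IsMaximalPt (g (pullback.snd f g ζ)) := by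
    rw [← Scheme.Hom.comp_apply, ← pullback.condition, Scheme.Hom.comp_apply]
    exact hdom _ ((isMaximalPt_of_isGenericPoint hW' hgen').map_flat _)
  have he : pullback.snd f g ζ = η := eq_of_specializes_of_etale g hY
    (hζ.map (pullback.snd f g).continuous) (hη.trans h) h1
    ((isMaximalPt_of_isGenericPoint hW hgen).map_flat g)
  obtain ⟨w, -, hw⟩ := (U.ι ≫ pullback.snd f g).isClosedMap.specializingMap (a := ⟨ζ, hζU⟩) (b := v₂)
    (by show pullback.snd f g ζ ⤳ v₂; rw [he]; exact hη)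
  exact ⟨w.1, w.2, hw⟩

theorem generalizingMap_baseChange [LocallyQuasiFinite f] [LocallyOfFiniteType f]
    (hY : ∀ y : Y, CAlg2.IsGeomUnibranch (Y.presheaf.stalk y))
    (hdom : ∀ x : X, IsMaximalPt x → IsMaximalPt (f x))
    {X' Y' : Scheme.{u}} (h : X' ⟶ X) (gY : Y' ⟶ Y) (f' : X' ⟶ Y') (hc : IsPullback h f' f gY) :
    GeneralizingMap f' := by
  intro x' y'' hy
  obtain ⟨Ω, _, _, xb', rfl⟩ := exists_geomPt' x'
  obtain ⟨V, g, vb, U, hg, hvb, hP⟩ := exists_piece f (xb' ≫ h)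
  haveI := hg
  let c' : pullback gY g ⟶ Y' := pullback.fst gY g
  let c : pullback gY g ⟶ V := pullback.snd gY g
  let vb' := pullback.lift (xb' ≫ f') vb (by rw [hvb, Category.assoc, Category.assoc, hc.w])
  obtain ⟨m, hm₁, hm₂, hfin, z', hz', hz'U, hz'x, huniq⟩ := hP.baseChange (c ≫ g) c rfl vb' (pullback.lift_snd _ _ _)
  haveI := hfin
  haveI := hP.1
  let π' := pullback.snd f (c ≫ g)
  let θ : pullback f (c ≫ g) ⟶ X' := hc.lift (pullback.fst _ _) (π' ≫ c') (by
    rw [pullback.condition, Category.assoc, pullback.condition])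
  have hsq : IsPullback m π' (pullback.snd f g) c := by
    refine IsPullback.of_right ?_ hm₂ (IsPullback.of_hasPullback f g)
    rw [hm₁]
    exact IsPullback.of_hasPullback f (c ≫ g)
  have hv' : π' (pt z') = pt vb' := by rw [← pt_comp, show z' ≫ π' = vb' from hz']
  obtain ⟨v'', hv'', rfl⟩ : ∃ v'', v'' ⤳ pt vb' ∧ c' v'' = y'' := by
    have : y'' ⤳ c' (pt vb') := by rwa [← pt_comp, pullback.lift_fst, pt_comp]
    exact Flat.generalizingMap c' this
  obtain ⟨w, hwU, hw⟩ := exists_mem_of_specializes f g U (m (pt z')) hz'U (hY _) hdom (c v'') (by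
    rw [← Scheme.Hom.comp_apply m, hm₂, Scheme.Hom.comp_apply, hv']
    exact hv''.map c.continuous)
  obtain ⟨w', hw'm, hw'π⟩ : ∃ w', m w' = w ∧ π' w' = v'' := by
    obtain ⟨a, ha₁, ha₂⟩ := Scheme.Pullback.exists_preimage_pullback w v'' hw
    refine ⟨hsq.isoPullback.inv a, ?_, ?_⟩
    · rw [← Scheme.Hom.comp_apply, hsq.isoPullback_inv_fst, ha₁]
    · rw [← Scheme.Hom.comp_apply, hsq.isoPullback_inv_snd, ha₂]
  obtain ⟨u, huw, hu⟩ := ((m ⁻¹ᵁ U).ι ≫ π').isClosedMap.specializingMap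
    (a := ⟨w', show m w' ∈ U by rw [hw'm]; exact hwU⟩) (b := pt vb') (by
      show π' w' ⤳ _; rw [hw'π]; exact hv'')
  haveI : LocallyQuasiFinite π' := MorphismProperty.pullback_snd _ _ inferInstance
  obtain ⟨q, hq, hqu⟩ := exists_GP_at π' vb' u.1 hu
  have hqz : q = z' := huniq q hq (hqu ▸ u.2)
  have hθ : θ u.1 = pt xb' := by
    rw [← hqu, hqz, ← pt_comp]
    congr 1
    refine hc.hom_ext ?_ ?_
    · rw [Category.assoc, hc.lift_fst, hz'x]
    · rw [Category.assoc, hc.lift_snd, ← Category.assoc, show z' ≫ π' = vb' from hz', pullback.lift_fst]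
  refine ⟨θ w', ?_, ?_⟩
  · show θ w' ⤳ pt xb'
    rw [← hθ]
    exact (huw.map ((m ⁻¹ᵁ U).ι.continuous)).map θ.continuous
  · rw [← Scheme.Hom.comp_apply, hc.lift_snd, Scheme.Hom.comp_apply, hw'π]

/-- Locally quasi-finite morphisms over locally Noetherian geometrically unibranch schemes whose
components dominate components are universally open. -/
theorem universallyOpen_of_geomUnibranch [LocallyQuasiFinite f] [LocallyOfFiniteType f]
    [IsLocallyNoetherian Y] (hY : ∀ y : Y, CAlg2.IsGeomUnibranch (Y.presheaf.stalk y))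
    (hdom : ∀ x : X, IsMaximalPt x → IsMaximalPt (f x)) : UniversallyOpen f := by
  refine ⟨fun X' Y' h gY f' hc => ?_⟩
  haveI : LocallyOfFinitePresentation f' := MorphismProperty.of_isPullback (P := @LocallyOfFinitePresentation) hc.flip inferInstance
  exact isOpenMap_of_generalizingMap f' (generalizingMap_baseChange f hY hdom h gY f' hc.flip)

end Groth.Agent.FlatMorWeight
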