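import Groth.Agent.S0021
import Groth.Agent.H8Lim.FiniteApprox
import Groth.Agent.H8Lim.ApproxFP
import Groth.Agent.H8Lim.SchemeDescent
import Groth.Agent.H8Lim.Descent
import Groth.Agent.EGA43.Limit.Properties

/-! Chevalley: the target of a finite surjective morphism with affine source is affine, for any
quasi-compact and quasi-separated target. -/

universe u

set_option autoImplicit false
set_option backward.isDefEq.respectTransparency false

namespace Groth.Agent.FlatMorWeight

open AlgebraicGeometry CategoryTheory CategoryTheory.Limits TopologicalSpace Groth.Agent.H8Lim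

theorem isAffine_of_finite_fp_surjective {X Y : Scheme.{u}} (f : X ⟶ Y) [IsFinite f]
    [LocallyOfFinitePresentation f] [Surjective f] [IsAffine X] [CompactSpace Y] [QuasiSeparatedSpace Y] :
    IsAffine Y := by
  obtain ⟨S₁, a, ha, hc, hqs, hN, -⟩ := exists_int_model Y
  let D := Family.diagram a
  let c := Family.cone a
  have hlim : IsLimit c := (Family.isLimit_cone a).some
  have : ∀ F, IsLocallyNoetherian (D.obj F) := fun F =>
    show IsLocallyNoetherian F.unop.alg.spec from LocallyOfFiniteType.isLocallyNoetherian F.unop.alg.π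
  have : ∀ F, CompactSpace (D.obj F) := fun F =>
    haveI := F.unop.alg.isAffineHom_π
    QuasiCompact.compactSpace_of_compactSpace F.unop.alg.π
  have : ∀ F, QuasiSeparatedSpace (D.obj F) := fun F =>
    haveI := F.unop.alg.isAffineHom_π
    quasiSeparatedSpace_of_quasiSeparated F.unop.alg.π
  have haff : ∀ {F G} (φ : F ⟶ G), IsAffineHom (D.map φ) := fun φ => Family.isAffineHom_map φ
  have : ∀ {F G} (φ : F ⟶ G), IsAffineHom (D.map φ) := haff
  obtain ⟨j, Z, h, q, _, _, _, sq⟩ := exists_stage_scheme (D := D) (c := c) hlim f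
  have hlft : LocallyOfFiniteType h := inferInstance
  obtain ⟨k, φ, hk⟩ := descends_isFinite D c hlim (fun φ => haff φ) j h hlft f q sq ‹IsFinite f›
  let h₁ := pullback.snd h (D.map φ)
  have : IsFinite h₁ := hk
  have e : q ≫ h = (f ≫ c.π.app k) ≫ D.map φ := by rw [sq.w, Category.assoc, c.w]
  have sq₁ := isPullback_later sq φ e
  obtain ⟨l, ψ, hl⟩ := EGA43.Limit.descends_surjective D c hlim k h₁ inferInstance _ f sq₁ ‹Surjective f›
  have : CompactSpace (pullback h (D.map φ) : Scheme.{u}) := QuasiCompact.compactSpace_of_compactSpace h₁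
  have : QuasiSeparatedSpace (pullback h (D.map φ) : Scheme.{u}) := quasiSeparatedSpace_of_quasiSeparated h₁
  let h₂ := pullback.snd h₁ (D.map ψ)
  have : Surjective h₂ := hl
  have : IsFinite h₂ := inferInstance
  have e₂ : pullback.lift q (f ≫ c.π.app k) e ≫ h₁ = (f ≫ c.π.app l) ≫ D.map ψ := by
    rw [pullback.lift_snd, Category.assoc, c.w]
  have sq₂ := isPullback_later sq₁ ψ e₂
  have : CompactSpace (pullback h₁ (D.map ψ) : Scheme.{u}) := QuasiCompact.compactSpace_of_compactSpace h₂
  have : QuasiSeparatedSpace (pullback h₁ (D.map ψ) : Scheme.{u}) := quasiSeparatedSpace_of_quasiSeparated h₂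
  have hS := EGA43.Limit.isLimitStageCone D c h₂ sq₂ hlim
  have : IsAffine (EGA43.Limit.stageCone D c h₂ sq₂).pt := ‹IsAffine X›
  have hc' : ∀ m : Over l, CompactSpace ((EGA43.Limit.stage D h₂).obj m) := fun m =>
    QuasiCompact.compactSpace_of_compactSpace (pullback.fst h₂ (D.map m.hom))
  have hq' : ∀ m : Over l, QuasiSeparatedSpace ((EGA43.Limit.stage D h₂).obj m) := fun m =>
    quasiSeparatedSpace_of_quasiSeparated (pullback.fst h₂ (D.map m.hom))
  have ha' : ∀ {m n : Over l} (χ : m ⟶ n), IsAffineHom ((EGA43.Limit.stage D h₂).map χ) := fun χ =>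
    MorphismProperty.of_isPullback (EGA43.Limit.stage_isPullback D h₂ χ).flip (haff χ.left)
  obtain ⟨m, hm⟩ := Scheme.exists_isAffine_of_isLimit _ _ hS
  have : IsAffine (pullback h₂ (D.map m.hom)) := hm
  have : IsNoetherian (D.obj m.left) := ⟨⟩
  have : IsAffine (D.obj m.left) := S0021.vanish (pullback.snd h₂ (D.map m.hom))
  have : IsAffineHom (c.π.app m.left) := isAffineHom_π_app D c hlim m.left
  exact isAffine_of_isAffineHom (c.π.app m.left)

theorem isAffine_of_finite_surjective {X Y : Scheme.{u}} (f : X ⟶ Y) [IsFinite f] [Surjective f]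
    [IsAffine X] [CompactSpace Y] [QuasiSeparatedSpace Y] : IsAffine Y := by
  obtain ⟨I, _, _, _, D, c, hc, hD, htr, hcl, ⟨e⟩⟩ := exists_limit_finite_finitePresentation f
  let E := D ⋙ Over.forget Y
  let cE : Cone E := (Over.forget Y).mapCone c
  have : IsConnected Iᵒᵖ := IsCofiltered.isConnected _
  have hE : IsLimit cE := isLimitOfPreserves (Over.forget Y) hc
  have haff : ∀ {i j : Iᵒᵖ} (g : i ⟶ j), IsAffineHom (E.map g) := fun g => by
    have := htr _ _ g
    exact inferInstanceAs (IsAffineHom (D.map g).left)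
  have hfin : ∀ i, IsFinite (D.obj i).hom := fun i => (hD i).1
  have : ∀ i, CompactSpace (E.obj i) := fun i =>
    haveI := hfin i
    QuasiCompact.compactSpace_of_compactSpace (D.obj i).hom
  have : ∀ i, QuasiSeparatedSpace (E.obj i) := fun i =>
    haveI := hfin i
    quasiSeparatedSpace_of_quasiSeparated (D.obj i).hom
  let e' : cE.pt ≅ X := (Over.forget Y).mapIso e
  have : IsAffine cE.pt := .of_isIso e'.hom
  obtain ⟨i, hi⟩ := Scheme.exists_isAffine_of_isLimit E cE hE
  have : IsAffine (D.obj i).left := hi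
  have := hfin i
  have := (hD i).2
  have : Surjective (D.obj i).hom := by
    have hw : (e'.inv ≫ (c.π.app i).left) ≫ (D.obj i).hom = f := by
      have h1 : (c.π.app i).left ≫ (D.obj i).hom = c.pt.hom := Over.w (c.π.app i)
      have h2 : e'.hom ≫ f = c.pt.hom := Over.w e.hom
      rw [Category.assoc, h1, ← h2, Iso.inv_hom_id_assoc]
    exact ⟨fun y => by
      obtain ⟨x, rfl⟩ := f.surjective y
      exact ⟨(e'.inv ≫ (c.π.app i).left) x, by rw [← Scheme.Hom.comp_apply, hw]⟩⟩
  exact isAffine_of_finite_fp_surjective (D.obj i).hom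

end Groth.Agent.FlatMorWeight
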