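import Groth.Agent.FlatMorWeight.Sums
import Groth.Agent.Et18.Descent

/-! Consequences of positivity of a weighting. -/

universe u

set_option backward.isDefEq.respectTransparency.types false

namespace Groth.Agent.FlatMorWeight

open AlgebraicGeometry CategoryTheory Limits TopologicalSpace

variable {X Y : Scheme.{u}} {f : X ⟶ Y} [LocallyQuasiFinite f] [LocallyOfFiniteType f] {w : X → ℤ}

theorem upperSemicontinuous (hw : MoreMor.IsWeighting f w) (hpos : ∀ x, 0 < w x) :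
    UpperSemicontinuous w := by
  intro x b hb
  obtain ⟨_, _, _, xb, rfl⟩ := exists_geomPt' x
  obtain ⟨V, g, vb, U, hg, -, hP⟩ := exists_piece f xb
  haveI := hg
  obtain ⟨z, hz, hzx, -⟩ := isSingle_of_isPiece hP
  obtain ⟨N, hN, hN'⟩ := single_sum_eventually hw g U hz
  rw [eventually_nhds_iff]
  refine ⟨pullback.fst f g '' ((U ⊓ pullback.snd f g ⁻¹ᵁ N : (pullback f g).Opens) : Set _), ?_,
    (pullback.fst f g).isOpenMap _ (Opens.isOpen _),
    ⟨pt z, show pt z ∈ U ⊓ pullback.snd f g ⁻¹ᵁ N from ⟨hz.2.1, hN⟩, by rw [← pt_comp, hzx]⟩⟩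
  rintro _ ⟨q, ⟨hqU, hqN⟩, rfl⟩
  obtain ⟨_, _, _, v₁, hv₁⟩ := exists_geomPt' (pullback.snd f g q)
  obtain ⟨y, hy, rfl⟩ := exists_GP_at (pullback.snd f g) v₁ q hv₁.symm
  obtain ⟨hfin, hsum⟩ := hN' v₁ (hv₁ ▸ hqN)
  rw [finsum_mem_eq_finite_toFinset_sum _ hfin, ← pt_comp z, hzx] at hsum
  refine lt_of_le_of_lt ?_ hb
  rw [← hsum]
  exact Finset.single_le_sum (f := fun y => w (pullback.fst f g (pt y)))
    (fun y _ => (hpos _).le) (hfin.mem_toFinset.2 ⟨hy, hqU⟩)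

theorem universallyOpen (hw : MoreMor.IsWeighting f w) (hpos : ∀ x, 0 < w x) : UniversallyOpen f := by
  refine ⟨fun X' Y' h gY f' hc => ?_⟩
  intro W hW
  rw [isOpen_iff_forall_mem_open]
  rintro _ ⟨x', hx', rfl⟩
  obtain ⟨Ω, _, _, xb', rfl⟩ := exists_geomPt' x'
  obtain ⟨V, g, vb, U, hg, hvb, hP⟩ := exists_piece f (xb' ≫ h)
  haveI := hg
  obtain ⟨z, hz, hzx, hzv⟩ := isSingle_of_isPiece hP
  obtain ⟨N₂, hN₂, hN₂'⟩ := single_sum_eventually hw g U hz
  let c' : pullback gY g ⟶ Y' := pullback.fst gY g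
  let c : pullback gY g ⟶ V := pullback.snd gY g
  haveI : Etale c' := inferInstance
  let vb' := pullback.lift (xb' ≫ f') vb (by rw [hvb, Category.assoc, Category.assoc, hc.w])
  let π' := pullback.snd f (c ≫ g)
  let θ : pullback f (c ≫ g) ⟶ X' := hc.lift (π' ≫ c') (pullback.fst _ _) (by
    rw [pullback.condition, Category.assoc, pullback.condition])
  let hsq := isPullback_bcMap f g c
  let z' := hsq.lift z vb' (by rw [hzv, pullback.lift_snd])
  have hz'm : z' ≫ bcMap f g c = z := hsq.lift_fst _ _ _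
  have hz'v : z' ≫ π' = vb' := hsq.lift_snd _ _ _
  have hz'θ : z' ≫ θ = xb' := by
    refine hc.hom_ext ?_ ?_
    · rw [Category.assoc, hc.lift_fst, ← Category.assoc, hz'v, pullback.lift_fst]
    · rw [Category.assoc, hc.lift_snd, ← bcMap_fst, ← Category.assoc, hz'm, hzx]
  have hs' := isSingle_bc hsq hz z' hz'm
  obtain ⟨N₁, hN₁, hN₁'⟩ := hs'.exists_nhds π' (θ ⁻¹' W) (hW.preimage θ.continuous) (by
    show θ (pt z') ∈ W
    rw [← pt_comp, hz'θ]; exact hx')
  let N : (pullback gY g).Opens := N₁ ⊓ c ⁻¹ᵁ N₂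
  refine ⟨c' '' N, ?_, c'.isOpenMap _ N.isOpen, pt vb', ⟨?_, ?_⟩, ?_⟩
  · rintro _ ⟨v₁, ⟨h₁, h₂⟩, rfl⟩
    obtain ⟨_, _, _, u₁, rfl⟩ := exists_geomPt' v₁
    obtain ⟨-, hsum⟩ := hN₂' (u₁ ≫ c) h₂
    obtain ⟨y, hy⟩ : (GPIn (pullback.snd f g) U (u₁ ≫ c)).Nonempty := by
      by_contra hne
      rw [Set.not_nonempty_iff_eq_empty.1 hne, finsum_mem_empty] at hsum
      exact (hpos _).ne hsum
    obtain ⟨q, hq, -⟩ := (bijOn_GPIn hsq U u₁).surjOn hy
    have hqπ : π' (pt q) = pt u₁ := by rw [← pt_comp, show q ≫ π' = u₁ from hq.1]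
    refine ⟨θ (pt q), hN₁' _ hq.2 (by rw [hqπ]; exact h₁), ?_⟩
    show (θ ≫ f') (pt q) = _
    rw [hc.lift_fst, Scheme.Hom.comp_apply, hqπ]
  · rw [← hz'v, pt_comp]; exact hN₁
  · show c (pt vb') ∈ N₂
    rw [← pt_comp, pullback.lift_snd, ← hzv, pt_comp]; exact hN₂
  · rw [← pt_comp, pullback.lift_fst, pt_comp]

/-- The common setting for separated morphisms with finite fibres: near `y`, after an étale
localisation, disjoint pieces carry the whole fibre integral. -/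
theorem exists_pieces_sum [IsSeparated f] (hfin : ∀ y : Y, (f ⁻¹' {y}).Finite)
    (hw : MoreMor.IsWeighting f w) (hpos : ∀ x, 0 < w x) (y : Y) :
    ∃ (V : Scheme.{u}) (g : V ⟶ Y) (N : V.Opens) (κ : Type u) (_ : Fintype κ)
      (U : κ → (pullback f g).Opens),
      Etale g ∧ y ∈ g '' N ∧ (∀ k, IsFinite ((U k).ι ≫ pullback.snd f g)) ∧
      ∀ v ∈ N, MoreMor.fibreIntegral f w y ≤ MoreMor.fibreIntegral f w (g v) ∧
        (MoreMor.fibreIntegral f w y = MoreMor.fibreIntegral f w (g v) →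
          ∀ q, pullback.snd f g q = v → ∃ k, q ∈ U k) := by
  classical
  obtain ⟨Ω, _, _, yb, rfl⟩ := exists_geomPt' y
  have hS := finite_GP f yb (hfin _)
  obtain ⟨V, g, vb, U, hg, hvb, hU⟩ := exists_pieces f hS (yb := yb) fun z hz => hz
  haveI := hg
  let π := pullback.snd f g
  let κ := {z // z ∈ hS.toFinset}
  have hsingle : ∀ k : κ, ∃ z₁, IsSingle π (U k.1) z₁ ∧ z₁ ≫ pullback.fst f g = k.1 ∧ z₁ ≫ π = vb :=
    fun k => isSingle_of_isPiece (hU k.1 (hS.mem_toFinset.1 k.2))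
  choose z hz hzx hzv using hsingle
  haveI : IsSeparated ((⊤ : (pullback f g).Opens).ι ≫ π) := inferInstance
  obtain ⟨N₁, hN₁, -, hN₁d⟩ := exists_disjoint_nhds π ⊤ (Finset.univ : Finset κ) (fun k => U k.1) z vb
    (fun k _ => hzv k) (fun k _ => hz k) (fun _ _ => trivial)
    (fun k _ k' _ e => Subtype.ext (by rw [← hzx k, ← hzx k', e]))
  have hw' := fun k => single_sum_eventually hw g (U k.1) (hz k)
  choose N₂ hN₂ hN₂' using hw'
  let N : V.Opens := N₁ ⊓ (Finset.univ : Finset κ).inf N₂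
  refine ⟨V, g, N, κ, inferInstance, fun k => U k.1, hg, ⟨pt vb, ⟨hN₁, ?_⟩, by rw [← pt_comp, hvb]⟩,
    fun k => (hz k).1, fun v hv => ?_⟩
  · rw [Opens.coe_finset_inf, Finset.inf_set_eq_iInter]
    exact Set.mem_iInter₂.2 fun k _ => by rw [← hzv k, pt_comp]; exact hN₂ k
  obtain ⟨_, _, _, v₁, rfl⟩ := exists_geomPt' v
  have hA : (GP _ π v₁).Finite := Set.Finite.of_injOn (f := fun z => z ≫ pullback.fst f g)
    (by rw [← GPIn_top π]
        exact fun q hq => ((bijOn_GPIn (IsPullback.of_hasPullback f g) ⊤ v₁).mapsTo hq).1)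
    (by rw [← GPIn_top π]
        exact (bijOn_GPIn (IsPullback.of_hasPullback f g) ⊤ v₁).injOn)
    (finite_GP f (v₁ ≫ g) (hfin _))
  have hint : MoreMor.fibreIntegral f w (g (pt v₁)) = ∑ q ∈ hA.toFinset, w (pullback.fst f g (pt q)) := by
    rw [← pt_comp, fibreIntegral_eq_finsum f (v₁ ≫ g) (hfin _), ← GPIn_top f, ← finsum_GPIn_bc
      (IsPullback.of_hasPullback f g) ⊤ v₁ w, ← finsum_mem_eq_finite_toFinset_sum _ hA]
    exact finsum_mem_congr (GPIn_top π v₁) fun _ _ => rfl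
  let B : κ → Finset _ := fun k => hA.toFinset.filter fun q => pt q ∈ U k.1
  have hB : ∀ k, ∑ q ∈ B k, w (pullback.fst f g (pt q)) = w (pt k.1) := fun k => by
    obtain ⟨hf', hs⟩ := hN₂' k v₁ ((Finset.inf_le (Finset.mem_univ k) : _ ≤ N₂ k) hv.2)
    rw [← pt_comp (z k), hzx k] at hs
    rw [← hs, finsum_mem_eq_finite_toFinset_sum _ hf']
    refine Finset.sum_congr ?_ fun _ _ => rfl
    ext q
    simp [B, GPIn, π]
  have hdisj : ((Finset.univ : Finset κ) : Set κ).PairwiseDisjoint B := fun k _ k' _ hne =>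
    Finset.disjoint_left.2 fun q hq hq' => by
      simp only [B, Finset.mem_filter, Set.Finite.mem_toFinset] at hq hq'
      exact hN₁d k (Finset.mem_univ _) k' (Finset.mem_univ _) hne (pt q) hq.2
        (by rw [← pt_comp, show q ≫ π = v₁ from hq.1]; exact hv.1) hq'.2
  have hy : MoreMor.fibreIntegral f w (pt yb) = ∑ q ∈ (Finset.univ : Finset κ).biUnion B,
      w (pullback.fst f g (pt q)) := by
    rw [Finset.sum_biUnion hdisj, Finset.sum_congr rfl fun k _ => hB k, fibreIntegral_eq_finsum f yb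
      (hfin _), finsum_mem_eq_finite_toFinset_sum _ hS]
    exact (Finset.sum_coe_sort hS.toFinset fun i => w (pt i)).symm
  have hsub : (Finset.univ : Finset κ).biUnion B ⊆ hA.toFinset :=
    Finset.biUnion_subset.2 fun k _ => Finset.filter_subset _ _
  rw [hint, hy]
  refine ⟨Finset.sum_le_sum_of_subset_of_nonneg hsub fun q _ _ => (hpos _).le, fun heq q hq => ?_⟩
  obtain ⟨q₁, hq₁, rfl⟩ := exists_GP_at π v₁ q hq
  by_contra hne
  have hmem : q₁ ∈ hA.toFinset \ (Finset.univ : Finset κ).biUnion B := by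
    simp only [Finset.mem_sdiff, Set.Finite.mem_toFinset, Finset.mem_biUnion, B, Finset.mem_filter]
    exact ⟨hq₁, fun ⟨k, _, _, hk⟩ => hne ⟨k, hk⟩⟩
  rw [← Finset.sum_sdiff hsub, eq_comm, add_eq_right] at heq
  exact (Finset.sum_pos (fun q _ => hpos _) ⟨q₁, hmem⟩).ne' heq

theorem lowerSemicontinuous [IsSeparated f] (hfin : ∀ y : Y, (f ⁻¹' {y}).Finite)
    (hw : MoreMor.IsWeighting f w) (hpos : ∀ x, 0 < w x) :
    LowerSemicontinuous (MoreMor.fibreIntegral f w) := by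
  intro y b hb
  obtain ⟨V, g, N, κ, _, U, hg, hy, -, hN⟩ := exists_pieces_sum hfin hw hpos y
  haveI := hg
  rw [eventually_nhds_iff]
  refine ⟨g '' N, ?_, g.isOpenMap _ N.isOpen, hy⟩
  rintro _ ⟨v, hv, rfl⟩
  exact lt_of_lt_of_le hb (hN v hv).1

theorem isFinite_of_opens_cover {P V : Scheme.{u}} (π : P ⟶ V) [IsSeparated π] [LocallyQuasiFinite π]
    [LocallyOfFiniteType π] {κ : Type*} (s : Finset κ) (U : κ → P.Opens)
    (h : ∀ k ∈ s, IsFinite ((U k).ι ≫ π)) : IsFinite ((s.sup U).ι ≫ π) := by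
  classical
  induction s using Finset.induction_on with
  | empty =>
    haveI : IsEmpty ((∅ : Finset κ).sup U).toScheme := ⟨fun q => by
      have key : ∀ p : P, p ∉ (∅ : Finset κ).sup U := fun p h => by
        rw [Finset.sup_empty] at h; exact h
      exact key q.1 q.2⟩
    infer_instance
  | @insert a t _ ih =>
    rw [Finset.sup_insert]
    haveI := h a (Finset.mem_insert_self _ _)
    haveI := ih fun k hk => h k (Finset.mem_insert_of_mem hk)
    let p : (U a).toScheme ⨿ (t.sup U).toScheme ⟶ (U a ⊔ t.sup U).toScheme :=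
      coprod.desc (P.homOfLE le_sup_left) (P.homOfLE le_sup_right)
    have hp : p ≫ (U a ⊔ t.sup U).ι ≫ π = coprod.desc ((U a).ι ≫ π) ((t.sup U).ι ≫ π) := by
      ext1 <;> simp [p]
    haveI : Surjective p := ⟨fun q => by
      rcases (Opens.mem_sup.1 q.2) with hq | hq
      · refine ⟨(coprod.inl : (U a).toScheme ⟶ _) ⟨q.1, hq⟩, ?_⟩
        exact (congrArg (fun m : (U a).toScheme ⟶ _ => m ⟨q.1, hq⟩) (coprod.inl_desc
          (P.homOfLE le_sup_left) (P.homOfLE le_sup_right))).trans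
            (Subtype.ext (Scheme.homOfLE_apply _ _))
      · refine ⟨(coprod.inr : (t.sup U).toScheme ⟶ _) ⟨q.1, hq⟩, ?_⟩
        exact (congrArg (fun m : (t.sup U).toScheme ⟶ _ => m ⟨q.1, hq⟩) (coprod.inr_desc
          (P.homOfLE le_sup_left) (P.homOfLE le_sup_right))).trans
            (Subtype.ext (Scheme.homOfLE_apply _ _))⟩
    haveI : UniversallyClosed (p ≫ (U a ⊔ t.sup U).ι ≫ π) := by rw [hp]; infer_instance
    haveI := UniversallyClosed.of_comp_surjective p ((U a ⊔ t.sup U).ι ≫ π)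
    haveI : IsProper ((U a ⊔ t.sup U).ι ≫ π) := ⟨⟩
    exact .of_isProper_of_locallyQuasiFinite _

theorem finite_over_max [IsSeparated f] (hfin : ∀ y : Y, (f ⁻¹' {y}).Finite)
    (hw : MoreMor.IsWeighting f w) (hpos : ∀ x, 0 < w x) (d : ℤ)
    (hmax : ∀ y : Y, MoreMor.fibreIntegral f w y ≤ d) :
    ∃ hYd : IsOpen {y : Y | MoreMor.fibreIntegral f w y = d},
      IsFinite (f ∣_ ⟨{y : Y | MoreMor.fibreIntegral f w y = d}, hYd⟩) := by
  classical
  have hYd : IsOpen {y : Y | MoreMor.fibreIntegral f w y = d} := by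
    have : {y : Y | MoreMor.fibreIntegral f w y = d} = MoreMor.fibreIntegral f w ⁻¹' Set.Ioi (d - 1) :=
      Set.ext fun y => by
        simp only [Set.mem_setOf_eq, Set.mem_preimage, Set.mem_Ioi]
        have := hmax y; omega
    rw [this]
    exact lowerSemicontinuous_iff_isOpen_preimage.1 (lowerSemicontinuous hfin hw hpos) _
  refine ⟨hYd, ?_⟩
  set Yd : Y.Opens := ⟨_, hYd⟩
  have hcov : ∀ y : Yd, ∃ O : Y.Opens, y.1 ∈ O ∧ O ≤ Yd ∧ IsFinite (f ∣_ O) := by
    intro y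
    obtain ⟨V, g, N, κ, _, U, hg, ⟨v₀, hv₀, hv₀y⟩, hUf, hN⟩ := exists_pieces_sum hfin hw hpos y.1
    haveI := hg
    let N' : V.Opens := N ⊓ g ⁻¹ᵁ Yd
    let O : Y.Opens := ⟨g '' N', g.isOpenMap _ N'.isOpen⟩
    refine ⟨O, ⟨v₀, ⟨hv₀, by show g v₀ ∈ Yd; rw [hv₀y]; exact y.2⟩, hv₀y⟩,
      by rintro _ ⟨v, hv, rfl⟩; exact hv.2, ?_⟩
    let q : N'.toScheme ⟶ O.toScheme := g.resLE O N' fun v hv => ⟨v, hv, rfl⟩
    have hqι : q ≫ O.ι = N'.ι ≫ g := Scheme.Hom.resLE_comp_ι _ _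
    haveI : Etale q := by
      haveI : Etale (q ≫ O.ι) := by rw [hqι]; infer_instance
      exact Etale.of_comp q O.ι
    haveI : Surjective q := ⟨fun o => by
      obtain ⟨v, hv, hvo⟩ := o.2
      refine ⟨⟨v, hv⟩, O.ι.isOpenEmbedding.injective ?_⟩
      exact (congrArg (fun m : N'.toScheme ⟶ _ => m ⟨v, hv⟩) hqι).trans hvo⟩
    let π := pullback.snd f g
    haveI := isFinite_of_opens_cover π Finset.univ U fun k _ => hUf k
    have hall : π ⁻¹ᵁ N' ≤ (Finset.univ : Finset κ).sup U := by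
      intro p hp
      obtain ⟨k, hk⟩ := (hN _ hp.1).2 (y.2.trans hp.2.symm) p rfl
      exact (Finset.le_sup (Finset.mem_univ k) : U k ≤ _) hk
    haveI : IsFinite (π ∣_ N') := by
      let A := (Finset.univ : Finset κ).sup U
      have hA : IsFinite ((A.ι ≫ π) ∣_ N') :=
        MorphismProperty.of_isPullback (P := @IsFinite) (isPullback_morphismRestrict (A.ι ≫ π) N').flip
          ‹_›
      haveI : IsIso (A.ι ∣_ π ⁻¹ᵁ N') := by
        have : Surjective (A.ι ∣_ π ⁻¹ᵁ N') := ⟨fun p =>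
          let x : (A.ι ⁻¹ᵁ π ⁻¹ᵁ N').toScheme := ⟨⟨p.1, hall p.2⟩, p.2⟩
          ⟨x, Subtype.ext ((congrArg (fun m : (A.ι ⁻¹ᵁ π ⁻¹ᵁ N').toScheme ⟶ pullback f g => m x)
            (morphismRestrict_ι A.ι (π ⁻¹ᵁ N'))).trans rfl)⟩⟩
        exact (isIso_iff_isOpenImmersion_and_surjective _).2 ⟨inferInstance, this⟩
      have : π ∣_ N' = inv (A.ι ∣_ π ⁻¹ᵁ N') ≫ ((A.ι ≫ π) ∣_ N') := by
        rw [morphismRestrict_comp, IsIso.inv_hom_id_assoc]
      rw [this]
      exact MorphismProperty.comp_mem (W := @IsFinite) _ _ inferInstance hA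
    have hsqA := (isPullback_morphismRestrict π N').flip.paste_horiz (IsPullback.of_hasPullback f g)
    have hsq : IsPullback (pullback.snd (f ∣_ O) q) (pullback.fst (f ∣_ O) q) q (f ∣_ O) :=
      (IsPullback.of_hasPullback _ _).flip
    have hsqB : IsPullback (pullback.fst (f ∣_ O) q ≫ (f ⁻¹ᵁ O).ι) (pullback.snd (f ∣_ O) q) f
        (N'.ι ≫ g) := by
      have := hsq.flip.paste_horiz (isPullback_morphismRestrict f O).flip
      rwa [hqι] at this
    haveI : IsFinite (pullback.snd (f ∣_ O) q) := by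
      rw [show pullback.snd (f ∣_ O) q = (hsqB.isoIsPullback _ _ hsqA).hom ≫ (π ∣_ N') from
        (hsqB.isoIsPullback_hom_snd _ _ hsqA).symm]
      infer_instance
    haveI := Et18.descends_isFinite.{u}
    exact MorphismProperty.of_pullback_snd_of_descendsAlong (P := @IsFinite) (Q := @Surjective ⊓ @Flat ⊓ @LocallyOfFinitePresentation)
      (f := f ∣_ O) (g := q) ⟨⟨‹_›, inferInstance⟩, inferInstance⟩ ‹_›
  choose O hyO hOle hOfin using hcov
  have htop : ⨆ y, (Yd.ι ⁻¹ᵁ O y) = (⊤ : Yd.toScheme.Opens) :=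
    top_le_iff.1 fun y _ => Opens.mem_iSup.2 ⟨y, hyO y⟩
  refine (IsZariskiLocalAtTarget.iff_of_iSup_eq_top (P := @IsFinite) _ htop).2 fun y => ?_
  refine (MorphismProperty.arrow_mk_iso_iff (@IsFinite) (morphismRestrictRestrict f Yd (Yd.ι ⁻¹ᵁ O y))).2 ?_
  rw [Scheme.Hom.image_preimage_eq_opensRange_inf, Scheme.Opens.opensRange_ι, inf_eq_right.2 (hOle y)]
  exact hOfin y

end Groth.Agent.FlatMorWeight
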