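import Groth.Agent.FlatMorWeight.Sums
import Groth.Agent.H8ProCons.Image
import Groth.Agent.H8Lim.Unramified

/-! Level sets of weightings are locally constructible. -/

universe u

namespace Groth.Agent.FlatMorWeight

open AlgebraicGeometry CategoryTheory Limits TopologicalSpace Groth.Agent.H8ProCons

variable {X Y : Scheme.{u}} {f : X ⟶ Y} {w : X → ℤ}

theorem isIndConstructible_inter {X : Scheme.{u}} {E F : Set X} (hE : ProCons.IsIndConstructible E)
    (hF : ProCons.IsIndConstructible F) : ProCons.IsIndConstructible (E ∩ F) := by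
  refine isIndConstructible_of_forall_nhd fun x hx => ?_
  obtain ⟨_, ⟨W, hW, rfl⟩, hxW, -⟩ :=
    X.isBasis_affineOpens.exists_subset_of_mem_open (Set.mem_univ x) isOpen_univ
  obtain ⟨C, hC, hxC, hCE⟩ := exists_constructible_nhd hE hW hxW hx.1
  obtain ⟨D, hD, hxD, hDF⟩ := exists_constructible_nhd hF hW hxW hx.2
  exact ⟨W, hW, C ∩ D, hC.inter hD, ⟨⟨x, hxW⟩, ⟨hxC, hxD⟩, rfl⟩,
    Set.image_subset_iff.2 fun y hy => ⟨hCE hy.1, hDF hy.2⟩⟩

theorem isIndConstructible_of_forall_subset {X : Scheme.{u}} {E : Set X}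
    (h : ∀ x ∈ E, ∃ F, ProCons.IsIndConstructible F ∧ x ∈ F ∧ F ⊆ E) :
    ProCons.IsIndConstructible E := by
  refine isIndConstructible_of_forall_nhd fun x hx => ?_
  obtain ⟨F, hF, hxF, hFE⟩ := h x hx
  obtain ⟨_, ⟨W, hW, rfl⟩, hxW, -⟩ :=
    X.isBasis_affineOpens.exists_subset_of_mem_open (Set.mem_univ x) isOpen_univ
  obtain ⟨C, hC, hxC, hCF⟩ := exists_constructible_nhd hF hW hxW hxF
  exact ⟨W, hW, C, hC, ⟨⟨x, hxW⟩, hxC, rfl⟩, Set.image_subset_iff.2 fun y hy => hFE (hCF hy)⟩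

/-- For a finite `π`, the set of `v` whose geometric fibre has at most one point is ind-constructible. -/
theorem isIndConstructible_atMostOne {U V : Scheme.{u}} (π : U ⟶ V) [IsFinite π] :
    ∃ S : Set V, ProCons.IsIndConstructible S ∧ ∀ v, v ∈ S ↔
      ∀ (Ω : Type u) [Field Ω] [IsAlgClosed Ω] (vb : Spec (CommRingCat.of Ω) ⟶ V), pt vb = v →
        (GP Ω π vb).Subsingleton := by
  let Δ := pullback.diagonal π
  let p : pullback π π ⟶ V := pullback.fst π π ≫ π
  haveI : LocallyOfFinitePresentation Δ := H8Lim.locallyOfFinitePresentation_diagonal π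
  let E : Set ↥(pullback π π) := (Set.range Δ)ᶜ
  have hE : ProCons.IsProConstructible E := by
    refine isProConstructible_iff_compl.2 ?_
    rw [compl_compl, ← Set.image_univ]
    exact isIndConstructible_image Δ (isIndConstructible_of_isOpen isOpen_univ)
  refine ⟨(p '' E)ᶜ, isProConstructible_iff_compl.1 (isProConstructible_image p hE), fun v => ⟨?_, ?_⟩⟩
  · intro hv Ω _ _ vb hvb y₁ h₁ y₂ h₂
    let e := pullback.lift y₁ y₂ ((show y₁ ≫ π = vb from h₁).trans (show y₂ ≫ π = vb from h₂).symm)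
    by_cases he : pt e ∈ Set.range Δ
    · obtain ⟨a, ha⟩ := he
      obtain ⟨y, hy, -⟩ := exists_GP_at Δ e a ha
      have e1 : e ≫ pullback.fst π π = y₁ := pullback.lift_fst _ _ _
      have e2 : e ≫ pullback.snd π π = y₂ := pullback.lift_snd _ _ _
      rw [← e1, ← e2, ← show y ≫ Δ = e from hy, Category.assoc, Category.assoc,
        pullback.diagonal_fst, pullback.diagonal_snd]
    · refine absurd ⟨pt e, he, ?_⟩ hv
      show p (pt e) = v
      rw [← hvb, ← pt_comp, ← Category.assoc, pullback.lift_fst]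
      exact congrArg pt (show y₁ ≫ π = vb from h₁)
  · rintro h ⟨e, he, rfl⟩
    obtain ⟨Ω, _, _, eb, rfl⟩ := exists_geomPt' e
    have := h Ω (eb ≫ p) (pt_comp _ _) (x := eb ≫ pullback.fst π π) (Category.assoc _ _ _)
      (y := eb ≫ pullback.snd π π) (show (eb ≫ pullback.snd π π) ≫ π = eb ≫ p by
        rw [Category.assoc, ← pullback.condition])
    refine he ⟨pt (eb ≫ pullback.fst π π), ?_⟩
    rw [← pt_comp]
    congr 1
    refine pullback.hom_ext ?_ ?_
    · rw [Category.assoc, pullback.diagonal_fst, Category.comp_id]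
    · rw [Category.assoc, pullback.diagonal_snd, Category.comp_id, this]

/-- Having one geometric point over a point does not depend on the algebraically closed field. -/
theorem subsingleton_GP {P V : Scheme.{u}} (π : P ⟶ V) [LocallyQuasiFinite π] {U : P.Opens}
    {Ω : Type u} [Field Ω] [IsAlgClosed Ω] {z : Spec (CommRingCat.of Ω) ⟶ P} (h : IsSingle π U z)
    (Ω' : Type u) [Field Ω'] [IsAlgClosed Ω'] (v : Spec (CommRingCat.of Ω') ⟶ V)
    (hv : pt v = π (pt z)) : (GPIn π U v).Subsingleton := by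
  have key : ∀ y ∈ GPIn π U v, pt y = pt z := fun y hy => mem_of_fibre π h hy.2 (by
    rw [← pt_comp, show y ≫ π = v from hy.1, hv])
  intro a ha b hb
  obtain ⟨h1, h2, -⟩ := card_GP_at π (z ≫ π) (pt z) (pt_comp z π).symm
  obtain ⟨h1', h2', -⟩ := card_GP_at π v (pt z) hv.symm
  have hone : Nat.card {y : Spec (CommRingCat.of Ω) ⟶ P // y ≫ π = z ≫ π ∧ pt y = pt z} = 1 := by
    rw [Nat.card_eq_one_iff_unique]
    exact ⟨⟨fun a b => Subtype.ext ((h.2.2 a.1 a.2.1 (by rw [a.2.2]; exact h.2.1)).trans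
      (h.2.2 b.1 b.2.1 (by rw [b.2.2]; exact h.2.1)).symm)⟩, ⟨⟨z, rfl, rfl⟩⟩⟩
  rw [h2, ← h2', Nat.card_eq_one_iff_unique] at hone
  have := hone.1
  exact congrArg Subtype.val (Subsingleton.elim
    (⟨a, ha.1, key a ha⟩ : {y : Spec (CommRingCat.of Ω') ⟶ P // y ≫ π = v ∧ pt y = pt z})
    ⟨b, hb.1, key b hb⟩)

theorem exists_indConstructible_nhd [LocallyQuasiFinite f] [LocallyOfFiniteType f]
    (hw : MoreMor.IsWeighting f w) (x : X) :
    ∃ F : Set X, ProCons.IsIndConstructible F ∧ x ∈ F ∧ ∀ y ∈ F, w y = w x := by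
  obtain ⟨_, _, _, xb, rfl⟩ := exists_geomPt' x
  obtain ⟨V, g, vb, U, hg, -, hP⟩ := exists_piece f xb
  have := hg
  obtain ⟨z, hz, hzx, -⟩ := isSingle_of_isPiece hP
  obtain ⟨N, hN, hN'⟩ := single_sum_eventually hw g U hz
  have := hz.1
  obtain ⟨S, hS, hS'⟩ := isIndConstructible_atMostOne (U.ι ≫ pullback.snd f g)
  refine ⟨pullback.fst f g '' (((U ⊓ pullback.snd f g ⁻¹ᵁ N : (pullback f g).Opens) : Set _) ∩
    pullback.snd f g ⁻¹' S), isIndConstructible_image _ (isIndConstructible_inter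
      (isIndConstructible_of_isOpen (Opens.isOpen _)) (isIndConstructible_preimage _ hS)), ?_, ?_⟩
  · refine ⟨pt z, ⟨⟨hz.2.1, hN⟩, (hS' _).2 fun Ω' _ _ v hv y₁ h₁ y₂ h₂ => (cancel_mono U.ι).1 ?_⟩,
      by rw [← pt_comp, hzx]⟩
    refine subsingleton_GP _ hz Ω' v hv ⟨?_, ?_⟩ ⟨?_, ?_⟩
    · exact (Category.assoc _ _ _).trans h₁
    · rw [pt_comp]; exact (pt y₁).2
    · exact (Category.assoc _ _ _).trans h₂
    · rw [pt_comp]; exact (pt y₂).2
  · rintro _ ⟨q, ⟨⟨hqU, hqN⟩, hqS⟩, rfl⟩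
    obtain ⟨Ω', _, _, qb, rfl⟩ := exists_geomPt' q
    have h1 : GPIn (pullback.snd f g) U (qb ≫ pullback.snd f g) = {qb} := by
      refine Set.Subsingleton.eq_singleton_of_mem ?_ ⟨rfl, hqU⟩
      show ({y ∈ GP Ω' (pullback.snd f g) (qb ≫ pullback.snd f g) | pt y ∈ U}).Subsingleton
      rw [← GP_opens]
      exact ((hS' _).1 hqS Ω' _ (pt_comp _ _)).image _
    have h2 := (hN' (qb ≫ pullback.snd f g) hqN).2
    rw [h1, finsum_mem_singleton] at h2
    rw [h2, ← pt_comp z, hzx]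

theorem isLocallyConstructible_level [LocallyQuasiFinite f] [LocallyOfFiniteType f]
    (hw : MoreMor.IsWeighting f w) (n : ℤ) : Topology.IsLocallyConstructible {x : X | w x = n} := by
  refine isLocallyConstructible_iff_ind_and_pro.2 ⟨?_, isProConstructible_iff_compl.2 ?_⟩ <;>
    refine isIndConstructible_of_forall_subset fun x hx => ?_ <;>
    obtain ⟨F, hF, hxF, hFw⟩ := exists_indConstructible_nhd hw x
  · exact ⟨F, hF, hxF, fun y hy => (hFw y hy).trans hx⟩
  · exact ⟨F, hF, hxF, fun y hy (h : w y = n) => hx (show w x = n from (hFw y hy) ▸ h)⟩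

end Groth.Agent.FlatMorWeight
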