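import Groth.Agent.FlatMorWeight.Nhds

/-! Sums of weights over geometric points; base change of weightings. -/

universe u

namespace Groth.Agent.FlatMorWeight

open AlgebraicGeometry CategoryTheory Limits TopologicalSpace

variable {Ω : Type u} [Field Ω]

/-- A geometric point at a given point, with the field hidden. -/
theorem exists_geomPt' {X : Scheme.{u}} (x : X) :
    ∃ (Ω : Type u) (_ : Field Ω) (_ : IsAlgClosed Ω) (z : Spec (CommRingCat.of Ω) ⟶ X), pt z = x :=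
  let ⟨z, hz⟩ := exists_geomPt x
  ⟨_, inferInstance, inferInstance, z, hz⟩

/-- Geometric points over `v` lying in an open. -/
def GPIn {P V : Scheme.{u}} (π : P ⟶ V) (O : P.Opens) (v : Spec (CommRingCat.of Ω) ⟶ V) :
    Set (Spec (CommRingCat.of Ω) ⟶ P) := {z ∈ GP Ω π v | pt z ∈ O}

theorem GPIn_top {P V : Scheme.{u}} (π : P ⟶ V) (v : Spec (CommRingCat.of Ω) ⟶ V) :
    GPIn π ⊤ v = GP Ω π v :=
  Set.ext fun _ => ⟨fun h => h.1, fun h => ⟨h, trivial⟩⟩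

theorem bijOn_GPIn {P V P' V' : Scheme.{u}} {π : P ⟶ V} {π' : P' ⟶ V'} {a : P' ⟶ P} {c : V' ⟶ V}
    (h : IsPullback a π' π c) (O : P.Opens) (v' : Spec (CommRingCat.of Ω) ⟶ V') :
    Set.BijOn (fun z => z ≫ a) (GPIn π' (a ⁻¹ᵁ O) v') (GPIn π O (v' ≫ c)) := by
  refine ⟨fun z hz => ⟨?_, ?_⟩, fun z hz z' hz' e => h.hom_ext e (hz.1.trans hz'.1.symm), fun y hy => ?_⟩
  · show (z ≫ a) ≫ π = v' ≫ c
    rw [Category.assoc, h.w, ← Category.assoc, show z ≫ π' = v' from hz.1]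
  · rw [pt_comp]; exact hz.2
  · refine ⟨h.lift y v' hy.1, ⟨h.lift_snd _ _ _, ?_⟩, h.lift_fst _ _ _⟩
    have e : a (pt (h.lift y v' hy.1)) = pt y := congrArg pt (h.lift_fst y v' hy.1)
    show a (pt (h.lift y v' hy.1)) ∈ O
    rw [e]; exact hy.2

theorem finsum_GPIn_bc {P V P' V' : Scheme.{u}} {π : P ⟶ V} {π' : P' ⟶ V'} {a : P' ⟶ P} {c : V' ⟶ V}
    (h : IsPullback a π' π c) (O : P.Opens) (v' : Spec (CommRingCat.of Ω) ⟶ V') (w : P → ℤ) :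
    ∑ᶠ z ∈ GPIn π' (a ⁻¹ᵁ O) v', w (a (pt z)) = ∑ᶠ z ∈ GPIn π O (v' ≫ c), w (pt z) :=
  finsum_mem_eq_of_bijOn (fun z => z ≫ a) (bijOn_GPIn h O v') fun z _ => by rw [pt_comp]

theorem fibreIntegral_baseChange {U V U' V' : Scheme.{u}} (π : U ⟶ V) [LocallyQuasiFinite π]
    (π' : U' ⟶ V') (h : U' ⟶ U) (g : V' ⟶ V) (hc : IsPullback h π' π g) (w : U → ℤ) (v' : V')
    (hfin : (π ⁻¹' {g v'}).Finite) :
    (π' ⁻¹' {v'}).Finite ∧ MoreMor.fibreIntegral π' (w ∘ h) v' = MoreMor.fibreIntegral π w (g v') := by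
  haveI : LocallyQuasiFinite π' := MorphismProperty.of_isPullback (P := @LocallyQuasiFinite) hc ‹_›
  obtain ⟨_, _, _, vb, rfl⟩ := exists_geomPt' v'
  have hbij := bijOn_GPIn hc ⊤ vb
  have htop : h ⁻¹ᵁ ⊤ = ⊤ := rfl
  rw [htop, GPIn_top, GPIn_top] at hbij
  have hfinGP := finite_GP π (vb ≫ g) (by rwa [pt_comp])
  have hfin' : (π' ⁻¹' {pt vb}).Finite := by
    refine ((Set.Finite.of_injOn hbij.mapsTo hbij.injOn hfinGP).image pt).subset fun q hq => ?_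
    obtain ⟨z, hz, rfl⟩ := exists_GP_at π' vb q hq
    exact ⟨z, hz, rfl⟩
  refine ⟨hfin', ?_⟩
  have hsum := finsum_GPIn_bc hc ⊤ vb w
  rw [htop, GPIn_top, GPIn_top] at hsum
  rw [fibreIntegral_eq_finsum π' vb hfin']
  refine hsum.trans ?_
  rw [← pt_comp]
  exact (fibreIntegral_eq_finsum π (vb ≫ g) (by rwa [pt_comp]) w).symm

variable {X Y : Scheme.{u}} {f : X ⟶ Y} {w : X → ℤ}

/-- Local constancy of the weight sums on an étale finite piece. -/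
theorem sum_eventually [LocallyQuasiFinite f] (hw : MoreMor.IsWeighting f w) {V : Scheme.{u}}
    (g : V ⟶ Y) [Etale g] (U : (pullback f g).Opens) [IsFinite (U.ι ≫ pullback.snd f g)] (v : V) :
    ∃ N : V.Opens, v ∈ N ∧ ∀ {Ω : Type u} [Field Ω] [IsAlgClosed Ω] (v₁ : Spec (CommRingCat.of Ω) ⟶ V),
      pt v₁ ∈ N → (GPIn (pullback.snd f g) U v₁).Finite ∧
        ∑ᶠ z ∈ GPIn (pullback.snd f g) U v₁, w (pullback.fst f g (pt z)) =
          MoreMor.fibreIntegral (U.ι ≫ pullback.snd f g) (fun x => w (pullback.fst f g (U.ι x))) v := by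
  have hlc := hw V g U inferInstance
  refine ⟨⟨_, hlc.isOpen_fiber _⟩, rfl, fun {Ω} _ _ v₁ h₁ => ?_⟩
  have := fibreIntegral_opens (pullback.snd f g) v₁ U (fun x => w (pullback.fst f g x))
  exact ⟨this.2, this.1.symm.trans h₁⟩

theorem GPIn_eq_singleton {P V : Scheme.{u}} {π : P ⟶ V} {U : P.Opens}
    {z : Spec (CommRingCat.of Ω) ⟶ P} (h : IsSingle π U z) : GPIn π U (z ≫ π) = {z} :=
  Set.ext fun z' => ⟨fun hz' => h.2.2 z' hz'.1 hz'.2, fun hz' => by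
    rw [Set.mem_singleton_iff] at hz'
    subst hz'
    exact ⟨rfl, h.2.1⟩⟩

/-- A single point piece carries the weight of its point. -/
theorem single_sum_eventually [IsAlgClosed Ω] [LocallyQuasiFinite f] (hw : MoreMor.IsWeighting f w)
    {V : Scheme.{u}} (g : V ⟶ Y) [Etale g] (U : (pullback f g).Opens)
    {z : Spec (CommRingCat.of Ω) ⟶ pullback f g} (h : IsSingle (pullback.snd f g) U z) :
    ∃ N : V.Opens, pullback.snd f g (pt z) ∈ N ∧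
      ∀ {Ω : Type u} [Field Ω] [IsAlgClosed Ω] (v₁ : Spec (CommRingCat.of Ω) ⟶ V),
      pt v₁ ∈ N → (GPIn (pullback.snd f g) U v₁).Finite ∧
        ∑ᶠ y ∈ GPIn (pullback.snd f g) U v₁, w (pullback.fst f g (pt y)) =
          w (pullback.fst f g (pt z)) := by
  haveI := h.1
  obtain ⟨N, hN, hN'⟩ := sum_eventually hw g U (pullback.snd f g (pt z))
  refine ⟨N, hN, fun v₁ h₁ => ⟨(hN' v₁ h₁).1, (hN' v₁ h₁).2.trans ?_⟩⟩
  rw [← pt_comp, (fibreIntegral_opens (pullback.snd f g) (z ≫ pullback.snd f g) U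
    (fun x => w (pullback.fst f g x))).1, show {y ∈ GP Ω (pullback.snd f g) (z ≫ pullback.snd f g) | pt y ∈ U} = {z}
    from GPIn_eq_singleton h, finsum_mem_singleton]

/-- The base change map between neighbourhoods. -/
noncomputable def bcMap (f : X ⟶ Y) {V V' : Scheme.{u}} (g : V ⟶ Y) (c : V' ⟶ V) :
    pullback f (c ≫ g) ⟶ pullback f g :=
  pullback.lift (pullback.fst _ _) (pullback.snd _ _ ≫ c) (by rw [pullback.condition, Category.assoc])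

@[reassoc (attr := simp)] theorem bcMap_fst (f : X ⟶ Y) {V V' : Scheme.{u}} (g : V ⟶ Y) (c : V' ⟶ V) :
    bcMap f g c ≫ pullback.fst f g = pullback.fst f (c ≫ g) := pullback.lift_fst _ _ _

@[simp] theorem bcMap_snd (f : X ⟶ Y) {V V' : Scheme.{u}} (g : V ⟶ Y) (c : V' ⟶ V) :
    bcMap f g c ≫ pullback.snd f g = pullback.snd f (c ≫ g) ≫ c := pullback.lift_snd _ _ _

theorem isPullback_bcMap (f : X ⟶ Y) {V V' : Scheme.{u}} (g : V ⟶ Y) (c : V' ⟶ V) :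
    IsPullback (bcMap f g c) (pullback.snd f (c ≫ g)) (pullback.snd f g) c := by
  refine IsPullback.of_right ?_ (bcMap_snd f g c) (IsPullback.of_hasPullback f g)
  rw [bcMap_fst]
  exact IsPullback.of_hasPullback f (c ≫ g)

theorem isFinite_preimage {P V P' V' : Scheme.{u}} {π : P ⟶ V} {π' : P' ⟶ V'} {a : P' ⟶ P}
    {c : V' ⟶ V} (h : IsPullback a π' π c) (O : P.Opens) [hO : IsFinite (O.ι ≫ π)] :
    IsFinite ((a ⁻¹ᵁ O).ι ≫ π') :=
  MorphismProperty.of_isPullback (P := @IsFinite)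
    (((isPullback_morphismRestrict a O).flip).paste_horiz h.flip).flip hO

theorem isSingle_bc {P V P' V' : Scheme.{u}} {π : P ⟶ V} {π' : P' ⟶ V'} {a : P' ⟶ P} {c : V' ⟶ V}
    (h : IsPullback a π' π c) {U : P.Opens} {z : Spec (CommRingCat.of Ω) ⟶ P} (hs : IsSingle π U z)
    (z' : Spec (CommRingCat.of Ω) ⟶ P') (hz : z' ≫ a = z) : IsSingle π' (a ⁻¹ᵁ U) z' := by
  haveI := hs.1
  refine ⟨isFinite_preimage h U, ?_, fun y hy hyU => h.hom_ext ?_ hy⟩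
  · show a (pt z') ∈ U
    rw [← pt_comp, hz]; exact hs.2.1
  · rw [hz]
    refine hs.2.2 _ ?_ hyU
    show (y ≫ a) ≫ π = z ≫ π
    rw [← hz, Category.assoc, Category.assoc, h.w, ← Category.assoc, ← Category.assoc,
      show y ≫ π' = z' ≫ π' from hy]

/-- Local constancy on single point pieces gives local constancy after any base change. -/
theorem isLocallyConstant_of_singles [LocallyQuasiFinite f] [LocallyOfFiniteType f]
    (hw : ∀ {Ω : Type u} [Field Ω] [IsAlgClosed Ω] {V : Scheme.{u}} (g : V ⟶ Y) [Etale g]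
      (U : (pullback f g).Opens) {z : Spec (CommRingCat.of Ω) ⟶ pullback f g},
      IsSingle (pullback.snd f g) U z → ∃ N : V.Opens, pullback.snd f g (pt z) ∈ N ∧
      ∀ {Ω : Type u} [Field Ω] [IsAlgClosed Ω] (v₁ : Spec (CommRingCat.of Ω) ⟶ V),
      pt v₁ ∈ N → (GPIn (pullback.snd f g) U v₁).Finite ∧
        ∑ᶠ y ∈ GPIn (pullback.snd f g) U v₁, w (pullback.fst f g (pt y)) =
          w (pullback.fst f g (pt z))) {P V' : Scheme.{u}} {a : P ⟶ X} {π : P ⟶ V'} {g : V' ⟶ Y}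
    (hP : IsPullback a π f g) (O : P.Opens) [IsFinite (O.ι ≫ π)] :
    IsLocallyConstant (MoreMor.fibreIntegral (O.ι ≫ π) (fun x => w (a (O.ι x)))) := by
  classical
  haveI : LocallyQuasiFinite π := MorphismProperty.of_isPullback (P := @LocallyQuasiFinite) hP ‹_›
  rw [IsLocallyConstant.iff_exists_open]
  intro v'
  obtain ⟨_, _, _, vb', rfl⟩ := exists_geomPt' v'
  obtain ⟨hI', hA⟩ := fibreIntegral_opens π vb' O (fun x => w (a x))
  set A := {z ∈ GP _ π vb' | pt z ∈ O}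
  obtain ⟨V, g₂, vb, U, hg₂, hvb, hU⟩ := exists_pieces f (hA.image fun z => z ≫ a) (yb := vb' ≫ g) (by
    rintro _ ⟨z, hz, rfl⟩
    rw [Category.assoc, hP.w, ← Category.assoc, show z ≫ π = vb' from hz.1])
  haveI := hg₂
  let c' : pullback g g₂ ⟶ V' := pullback.fst g g₂
  let c : pullback g g₂ ⟶ V := pullback.snd g g₂
  haveI : Etale c' := inferInstance
  let vb'' := pullback.lift vb' vb hvb.symm
  let m := bcMap f g₂ c
  let π'' := pullback.snd f (c ≫ g₂)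
  let n : pullback f (c ≫ g₂) ⟶ P := hP.lift (pullback.fst _ _) (π'' ≫ c') (by
    rw [pullback.condition, Category.assoc, pullback.condition])
  have hn₁ : n ≫ a = pullback.fst f (c ≫ g₂) := hP.lift_fst _ _ _
  have hn₂ : n ≫ π = π'' ≫ c' := hP.lift_snd _ _ _
  have hsqn : IsPullback n π'' π c' := by
    refine IsPullback.of_right ?_ hn₂ hP
    rw [hn₁, show c' ≫ g = c ≫ g₂ from pullback.condition]
    exact IsPullback.of_hasPullback f (c ≫ g₂)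
  let O'' := n ⁻¹ᵁ O
  haveI : IsFinite (O''.ι ≫ π'') := isFinite_preimage hsqn O
  let s := hA.toFinset
  have hsingle : ∀ z ∈ s, ∃ z'' : Spec (CommRingCat.of _) ⟶ pullback f (c ≫ g₂),
      IsSingle π'' (m ⁻¹ᵁ U (z ≫ a)) z'' ∧ z'' ≫ n = z ∧ z'' ≫ π'' = vb'' ∧
      z'' ≫ pullback.fst f (c ≫ g₂) = z ≫ a := by
    intro z hz
    have hzA := hA.mem_toFinset.1 hz
    obtain ⟨z₁, hz₁, hz₁x, hz₁v⟩ := isSingle_of_isPiece (hU (z ≫ a) ⟨z, hzA, rfl⟩)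
    let z'' := (isPullback_bcMap f g₂ c).lift z₁ vb'' (by rw [hz₁v, pullback.lift_snd])
    have h1 : z'' ≫ m = z₁ := (isPullback_bcMap f g₂ c).lift_fst _ _ _
    have h2 : z'' ≫ π'' = vb'' := (isPullback_bcMap f g₂ c).lift_snd _ _ _
    have h3 : z'' ≫ pullback.fst f (c ≫ g₂) = z ≫ a := by
      rw [← bcMap_fst, ← Category.assoc, h1, hz₁x]
    refine ⟨z'', isSingle_bc (isPullback_bcMap f g₂ c) hz₁ z'' h1, hP.hom_ext ?_ ?_, h2, h3⟩
    · rw [Category.assoc, hn₁, h3]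
    · rw [Category.assoc, hn₂, ← Category.assoc, h2, pullback.lift_fst]
      exact hzA.1.symm
  choose zz hzz hzzn hzzv hzzx using hsingle
  have hzzO : ∀ z (hz : z ∈ s), pt (zz z hz) ∈ O'' := fun z hz => by
    show n (pt (zz z hz)) ∈ O
    rw [← pt_comp, hzzn z hz]
    exact (hA.mem_toFinset.1 hz).2
  obtain ⟨N₁, hN₁, hN₁O', hN₁d'⟩ := exists_disjoint_nhds π'' O'' s.attach
    (fun z => m ⁻¹ᵁ U (z.1 ≫ a)) (fun z => zz z.1 z.2) vb'' (fun z _ => hzzv z.1 z.2)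
    (fun z _ => hzz z.1 z.2) (fun z _ => hzzO z.1 z.2)
    (fun z _ z' _ e => Subtype.ext (by rw [← hzzn z.1 z.2, ← hzzn z'.1 z'.2, show zz z.1 z.2 = zz z'.1 z'.2 from e]))
  have hN₁O : ∀ z ∈ s, ∀ q ∈ m ⁻¹ᵁ U (z ≫ a), π'' q ∈ N₁ → q ∈ O'' := fun z hz =>
    hN₁O' ⟨z, hz⟩ (Finset.mem_attach _ _)
  have hN₁d : ∀ z ∈ s, ∀ z' ∈ s, z ≠ z' → ∀ q ∈ m ⁻¹ᵁ U (z ≫ a), π'' q ∈ N₁ → q ∉ m ⁻¹ᵁ U (z' ≫ a) :=
    fun z hz z' hz' hne => hN₁d' ⟨z, hz⟩ (Finset.mem_attach _ _) ⟨z', hz'⟩ (Finset.mem_attach _ _)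
      fun e => hne (congrArg Subtype.val e)
  obtain ⟨N₂, hN₂, hN₂'⟩ := exists_nhds_of_fibre_subset π'' O'' (pt vb'')
    (⋃ z ∈ s, (m ⁻¹ᵁ U (z ≫ a) : Set _)) (isOpen_biUnion fun z _ => (m ⁻¹ᵁ U (z ≫ a)).isOpen) (by
    intro q hq hqv
    obtain ⟨y, hy, rfl⟩ := exists_GP_at π'' vb'' q hqv
    have hyA : y ≫ n ∈ A := ⟨by
      show (y ≫ n) ≫ π = vb'
      rw [Category.assoc, hn₂, ← Category.assoc, show y ≫ π'' = vb'' from hy, pullback.lift_fst],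
      by rw [pt_comp]; exact hq⟩
    have hys : y ≫ n ∈ s := hA.mem_toFinset.2 hyA
    have : y = zz (y ≫ n) hys := hsqn.hom_ext (hzzn _ hys).symm (hy.trans (hzzv _ hys).symm)
    refine Set.mem_biUnion hys ?_
    have h := (hzz _ hys).2.1
    rwa [← this] at h)
  have hN₃ : ∀ z ∈ s, ∃ N : V.Opens, pt vb ∈ N ∧
      ∀ {Ω : Type u} [Field Ω] [IsAlgClosed Ω] (v₁ : Spec (CommRingCat.of Ω) ⟶ V),
      pt v₁ ∈ N → (GPIn (pullback.snd f g₂) (U (z ≫ a)) v₁).Finite ∧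
        ∑ᶠ y ∈ GPIn (pullback.snd f g₂) (U (z ≫ a)) v₁, w (pullback.fst f g₂ (pt y)) = w (a (pt z)) := by
    intro z hz
    obtain ⟨z₁, hz₁, hz₁x, hz₁v⟩ := isSingle_of_isPiece (hU (z ≫ a) ⟨z, hA.mem_toFinset.1 hz, rfl⟩)
    obtain ⟨N, hN, hN'⟩ := hw g₂ (U (z ≫ a)) hz₁
    refine ⟨N, by rwa [← pt_comp, hz₁v] at hN, fun v₁ h₁ => ⟨(hN' v₁ h₁).1, (hN' v₁ h₁).2.trans ?_⟩⟩
    rw [← pt_comp, hz₁x, pt_comp]
  choose! N₃ hN₃v hN₃' using hN₃
  let N : (pullback g g₂).Opens := N₁ ⊓ N₂ ⊓ c ⁻¹ᵁ s.inf N₃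
  have hvN : pt vb'' ∈ N := by
    refine ⟨⟨hN₁, hN₂⟩, ?_⟩
    show c (pt vb'') ∈ s.inf N₃
    rw [← pt_comp, pullback.lift_snd, ← SetLike.mem_coe, Opens.coe_finset_inf, Finset.inf_set_eq_iInter]
    exact Set.mem_iInter₂.2 hN₃v
  refine ⟨c' '' N, c'.isOpenMap _ N.isOpen, ⟨pt vb'', hvN, ?_⟩, ?_⟩
  · rw [← pt_comp, pullback.lift_fst]
  rintro _ ⟨v₁, ⟨⟨h₁, h₂⟩, h₃⟩, rfl⟩
  obtain ⟨_, _, _, u₁, rfl⟩ := exists_geomPt' v₁
  rw [← pt_comp, (fibreIntegral_opens π (u₁ ≫ c') O (fun x => w (a x))).1, hI',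
    show {z ∈ GP _ π (u₁ ≫ c') | pt z ∈ O} = GPIn π O (u₁ ≫ c') from rfl,
    ← finsum_GPIn_bc hsqn O u₁ (fun x => w (a x))]
  have hsub : ∀ z ∈ s, GPIn π'' (m ⁻¹ᵁ U (z ≫ a)) u₁ ⊆ GPIn π'' O'' u₁ := fun z hz y hy =>
    ⟨hy.1, hN₁O z hz _ hy.2 (by rw [← pt_comp, show y ≫ π'' = u₁ from hy.1]; exact h₁)⟩
  have hcover : GPIn π'' O'' u₁ = ⋃ z ∈ (s : Set _), GPIn π'' (m ⁻¹ᵁ U (z ≫ a)) u₁ := by
    refine Set.Subset.antisymm (fun y hy => ?_) (Set.iUnion₂_subset hsub)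
    have := hN₂' (pt y) hy.2 (by rw [← pt_comp, show y ≫ π'' = u₁ from hy.1]; exact h₂)
    simp only [Set.mem_iUnion] at this
    obtain ⟨z, hz, hyz⟩ := this
    exact Set.mem_biUnion hz ⟨hy.1, hyz⟩
  have hc3 : ∀ z ∈ s, pt (u₁ ≫ c) ∈ N₃ z := fun z hz => (Finset.inf_le hz : s.inf N₃ ≤ N₃ z) h₃
  have hfin : ∀ z ∈ s, (GPIn π'' (m ⁻¹ᵁ U (z ≫ a)) u₁).Finite := fun z hz =>
    Set.Finite.of_injOn (bijOn_GPIn (isPullback_bcMap f g₂ c) _ u₁).mapsTo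
      (bijOn_GPIn (isPullback_bcMap f g₂ c) _ u₁).injOn (hN₃' z hz _ (hc3 z hz)).1
  rw [hcover, finsum_mem_biUnion (fun z hz z' hz' hne => Set.disjoint_left.2 fun y hy hy' =>
    hN₁d z hz z' hz' hne (pt y) hy.2 (by rw [← pt_comp, show y ≫ π'' = u₁ from hy.1]; exact h₁) hy'.2)
    s.finite_toSet hfin]
  rw [finsum_mem_coe_finset, finsum_mem_eq_finite_toFinset_sum _ hA]
  refine Finset.sum_congr rfl fun z hz => ?_
  rw [← (hN₃' z hz _ (hc3 z hz)).2, ← finsum_GPIn_bc (isPullback_bcMap f g₂ c) (U (z ≫ a)) u₁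
    (fun x => w (pullback.fst f g₂ x))]
  refine finsum_mem_congr rfl fun y hy => ?_
  rw [← Scheme.Hom.comp_apply, hn₁, ← Scheme.Hom.comp_apply, bcMap_fst]

/-- Weightings are stable under base change (general form). -/
theorem isLocallyConstant_of_isPullback [LocallyQuasiFinite f] [LocallyOfFiniteType f]
    (hw : MoreMor.IsWeighting f w) {P V' : Scheme.{u}} {a : P ⟶ X} {π : P ⟶ V'} {g : V' ⟶ Y}
    (hP : IsPullback a π f g) (O : P.Opens) [IsFinite (O.ι ≫ π)] :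
    IsLocallyConstant (MoreMor.fibreIntegral (O.ι ≫ π) (fun x => w (a (O.ι x)))) :=
  isLocallyConstant_of_singles (fun g _ U _ h => single_sum_eventually hw g U h) hP O

end Groth.Agent.FlatMorWeight
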