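import Mathlib

/-!
Étale localisation of a quasi-finite algebra at a geometric point: a finite piece with a single
geometric point.
-/

universe u

namespace Groth.Agent.FlatMorWeight

open TensorProduct Polynomial nonZeroDivisors

attribute [local instance] Localization.AtPrime.algebraOfLiesOver

variable {R : Type u} [CommRing R]

/-- A separable element of a residue extension is, after scaling, a simple root of a monic
polynomial over the base. -/
theorem exists_simple_root {F K : Type*} [Field F] [Field K] [Algebra R F] [Algebra R K] [Algebra F K]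
    [IsScalarTower R F K] (hF : ∀ s : Finset F, ∃ c : R, algebraMap R F c ≠ 0 ∧
      ∀ a ∈ s, algebraMap R F c * a ∈ Set.range (algebraMap R F))
    (α : K) (hα : IsSeparable F α) :
    ∃ (g : R[X]) (c : R), g.Monic ∧ algebraMap R F c ≠ 0 ∧ aeval (c • α) g = 0 ∧
      aeval (c • α) g.derivative ≠ 0 := by
  classical
  set h := minpoly F α
  have hm : h.Monic := minpoly.monic hα.isIntegral
  obtain ⟨c, hc, hcs⟩ := hF ((Finset.range h.natDegree).image h.coeff)
  set d := algebraMap R F c
  set h' := h.scaleRoots d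
  have hm' : h'.Monic := (monic_scaleRoots_iff d).2 hm
  have hlift : h' ∈ lifts (algebraMap R F) := by
    rw [lifts_iff_coeff_lifts]
    intro i
    rw [coeff_scaleRoots]
    rcases lt_trichotomy i h.natDegree with hi | hi | hi
    · obtain ⟨a, ha⟩ := hcs _ (Finset.mem_image_of_mem _ (Finset.mem_range.2 hi))
      refine ⟨a * c ^ (h.natDegree - i - 1), ?_⟩
      have : h.natDegree - i = 1 + (h.natDegree - i - 1) := by omega
      conv_rhs => rw [this, pow_add, pow_one, ← mul_assoc, mul_comm (h.coeff i) d, ← ha]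
      rw [map_mul, map_pow]
    · subst hi
      exact ⟨1, by simp [hm.coeff_natDegree]⟩
    · exact ⟨0, by simp [coeff_eq_zero_of_natDegree_lt hi]⟩
  obtain ⟨g, hg, -, hgm⟩ := lifts_and_natDegree_eq_and_monic hlift hm'
  have hev : ∀ q : R[X], aeval (c • α) q = aeval (algebraMap F K d * α) (q.map (algebraMap R F)) :=
    fun q => by
      rw [aeval_map_algebraMap]
      congr 1
      rw [Algebra.smul_def, IsScalarTower.algebraMap_apply R F K]
  have hid : h'.comp (C d * Polynomial.X) = C (d ^ h.natDegree) * h := by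
    ext i
    rw [comp_C_mul_X_coeff, coeff_scaleRoots, coeff_C_mul]
    rcases le_or_gt i h.natDegree with hi | hi
    · rw [mul_assoc, ← pow_add, Nat.sub_add_cancel hi, mul_comm]
    · simp [coeff_eq_zero_of_natDegree_lt hi]
  refine ⟨g, c, hgm, hc, ?_, ?_⟩
  · rw [hev, hg]
    exact scaleRoots_aeval_eq_zero (minpoly.aeval F α)
  · rw [hev, ← derivative_map, hg]
    intro h0
    have := congrArg (aeval α) (congrArg derivative hid)
    rw [derivative_comp] at this
    simp only [derivative_X, mul_one, map_mul, aeval_comp, aeval_C, aeval_X, h0, mul_zero,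
      derivative_C] at this
    rw [derivative_C_mul, map_mul, aeval_C] at this
    rcases mul_eq_zero.1 this.symm with h1 | h1
    · rw [map_eq_zero, pow_eq_zero_iff'] at h1
      exact hc h1.1
    · exact (Separable.aeval_derivative_ne_zero hα (minpoly.aeval F α)) h1

variable {S : Type u} [CommRing S] [Algebra R S] [Algebra.FiniteType R S]
  {Ω : Type u} [Field Ω] [Algebra R Ω]

/-- Main algebraic lemma: an étale neighbourhood with a finite piece having one geometric point. -/
theorem exists_etale_split (χ : S →ₐ[R] Ω) [(RingHom.ker χ).IsPrime]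
    [Algebra.QuasiFiniteAt R (RingHom.ker χ)] :
    ∃ (R' : Type u) (_ : CommRing R') (_ : Algebra R R') (_ : Algebra.Etale R R') (ρ : R' →ₐ[R] Ω)
      (e : R' ⊗[R] S), IsIdempotentElem e ∧ Module.Finite R' (Localization.Away e) ∧
      Algebra.TensorProduct.lift ρ χ (fun _ _ => .all _ _) e ≠ 0 ∧
      ∀ φ : R' ⊗[R] S →ₐ[R] Ω, φ.comp Algebra.TensorProduct.includeLeft = ρ → φ e ≠ 0 →
        φ.comp Algebra.TensorProduct.includeRight = χ := by
  classical
  let q := RingHom.ker χ
  let p := q.under R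
  haveI : q.IsPrime := inferInstanceAs (RingHom.ker χ).IsPrime
  haveI : Algebra.QuasiFiniteAt R q := inferInstanceAs (Algebra.QuasiFiniteAt R (RingHom.ker χ))
  haveI : q.LiesOver p := ⟨rfl⟩
  let F := p.ResidueField
  let K := q.ResidueField
  haveI : Module.Finite F K := inferInstance
  let ι : K →ₐ[R] Ω := Ideal.ResidueField.liftₐ q χ le_rfl fun s hs => isUnit_iff_ne_zero.2 hs
  have hι : ∀ s, ι (algebraMap S K s) = χ s := fun s => Ideal.ResidueField.liftₐ_algebraMap _ _ _ _ _
  -- primitive element of the separable closure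
  obtain ⟨α₀, hα₀⟩ := Field.exists_primitive_element F (separableClosure F K)
  obtain ⟨g, c, hgm, hc, hg0, hg1⟩ := exists_simple_root (R := R) (F := F) (fun s => by
    obtain ⟨⟨b, hb⟩, hbs⟩ := IsLocalization.exist_integer_multiples_of_finset (R ⧸ p)⁰ s
    obtain ⟨b, rfl⟩ := Ideal.Quotient.mk_surjective b
    refine ⟨b, ?_, fun a ha => ?_⟩
    · exact fun h => nonZeroDivisors.ne_zero hb
        (Ideal.Quotient.eq_zero_iff_mem.2 (Ideal.algebraMap_residueField_eq_zero.1 h))
    · obtain ⟨r, hr⟩ := hbs a ha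
      obtain ⟨r, rfl⟩ := Ideal.Quotient.mk_surjective r
      refine ⟨r, ?_⟩
      rw [IsScalarTower.algebraMap_apply R (R ⧸ p) F r, IsScalarTower.algebraMap_apply R (R ⧸ p) F b,
        Ideal.Quotient.algebraMap_eq, hr, Algebra.smul_def]) (α₀ : K) α₀.2
  let α : K := c • (α₀ : K)
  let P : StandardEtalePair R := ⟨g, hgm, g.derivative, 1, 0, 1, by simp⟩
  have hPK : P.HasMap α := ⟨hg0, isUnit_iff_ne_zero.2 hg1⟩
  let R₁ := P.Ring
  let ρK : R₁ →ₐ[R] K := P.lift α hPK
  let ρ₁ : R₁ →ₐ[R] Ω := ι.comp ρK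
  letI : Algebra R₁ Ω := ρ₁.toRingHom.toAlgebra
  haveI : IsScalarTower R R₁ Ω := IsScalarTower.of_algebraMap_eq fun r => (ρ₁.commutes r).symm
  let χ₁ : R₁ ⊗[R] S →ₐ[R₁] Ω :=
    Algebra.TensorProduct.lift (Algebra.ofId R₁ Ω) χ (fun _ _ => .all _ _)
  have hχ₁ : ∀ r s, χ₁ (r ⊗ₜ s) = ρ₁ r * χ s := fun r s => by
    simp [χ₁, RingHom.algebraMap_toAlgebra]
  let q₁ := RingHom.ker χ₁
  haveI : q₁.IsPrime := RingHom.ker_isPrime _
  let p₁ := RingHom.ker ρ₁
  haveI : p₁.IsPrime := RingHom.ker_isPrime _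
  haveI : q₁.LiesOver p₁ := ⟨by
    ext r
    simp only [p₁, q₁, Ideal.under, Ideal.mem_comap, RingHom.mem_ker,
      Algebra.TensorProduct.algebraMap_apply, Algebra.algebraMap_self, RingHom.id_apply, hχ₁,
      map_one, mul_one]⟩
  haveI : Algebra.QuasiFiniteAt R₁ q₁ := by
    refine Algebra.QuasiFiniteAt.baseChange q q₁ ?_
    ext s
    simp only [q, q₁, Ideal.mem_comap, RingHom.mem_ker, AlgHom.toRingHom_eq_coe, RingHom.coe_coe,
      Algebra.TensorProduct.includeRight_apply, hχ₁, map_one, one_mul]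
  obtain ⟨R₂, _, _, _, P₂, _, _, e, he, P', _, _, hP'q, heP', hbij, hfin, huniq⟩ :=
    Algebra.exists_etale_isIdempotentElem_forall_liesOver_eq p₁ q₁
  letI : Algebra R R₂ := ((algebraMap R₁ R₂).comp (algebraMap R R₁)).toAlgebra
  haveI : IsScalarTower R R₁ R₂ := IsScalarTower.of_algebraMap_eq fun _ => rfl
  haveI : Algebra.Etale R R₂ := Algebra.Etale.comp R R₁ R₂
  -- the point of `R₂`
  let ι₁ : p₁.ResidueField →ₐ[R₁] Ω :=
    Ideal.ResidueField.liftₐ p₁ (Algebra.ofId R₁ Ω) le_rfl fun r hr => isUnit_iff_ne_zero.2 hr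
  let eP := AlgEquiv.ofBijective _ hbij
  let ρ₂ : R₂ →ₐ[R₁] Ω := (ι₁.comp eP.symm.toAlgHom).comp (IsScalarTower.toAlgHom R₁ R₂ P₂.ResidueField)
  have hρ₂ker : ∀ x, ρ₂ x = 0 ↔ x ∈ P₂ := fun x => by
    show ι₁ (eP.symm (algebraMap R₂ P₂.ResidueField x)) = 0 ↔ _
    rw [map_eq_zero, map_eq_zero, Ideal.algebraMap_residueField_eq_zero]
  let e' : R₂ ⊗[R₁] (R₁ ⊗[R] S) ≃ₐ[R₂] R₂ ⊗[R] S := Algebra.TensorProduct.cancelBaseChange R R₁ R₂ R₂ S
  have he' : ∀ x r s, e' (x ⊗ₜ (r ⊗ₜ s)) = (r • x) ⊗ₜ s := fun x r s => by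
    simp [e']
  -- approximation: every element is, up to units at `P₂`, in the right factor
  have happrox : ∀ z : R₂ ⊗[R₁] (R₁ ⊗[R] S), ∃ b : R₁, b ∉ p₁ ∧ ∃ s : R₁ ⊗[R] S,
      algebraMap R₁ (R₂ ⊗[R₁] (R₁ ⊗[R] S)) b * z - 1 ⊗ₜ s ∈
        P₂.map (algebraMap R₂ (R₂ ⊗[R₁] (R₁ ⊗[R] S))) := by
    intro z
    induction z using TensorProduct.induction_on with
    | zero => exact ⟨1, p₁.primeCompl.one_mem, 0, by simp⟩
    | tmul x s =>
      obtain ⟨y, hy⟩ := hbij.2 (algebraMap R₂ P₂.ResidueField x)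
      obtain ⟨⟨a, b, hb⟩, hab⟩ :=
        (show ∃ ab : R₁ × p₁.primeCompl, algebraMap R₁ p₁.ResidueField (ab.2 : R₁) * y =
            algebraMap R₁ p₁.ResidueField ab.1 by
          obtain ⟨y, rfl⟩ := IsLocalRing.residue_surjective y
          obtain ⟨⟨a, b⟩, hab⟩ := IsLocalization.surj p₁.primeCompl y
          refine ⟨(a, b), ?_⟩
          rw [IsScalarTower.algebraMap_apply R₁ (Localization.AtPrime p₁) p₁.ResidueField,
            IsScalarTower.algebraMap_apply R₁ (Localization.AtPrime p₁) p₁.ResidueField,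
            IsLocalRing.ResidueField.algebraMap_eq, ← hab, mul_comm, map_mul])
      refine ⟨b, hb, a • s, ?_⟩
      have hmem : algebraMap R₁ R₂ b * x - algebraMap R₁ R₂ a ∈ P₂ := by
        rw [← Ideal.algebraMap_residueField_eq_zero, map_sub, map_mul, ← hy,
          ← IsScalarTower.algebraMap_apply, ← IsScalarTower.algebraMap_apply]
        have := congrArg (Ideal.ResidueField.mapₐ p₁ P₂ (Algebra.ofId _ _) (P₂.over_def p₁)) hab
        rw [map_mul, AlgHom.commutes, AlgHom.commutes] at this
        rw [this, sub_self]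
      convert Ideal.mul_mem_right ((1 : R₂) ⊗ₜ[R₁] s) _ (Ideal.mem_map_of_mem
        (algebraMap R₂ (R₂ ⊗[R₁] (R₁ ⊗[R] S))) hmem) using 1
      simp only [Algebra.TensorProduct.algebraMap_apply, Algebra.algebraMap_self, RingHom.id_apply,
        Algebra.TensorProduct.tmul_mul_tmul, mul_one, one_mul, TensorProduct.sub_tmul,
        TensorProduct.tmul_smul, TensorProduct.smul_tmul', ← Algebra.algebraMap_eq_smul_one, sub_mul]
    | add y z hy hz =>
      obtain ⟨b, hb, s, hs⟩ := hy
      obtain ⟨b', hb', s', hs'⟩ := hz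
      refine ⟨b * b', p₁.primeCompl.mul_mem hb hb', b' • s + b • s', ?_⟩
      convert Ideal.add_mem _ (Ideal.mul_mem_left _ (algebraMap R₁ _ b') hs)
        (Ideal.mul_mem_left _ (algebraMap R₁ _ b) hs') using 1
      have hsd : ∀ (c : R₁) (w : R₂ ⊗[R₁] (R₁ ⊗[R] S)), c • w = algebraMap R₁ _ c * w :=
        fun c w => Algebra.smul_def c w
      rw [TensorProduct.tmul_add, TensorProduct.tmul_smul, TensorProduct.tmul_smul, hsd, hsd, map_mul]
      ring
  have hunique : ∀ Q Q' : Ideal (R₂ ⊗[R₁] (R₁ ⊗[R] S)), Q.IsPrime → Q'.IsPrime → Q.LiesOver P₂ →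
      Q'.LiesOver P₂ → Q.comap Algebra.TensorProduct.includeRight.toRingHom = q₁ →
      Q'.comap Algebra.TensorProduct.includeRight.toRingHom = q₁ → Q ≤ Q' := by
    intro Q Q' _ _ _ _ hQ hQ' z hz
    obtain ⟨b, hb, s, hs⟩ := happrox z
    have hmap : ∀ N : Ideal (R₂ ⊗[R₁] (R₁ ⊗[R] S)), N.LiesOver P₂ →
        P₂.map (algebraMap R₂ (R₂ ⊗[R₁] (R₁ ⊗[R] S))) ≤ N := fun N hN =>
      Ideal.map_le_iff_le_comap.2 hN.over.le
    have hsQ : 1 ⊗ₜ s ∈ Q := by
      have := Ideal.sub_mem _ (Q.mul_mem_left (algebraMap R₁ _ b) hz) (hmap Q ‹_› hs)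
      simpa using this
    have hsQ' : 1 ⊗ₜ s ∈ Q' := by
      have : s ∈ q₁ := hQ ▸ hsQ
      rw [← hQ'] at this
      exact this
    have hbz : algebraMap R₁ _ b * z ∈ Q' := by
      have := Ideal.add_mem _ (hmap Q' ‹_› hs) hsQ'
      simpa using this
    refine (‹Q'.IsPrime›.mem_or_mem hbz).resolve_left fun hb' => hb ?_
    have : algebraMap R₁ R₂ b ∈ P₂ := by
      rw [Ideal.over_def Q' P₂]
      show algebraMap R₂ (R₂ ⊗[R₁] (R₁ ⊗[R] S)) (algebraMap R₁ R₂ b) ∈ Q'
      rwa [← IsScalarTower.algebraMap_apply]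
    rw [P₂.over_def p₁]; exact this
  let φ₀ : R₂ ⊗[R₁] (R₁ ⊗[R] S) →ₐ[R₁] Ω :=
    Algebra.TensorProduct.lift ρ₂ χ₁ (fun _ _ => .all _ _)
  have hkerover : ∀ φ : R₂ ⊗[R₁] (R₁ ⊗[R] S) →+* Ω,
      (∀ x, φ (x ⊗ₜ 1) = ρ₂ x) → (RingHom.ker φ).LiesOver P₂ := fun φ hφ => ⟨by
    ext x
    rw [Ideal.under, Ideal.mem_comap, RingHom.mem_ker, Algebra.TensorProduct.algebraMap_apply,
      Algebra.algebraMap_self, RingHom.id_apply, hφ, hρ₂ker]⟩
  have hφ₀ : RingHom.ker φ₀ = P' := by
    haveI := hkerover φ₀.toRingHom (fun x => by simp [φ₀])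
    have hc : (RingHom.ker φ₀).comap Algebra.TensorProduct.includeRight.toRingHom = q₁ := by
      ext s; simp [φ₀, q₁]
    exact le_antisymm (hunique _ _ (RingHom.ker_isPrime _) ‹_› this ‹_› hc hP'q)
      (hunique _ _ ‹_› (RingHom.ker_isPrime _) ‹_› this hP'q hc)
  refine ⟨R₂, inferInstance, inferInstance, inferInstance, ρ₂.restrictScalars R, e' e, he.map e', ?_, ?_, ?_⟩
  · haveI : IsLocalization.Away (e' e) (Localization.Away (e' e)) := inferInstance
    let eloc : Localization.Away e ≃ₐ[R₂] Localization.Away (e' e) :=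
      { IsLocalization.ringEquivOfRingEquiv (M := Submonoid.powers e) (T := Submonoid.powers (e' e))
          (Localization.Away e) (Localization.Away (e' e)) e'.toRingEquiv
          (by rw [Submonoid.map_powers]; rfl) with
        commutes' := fun r => by
          show IsLocalization.ringEquivOfRingEquiv (M := Submonoid.powers e)
            (T := Submonoid.powers (e' e)) _ _ e'.toRingEquiv _ (algebraMap _ _ r) = _
          rw [IsScalarTower.algebraMap_apply R₂ (R₂ ⊗[R₁] (R₁ ⊗[R] S)) (Localization.Away e),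
            IsLocalization.ringEquivOfRingEquiv_eq,
            IsScalarTower.algebraMap_apply R₂ (R₂ ⊗[R] S) (Localization.Away (e' e))]
          congr 1
          exact e'.commutes r }
    exact Module.Finite.equiv eloc.toLinearEquiv
  · have : (Algebra.TensorProduct.lift (ρ₂.restrictScalars R) χ fun _ _ => .all _ _).comp
        (e'.restrictScalars R).toAlgHom = φ₀.restrictScalars R := by
      refine AlgHom.ext fun z => ?_
      induction z using TensorProduct.induction_on with
      | zero => simp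
      | add a b ha hb => simp only [map_add, ha, hb]
      | tmul x t =>
        induction t using TensorProduct.induction_on with
        | zero => simp
        | add a b ha hb => simp only [TensorProduct.tmul_add, map_add, ha, hb]
        | tmul r s =>
          simp only [AlgHom.coe_comp, Function.comp_apply, AlgEquiv.coe_toAlgHom,
            AlgEquiv.restrictScalars_apply, he', AlgHom.restrictScalars_apply, φ₀,
            Algebra.TensorProduct.lift_tmul, hχ₁, map_smul, Algebra.smul_def, RingHom.algebraMap_toAlgebra]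
          rw [map_mul, AlgHom.commutes]
          show ρ₁ r * ρ₂ x * χ s = _
          ring
    have h := AlgHom.congr_fun this e
    intro h0
    apply heP'
    rw [← hφ₀, RingHom.mem_ker]
    exact h.symm.trans h0
  · intro φ hφ hφe
    let φ₁ : R₂ ⊗[R₁] (R₁ ⊗[R] S) →+* Ω := φ.toRingHom.comp e'.toRingHom
    have hl : ∀ x, φ₁ (x ⊗ₜ 1) = ρ₂ x := fun x => by
      show φ (e' (x ⊗ₜ (1 ⊗ₜ 1))) = _
      rw [he', one_smul]
      exact AlgHom.congr_fun hφ x
    haveI := hkerover φ₁ hl
    have hker : RingHom.ker φ₁ = P' := huniq _ (RingHom.ker_isPrime _) this fun h => hφe h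
    let ψ : S →ₐ[R] Ω := φ.comp Algebra.TensorProduct.includeRight
    have hr : ∀ r s, φ₁ (1 ⊗ₜ (r ⊗ₜ s)) = ρ₁ r * ψ s := fun r s => by
      show φ (e' (1 ⊗ₜ (r ⊗ₜ s))) = _
      rw [he', ← mul_one (r • (1 : R₂)), ← one_mul s, ← Algebra.TensorProduct.tmul_mul_tmul, map_mul,
        one_mul]
      refine congrArg₂ (· * ·) ?_ rfl
      refine (AlgHom.congr_fun hφ _).trans ?_
      rw [AlgHom.restrictScalars_apply, map_smul, map_one, Algebra.smul_def, mul_one]
      rfl
    have hψker : RingHom.ker ψ = q := by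
      ext s
      have : φ₁ (1 ⊗ₜ (1 ⊗ₜ s)) = 0 ↔ χ₁ (1 ⊗ₜ s) = 0 := by
        rw [← RingHom.mem_ker, hker, ← RingHom.mem_ker]
        show (1 ⊗ₜ s : R₁ ⊗[R] S) ∈ P'.comap Algebra.TensorProduct.includeRight.toRingHom ↔ _
        rw [hP'q]
      rw [hr, map_one, one_mul, hχ₁, map_one, one_mul] at this
      exact this
    let j : K →ₐ[R] Ω := Ideal.ResidueField.liftₐ q ψ hψker.ge fun s hs => isUnit_iff_ne_zero.2 fun h =>
      hs (hψker.le h)
    have hj : ∀ s, j (algebraMap S K s) = ψ s := fun s => Ideal.ResidueField.liftₐ_algebraMap _ _ _ _ _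
    have hjα : j α = ι α := by
      obtain ⟨⟨a, ⟨t, ht⟩⟩, hat⟩ := (show ∃ at' : S × q.primeCompl,
          α * algebraMap S K (at'.2 : S) = algebraMap S K at'.1 by
        obtain ⟨y, hy⟩ := IsLocalRing.residue_surjective α
        obtain ⟨⟨a, b⟩, hab⟩ := IsLocalization.surj q.primeCompl y
        refine ⟨(a, b), ?_⟩
        rw [IsScalarTower.algebraMap_apply S (Localization.AtPrime q) K,
          IsScalarTower.algebraMap_apply S (Localization.AtPrime q) K,
          IsLocalRing.ResidueField.algebraMap_eq, ← hab, map_mul, hy])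
      have hmem : P.X ⊗ₜ t - 1 ⊗ₜ a ∈ q₁ := by
        have hX : ρK P.X = α := P.lift_X α hPK
        rw [RingHom.mem_ker, map_sub, hχ₁, hχ₁, map_one, one_mul, sub_eq_zero, ← hι, ← hι, ← hat,
          map_mul]
        show ι (ρK P.X) * _ = _
        rw [hX]
      rw [← hP'q, Ideal.mem_comap, ← hker, RingHom.mem_ker, AlgHom.toRingHom_eq_coe, RingHom.coe_coe,
        Algebra.TensorProduct.includeRight_apply, TensorProduct.tmul_sub, map_sub, hr, hr, map_one,
        one_mul, sub_eq_zero] at hmem
      have hψt : ψ t ≠ 0 := fun h => ht (hψker.le h)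
      apply mul_right_cancel₀ hψt
      have := congrArg j hat
      rw [map_mul, hj, hj] at this
      rw [this, ← hmem]
      show ι (ρK P.X) * _ = _
      rw [P.lift_X α hPK]
    have hF : ∀ x : F, j (algebraMap F K x) = ι (algebraMap F K x) := by
      intro x
      have : (j.toRingHom.comp (algebraMap F K)) = ι.toRingHom.comp (algebraMap F K) :=
        Ideal.ResidueField.ringHom_ext (RingHom.ext fun r => by
          show j (algebraMap F K (algebraMap R F r)) = ι (algebraMap F K (algebraMap R F r))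
          rw [← IsScalarTower.algebraMap_apply R F K, j.commutes, ι.commutes])
      exact RingHom.congr_fun this x
    have hjι : j = ι := by
      letI : Algebra F Ω := (ι.toRingHom.comp (algebraMap F K)).toAlgebra
      let jF : K →ₐ[F] Ω := { j with commutes' := hF }
      let ιF : K →ₐ[F] Ω := { ι with commutes' := fun _ => rfl }
      have h0 : jF (α₀ : K) = ιF (α₀ : K) := by
        have h' := hjα
        simp only [α, Algebra.smul_def] at h'
        rw [map_mul, map_mul, AlgHom.commutes, AlgHom.commutes] at h'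
        refine mul_left_cancel₀ ?_ h'
        rw [← ι.commutes, IsScalarTower.algebraMap_apply R F K]
        exact fun h => hc ((map_eq_zero _).1 ((map_eq_zero _).1 h))
      have hL : jF.toRingHom.comp (algebraMap (separableClosure F K) K) =
          ιF.toRingHom.comp (algebraMap (separableClosure F K) K) := by
        have : (jF.comp (separableClosure F K).val) = ιF.comp (separableClosure F K).val := by
          refine AlgHom.ext fun x => ?_
          have hx : x ∈ Algebra.adjoin F {α₀} := by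
            rw [← IntermediateField.adjoin_simple_toSubalgebra_of_isAlgebraic
              (Algebra.IsAlgebraic.isAlgebraic α₀), hα₀]
            trivial
          induction hx using Algebra.adjoin_induction with
          | mem y hy => rw [Set.mem_singleton_iff.1 hy]; exact h0
          | algebraMap r => simp only [AlgHom.commutes]
          | add y z _ _ hy hz => simp only [map_add, hy, hz]
          | mul y z _ _ hy hz => simp only [map_mul, hy, hz]
        exact congrArg AlgHom.toRingHom this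
      exact AlgHom.ext fun x => RingHom.congr_fun
        (IsPurelyInseparable.injective_comp_algebraMap (separableClosure F K) K Ω hL) x
    refine AlgHom.ext fun s => ?_
    show ψ s = χ s
    rw [← hj, hjι, hι]

end Groth.Agent.FlatMorWeight
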