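import Groth.Agent.FlatMorWeight.LevelSets
import Groth.Agent.FlatMorGeom.GeomFibreBound

/-! Weightings and their fibre integrals on quasi-compact sources are bounded. -/

universe u

namespace Groth.Agent.FlatMorWeight

open AlgebraicGeometry CategoryTheory Limits TopologicalSpace Groth.Agent.H8ProCons

variable {X Y : Scheme.{u}} {f : X ⟶ Y} {w : X → ℤ}

theorem finite_range [LocallyQuasiFinite f] [LocallyOfFiniteType f] [CompactSpace X]
    (hw : MoreMor.IsWeighting f w) : (Set.range w).Finite := by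
  choose W hW hxW using fun x : X => (X.isBasis_affineOpens.exists_subset_of_mem_open
    (Set.mem_univ x) isOpen_univ)
  obtain ⟨t, ht⟩ := isCompact_univ.elim_finite_subcover W
    (fun x => X.isBasis_affineOpens.isOpen (hW x)) fun x _ => Set.mem_iUnion.2 ⟨x, (hxW x).1⟩
  refine (t.finite_toSet.biUnion (t := fun x => w '' W x) fun x _ => ?_).subset ?_
  · obtain ⟨V, hV, hVW⟩ := hW x
    replace hV : IsAffineOpen V := hV
    rw [← hVW]
    haveI := quasiSeparatedSpace_of_isAffineOpen hV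
    haveI := compactSpace_opens hV.isCompact
    obtain ⟨s, hs⟩ := @IsCompact.elim_finite_subcover _ (constructibleTopology (V : Set X)) Set.univ ℤ
      (isCompact_cons (@isClosed_univ _ (constructibleTopology _))) (fun n => Subtype.val ⁻¹' {y : X | w y = n})
      (fun n => isOpen_cons_of_isIndConstructible
        (isLocallyConstructible_iff_ind_and_pro.1 (isLocallyConstructible_level hw n)).1 hV)
      fun y _ => Set.mem_iUnion.2 ⟨w y.1, rfl⟩
    refine s.finite_toSet.subset ?_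
    rintro _ ⟨y, hy, rfl⟩
    obtain ⟨n, hn, h⟩ := Set.mem_iUnion₂.1 (hs (Set.mem_univ (⟨y, hy⟩ : (V : Set X))))
    rwa [show w y = n from h]
  · rintro _ ⟨y, rfl⟩
    obtain ⟨x, hx, hy⟩ := Set.mem_iUnion₂.1 (ht (Set.mem_univ y))
    exact Set.mem_biUnion (x := x) hx ⟨y, hy, rfl⟩

theorem exists_card_GP_le (f : X ⟶ Y) [LocallyQuasiFinite f] [LocallyOfFiniteType f] [CompactSpace X] :
    ∃ d : ℕ, ∀ {Ω : Type u} [Field Ω] [IsAlgClosed Ω] (v : Spec (CommRingCat.of Ω) ⟶ Y),
      (GP Ω f v).Finite ∧ (GP Ω f v).ncard ≤ d ∧ (f ⁻¹' {pt v}).Finite := by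
  choose U n hxU hn using FlatMorGeom.bound_near f
  obtain ⟨t, ht⟩ := isCompact_univ.elim_finite_subcover (fun x => (U x : Set X)) (fun x => (U x).2)
    fun x _ => Set.mem_iUnion.mpr ⟨x, hxU x⟩
  refine ⟨∑ x ∈ t, n x, fun {Ω} _ _ v => ?_⟩
  haveI : LocallyQuasiFinite (pullback.snd f v) := inferInstance
  let Φ : GP Ω f v → ↑(pullback f v) := fun z =>
    pt (pullback.lift z.1 (𝟙 _) (by rw [Category.id_comp]; exact z.2))
  have hΦ : Function.Injective Φ := fun a b h => by
    have key : ∀ s₁ s₂ : Spec (CommRingCat.of Ω) ⟶ pullback f v, s₁ ≫ pullback.snd f v = 𝟙 _ →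
        s₂ ≫ pullback.snd f v = 𝟙 _ → pt s₁ = pt s₂ → s₁ = s₂ := by
      intro s₁ s₂ h₁ h₂ hp
      let π := pullback.snd f v
      have hq : π (pt s₁) = pt (𝟙 (Spec (CommRingCat.of Ω))) := by rw [← pt_comp, h₁]
      obtain ⟨hfin, hcard, -⟩ := card_GP_at π (𝟙 _) (pt s₁) hq
      have h1 : Nat.card {y : Spec (CommRingCat.of Ω) ⟶ pullback f v // y ≫ π = 𝟙 _ ∧ pt y = pt s₁} = 1 := by
        rw [hcard]
        letI := (π.residueFieldMap (pt s₁)).hom.toAlgebra
        haveI : Module.Finite ((Spec (CommRingCat.of Ω)).residueField (π (pt s₁))) ((pullback f v).residueField (pt s₁)) :=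
          residueFieldMap_finite π (pt s₁)
        haveI : IsAlgClosed ((Spec (CommRingCat.of Ω)).residueField (π (pt s₁))) := by
          obtain ⟨φ, hφ⟩ := exists_specMap (𝟙 (Spec (CommRingCat.of Ω)))
          haveI : IsAlgClosed ((Spec (CommRingCat.of Ω)).residueField (pt (𝟙 (Spec (CommRingCat.of Ω))))) := by
            obtain ⟨ψ, hψ⟩ := Spec.map_surjective
              ((Spec (CommRingCat.of Ω)).fromSpecResidueField (pt (𝟙 (Spec (CommRingCat.of Ω)))))
            have h1 : ψ ≫ φ = 𝟙 _ := Spec.map_injective (by rw [Spec.map_comp, hψ, hφ, Spec.map_id])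
            have hb : Function.Bijective φ.hom := ⟨φ.hom.injective, fun r => ⟨ψ.hom r, congr($(h1).hom r)⟩⟩
            exact IsAlgClosed.of_ringEquiv _ _ (RingEquiv.ofBijective φ.hom hb).symm
          rw [hq]; infer_instance
        have hb := IsAlgClosed.algebraMap_bijective_of_isIntegral
          (k := (Spec (CommRingCat.of Ω)).residueField (π (pt s₁))) (K := (pullback f v).residueField (pt s₁))
        rw [← Field.finSepDegree_eq_of_equiv _ _ _ (AlgEquiv.ofBijective (Algebra.ofId _ _) hb),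
          Field.finSepDegree_self]
      haveI := (Nat.card_eq_one_iff_unique.1 h1).1
      exact congrArg Subtype.val (Subsingleton.elim
        (⟨s₁, h₁, rfl⟩ : {y : Spec (CommRingCat.of Ω) ⟶ pullback f v // y ≫ π = 𝟙 _ ∧ pt y = pt s₁})
        ⟨s₂, h₂, hp.symm⟩)
    have := congrArg (· ≫ pullback.fst f v) (key _ _ (pullback.lift_snd _ _ _) (pullback.lift_snd _ _ _) h)
    rw [pullback.lift_fst, pullback.lift_fst] at this
    exact Subtype.ext this
  have hle : ENat.card ↑(pullback f v) ≤ (∑ x ∈ t, n x : ℕ) := by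
    calc ENat.card ↑(pullback f v)
        = Set.encard (⋃ x ∈ t, {z : ↑(pullback f v) | pullback.fst f v z ∈ U x}) := by
          rw [← Set.encard_univ]
          congr 1
          refine (Set.eq_univ_iff_forall.mpr fun z => ?_).symm
          simpa using ht (Set.mem_univ (pullback.fst f v z))
      _ ≤ ∑ x ∈ t, Set.encard {z : ↑(pullback f v) | pullback.fst f v z ∈ U x} :=
          Finset.set_encard_biUnion_le t _
      _ ≤ ∑ x ∈ t, (n x : ℕ∞) := Finset.sum_le_sum fun x _ => hn x _ v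
      _ = _ := by rw [Nat.cast_sum]
  have henc : (GP Ω f v).encard ≤ (∑ x ∈ t, n x : ℕ) := (ENat.card_le_card_of_injective hΦ).trans hle
  have hfin : (GP Ω f v).Finite := Set.encard_lt_top_iff.1 (henc.trans_lt (ENat.natCast_lt_top _))
  refine ⟨hfin, ?_, (hfin.image pt).subset fun q hq => ?_⟩
  · rw [← hfin.cast_ncard_eq] at henc; exact_mod_cast henc
  · obtain ⟨z, hz, rfl⟩ := exists_GP_at f v q hq
    exact ⟨z, hz, rfl⟩

theorem exists_bound [LocallyQuasiFinite f] [LocallyOfFiniteType f] [CompactSpace X]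
    (hw : MoreMor.IsWeighting f w) : ∃ B : ℤ, ∀ y, MoreMor.fibreIntegral f w y ≤ B := by
  obtain ⟨d, hd⟩ := exists_card_GP_le f
  obtain ⟨M, hM⟩ := (finite_range hw).bddAbove
  refine ⟨d * max M 0, fun y => ?_⟩
  obtain ⟨Ω, _, _, vb, rfl⟩ := exists_geomPt' y
  obtain ⟨hfin, hcard, hfib⟩ := hd vb
  rw [fibreIntegral_eq_finsum f vb hfib, finsum_mem_eq_finite_toFinset_sum _ hfin]
  refine (Finset.sum_le_card_nsmul _ _ (max M 0) fun z _ =>
    (hM (Set.mem_range_self _)).trans (le_max_left _ _)).trans ?_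
  rw [nsmul_eq_mul]
  refine mul_le_mul_of_nonneg_right ?_ (le_max_right _ _)
  rw [← Set.ncard_eq_toFinset_card _ hfin]
  exact_mod_cast hcard

theorem attains_max [LocallyQuasiFinite f] [LocallyOfFiniteType f] [CompactSpace X] [Nonempty Y]
    (hw : MoreMor.IsWeighting f w) :
    ∃ y₀ : Y, ∀ y : Y, MoreMor.fibreIntegral f w y ≤ MoreMor.fibreIntegral f w y₀ := by
  obtain ⟨B, hB⟩ := exists_bound hw
  obtain ⟨m, ⟨y₀, rfl⟩, hm⟩ := Int.exists_greatest_of_bdd (P := fun n => ∃ y, MoreMor.fibreIntegral f w y = n)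
    ⟨B, fun n ⟨y, hy⟩ => hy ▸ hB y⟩ ⟨_, Classical.arbitrary Y, rfl⟩
  exact ⟨y₀, fun y => hm _ ⟨y, rfl⟩⟩

end Groth.Agent.FlatMorWeight
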