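import Groth.Agent.FlatMorWeight.PieceCover
import Groth.Agent.H8Lim.Constructible
import Groth.Agent.H8ProCons.Global

/-! Descent of weightings along limits of affine schemes. -/

universe u

namespace Groth.Agent.FlatMorWeight

open AlgebraicGeometry CategoryTheory Limits TopologicalSpace Groth.Agent.H8ProCons Topology

section Limit

variable {J : Type u} [SmallCategory J] [IsCofiltered J] {E : J ⥤ Scheme.{u}} {c : Cone E}
  (hc : IsLimit c) [∀ {i j} (f : i ⟶ j), IsAffineHom (E.map f)]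

/-- A function with constructible levels on a compact scheme has finite range. -/
theorem finite_range_of_levels {X : Scheme.{u}} [CompactSpace X] [QuasiSeparatedSpace X] (w : X → ℤ)
    (hw : ∀ n, IsLocallyConstructible {x | w x = n}) : (Set.range w).Finite := by
  have hc := isCompact_cons (X := X) (E := Set.univ) (@isClosed_univ _ (constructibleTopology X))
  obtain ⟨t, ht⟩ := @IsCompact.elim_finite_subcover X (constructibleTopology X) _ _ hc
    (fun n => {x | w x = n}) (fun n => isOpen_cons_of_isLocallyConstructible (hw n))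
    fun x _ => Set.mem_iUnion.2 ⟨w x, rfl⟩
  refine t.finite_toSet.subset ?_
  rintro _ ⟨x, rfl⟩
  obtain ⟨n, hn, hx⟩ := Set.mem_iUnion₂.1 (ht (Set.mem_univ x))
  exact (show w x = n from hx) ▸ hn

include hc in
/-- A function with constructible levels comes from a stage. -/
theorem exists_fun_eq (i₀ : J) [∀ i, CompactSpace (E.obj i)] [∀ i, QuasiSeparatedSpace (E.obj i)]
    (w : c.pt → ℤ) (hw : ∀ n, IsConstructible {x | w x = n}) (s : Finset ℤ) :
    ∃ (j : J) (_ : j ⟶ i₀) (wj : E.obj j → ℤ), (∀ n, IsConstructible {x | wj x = n}) ∧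
      ∀ p, w p ∈ s → wj (c.π.app j p) = w p := by
  induction s using Finset.induction_on with
  | empty =>
    refine ⟨i₀, 𝟙 _, fun _ => 0, fun n => ?_, fun p hp => absurd hp (Finset.notMem_empty _)⟩
    by_cases h : (0 : ℤ) = n
    · simpa [h] using IsConstructible.empty.compl
    · simpa [h] using IsConstructible.empty
  | insert n t _ ih =>
    classical
    obtain ⟨j, φ, wj, hwj, hwj'⟩ := ih
    obtain ⟨i, ψ, Z, hZ, hZe⟩ := H8Lim.exists_isConstructible_eq hc j (hw n)
    let A : Set (E.obj i) := E.map ψ ⁻¹' {x | wj x = n}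
    refine ⟨i, ψ ≫ φ, fun x => if x ∈ Z then n else wj (E.map ψ x), fun m => ?_, fun p hp => ?_⟩
    · have hW := (E.map ψ).isConstructible_preimage (hwj m)
      by_cases h : n = m
      · convert hZ.union hW using 1
        ext x
        by_cases hx : x ∈ Z <;> simp [hx, h]
      · convert hW.sdiff hZ using 1
        ext x
        by_cases hx : x ∈ Z <;> simp [hx, h]
    · have hpZ : c.π.app i p ∈ Z ↔ w p = n := Iff.of_eq congr(p ∈ $hZe)
      dsimp only
      by_cases h : w p = n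
      · rw [if_pos (hpZ.2 h), h]
      · rw [if_neg (mt hpZ.1 h), ← Scheme.Hom.comp_apply, c.w]
        exact hwj' p ((Finset.mem_insert.1 hp).resolve_left h)

include hc in
/-- Local constancy descends. -/
theorem exists_isLocallyConstant_comp {i : J} [CompactSpace (E.obj i)] [QuasiSeparatedSpace (E.obj i)] (F : E.obj i → ℤ)
    (hF : ∀ n, IsLocallyConstructible {x | F x = n}) (h : IsLocallyConstant (F ∘ c.π.app i)) :
    ∃ (j : J) (φ : j ⟶ i), IsLocallyConstant (F ∘ E.map φ) := by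
  haveI : Finite (Set.range F) := (finite_range_of_levels F hF).to_subtype
  have key : ∀ n : Set.range F, ∃ (j : J) (φ : j ⟶ i), IsOpen (E.map φ ⁻¹' {x | F x = n.1}) :=
    fun n => H8Lim.exists_isOpen_preimage hc (hF n.1) (h.isOpen_fiber n.1)
  choose j φ hφ using key
  obtain ⟨k, g, gj, hg⟩ := IsCofiltered.wideCospan φ
  refine ⟨k, g, IsLocallyConstant.iff_isOpen_fiber.2 fun n => ?_⟩
  by_cases hn : n ∈ Set.range F
  · have h1 := (hφ ⟨n, hn⟩).preimage (E.map (gj ⟨n, hn⟩)).continuous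
    rw [H8Lim.preimage_map_comp, hg] at h1
    exact h1
  · convert isOpen_empty using 1
    exact Set.eq_empty_iff_forall_notMem.2 fun x hx => hn ⟨_, hx⟩

end Limit

variable {X Y : Scheme.{u}}

/-- The map of fibre products is Cartesian over the second factors. -/
theorem isPullback_map {X' Y' V V' : Scheme.{u}} {f : X ⟶ Y} {f' : X' ⟶ Y'} {qx : X' ⟶ X} {qy : Y' ⟶ Y}
    (hX : IsPullback qx f' f qy) {g : V ⟶ Y} {g' : V' ⟶ Y'} {qv : V' ⟶ V} (e : g' ≫ qy = qv ≫ g) :
    IsPullback (pullback.map f' g' f g qx qv qy hX.w.symm e) (pullback.snd f' g') (pullback.snd f g) qv := by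
  refine IsPullback.of_right ?_ (pullback.lift_snd _ _ _) (IsPullback.of_hasPullback f g)
  rw [pullback.lift_fst, ← e]
  exact (IsPullback.of_hasPullback f' g').paste_horiz hX

theorem fibreIntegral_opens_bc {P V P' V' : Scheme.{u}} {π : P ⟶ V} {π' : P' ⟶ V'} {a : P' ⟶ P}
    {c : V' ⟶ V} (h : IsPullback a π' π c) [LocallyQuasiFinite π] (O : P.Opens) [IsFinite (O.ι ≫ π)]
    (w : P → ℤ) (v : V') :
    MoreMor.fibreIntegral ((a ⁻¹ᵁ O).ι ≫ π') (fun x => w (a ((a ⁻¹ᵁ O).ι x))) v =
      MoreMor.fibreIntegral (O.ι ≫ π) (fun x => w (O.ι x)) (c v) := by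
  haveI := isFinite_preimage h O
  haveI : LocallyQuasiFinite π' := MorphismProperty.of_isPullback (P := @LocallyQuasiFinite) h ‹_›
  obtain ⟨_, _, _, vb, rfl⟩ := exists_geomPt' v
  rw [← pt_comp, (fibreIntegral_opens π' vb (a ⁻¹ᵁ O) (fun x => w (a x))).1,
    (fibreIntegral_opens π (vb ≫ c) O w).1]
  exact finsum_GPIn_bc h O vb w

/-- Descent of a weighting along a limit of affine schemes. -/
theorem exists_isWeighting_stage {I : Type u} [SmallCategory I] [IsCofiltered I]
    (D : I ⥤ Scheme.{u}) (c : Cone D) (hc : IsLimit c) [∀ i, IsAffine (D.obj i)]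
    (i0 : I) {X0 : Scheme.{u}} [IsAffine X0] (f0 : X0 ⟶ D.obj i0) [LocallyQuasiFinite f0]
    [LocallyOfFinitePresentation f0] [QuasiCompact f0] (f : X ⟶ c.pt) (pX : X ⟶ X0)
    (hX : IsPullback pX f f0 (c.π.app i0)) (w : X → ℤ) (hw : MoreMor.IsWeighting f w) :
    ∃ (k : Over i0) (wk : (H8Lim.stage D f0).obj k → ℤ),
      MoreMor.IsWeighting (H8Lim.stageSnd D f0 k) wk ∧
      ∀ x : X, wk (H8Lim.stageProj f0 c pX f hX k x) = w x := by
  classical
  haveI : ∀ {i j : I} (φ : i ⟶ j), IsAffineHom (D.map φ) := fun φ => inferInstance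
  haveI := MorphismProperty.of_isPullback (P := @LocallyQuasiFinite) hX ‹_›
  haveI := MorphismProperty.of_isPullback (P := @LocallyOfFinitePresentation) hX ‹_›
  -- the weighting on a stage
  have hcX := H8Lim.isLimitStageCone f0 pX f hX hc
  haveI : CompactSpace X := H8Lim.compactSpace_pt hcX (i := Over.mk (𝟙 i0))
  haveI : QuasiSeparatedSpace X := H8Lim.quasiSeparatedSpace_pt hcX (i := Over.mk (𝟙 i0))
  have hlev : ∀ n, IsConstructible {x : X | w x = n} := fun n =>
    (isLocallyConstructible_level hw n).isConstructible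
  obtain ⟨j₀, -, wj, hwj, hwj'⟩ := exists_fun_eq hcX (Over.mk (𝟙 i0)) w hlev
    (finite_range_of_levels w fun n => (hlev n).isLocallyConstructible).toFinset
  replace hwj' : ∀ x, wj (H8Lim.stageProj f0 c pX f hX j₀ x) = w x := fun x =>
    hwj' x ((finite_range_of_levels w fun n => (hlev n).isLocallyConstructible).mem_toFinset.2 ⟨x, rfl⟩)
  -- finitely many families of pieces
  choose V g hg hVaff κ hκ U C hfin hC hC' Ω _ _ vb hvb hgy hne using exists_pieces_nhd f0
  obtain ⟨T, hT⟩ : ∃ T : Finset (D.obj i0), ∀ y, ∃ t ∈ T, y ∈ g t '' C t := by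
    have hcons := isCompact_cons (X := D.obj i0) (E := Set.univ)
      (@isClosed_univ _ (constructibleTopology (D.obj i0)))
    obtain ⟨T, hT⟩ := @IsCompact.elim_finite_subcover _ (constructibleTopology (D.obj i0)) _ _ hcons
      (fun t => g t '' C t)
      (fun t => isOpen_cons_iff_isIndConstructible.2 (isIndConstructible_image (g t) (hC t)))
      fun y _ => Set.mem_iUnion.2 ⟨y, _, hvb y, hgy y⟩
    refine ⟨T, fun y => ?_⟩
    obtain ⟨t, ht, hy⟩ := Set.mem_iUnion₂.1 (hT (Set.mem_univ y))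
    exact ⟨t, ht, hy⟩
  let P := fun (j : Over i0) (t : D.obj i0) => pullback (H8Lim.stageSnd D f0 j) (H8Lim.stageSnd D (g t) j)
  let a : ∀ (j : Over i0) (t : D.obj i0), P j t ⟶ pullback f0 (g t) := fun j t =>
    pullback.map _ _ _ _ (H8Lim.stageFst D f0 j) (H8Lim.stageFst D (g t) j) (D.map j.hom)
      (H8Lim.isPullback_stage D f0 j).w.symm (H8Lim.isPullback_stage D (g t) j).w.symm
  have ha : ∀ j t, IsPullback (a j t) (pullback.snd _ _) (pullback.snd f0 (g t))
      (H8Lim.stageFst D (g t) j) := fun j t =>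
    isPullback_map (H8Lim.isPullback_stage D f0 j) (H8Lim.isPullback_stage D (g t) j).w.symm
  haveI : ∀ j, LocallyQuasiFinite (H8Lim.stageSnd D f0 j) := fun j =>
    MorphismProperty.of_isPullback (H8Lim.isPullback_stage D f0 j) ‹_›
  haveI : ∀ j, LocallyOfFinitePresentation (H8Lim.stageSnd D f0 j) := fun j =>
    MorphismProperty.of_isPullback (H8Lim.isPullback_stage D f0 j) ‹_›
  haveI : ∀ j t (k : κ t), IsFinite ((a j t ⁻¹ᵁ U t k).ι ≫ pullback.snd _ _) := fun j t k =>
    haveI := hfin t k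
    isFinite_preimage (ha j t) (U t k)
  let F : ∀ (t : D.obj i0) (_ : κ t), (H8Lim.stage D (g t)).obj j₀ → ℤ := fun t k =>
    MoreMor.fibreIntegral ((a j₀ t ⁻¹ᵁ U t k).ι ≫ pullback.snd _ _)
      (fun x => wj (pullback.fst (H8Lim.stageSnd D f0 j₀) (H8Lim.stageSnd D (g t) j₀) ((a j₀ t ⁻¹ᵁ U t k).ι x)))
  have hdesc : ∀ p : (Σ t : T, κ t.1), ∃ (j : Over i0) (φ : j ⟶ j₀),
      IsLocallyConstant (F p.1.1 p.2 ∘ (H8Lim.stage D (g p.1.1)).map φ) := by
    rintro ⟨⟨t, ht⟩, k⟩
    haveI := hVaff t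
    let qv := pullback.fst (g t) (c.π.app i0)
    let gL := pullback.snd (g t) (c.π.app i0)
    have hgL := IsPullback.of_hasPullback (g t) (c.π.app i0)
    refine exists_isLocallyConstant_comp (H8Lim.isLimitStageCone (g t) qv gL hgL hc) (i := j₀)
      (F t k) (fun n => ?_) ?_
    · refine isLocallyConstructible_integral_level' _ _ (fun m => ?_) n
      exact H8Lim.isLocallyConstructible_preimage _ (H8Lim.isLocallyConstructible_preimage _
        (hwj m).isLocallyConstructible)
    · let aL : pullback f gL ⟶ P j₀ t := pullback.map f gL _ _ (H8Lim.stageProj f0 c pX f hX j₀)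
        (H8Lim.stageProj (g t) c qv gL hgL j₀) (c.π.app j₀.left)
        (H8Lim.stageProj_snd f0 c pX f hX j₀).symm (H8Lim.stageProj_snd (g t) c qv gL hgL j₀).symm
      have hproj : IsPullback (H8Lim.stageProj f0 c pX f hX j₀) f (H8Lim.stageSnd D f0 j₀)
          (c.π.app j₀.left) := by
        refine IsPullback.of_right ?_ (H8Lim.stageProj_snd f0 c pX f hX j₀) (H8Lim.isPullback_stage D f0 j₀)
        rw [H8Lim.stageProj_fst, c.w]
        exact hX
      have haL : IsPullback aL (pullback.snd f gL) (pullback.snd _ _)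
          (H8Lim.stageProj (g t) c qv gL hgL j₀) :=
        isPullback_map hproj (H8Lim.stageProj_snd (g t) c qv gL hgL j₀).symm
      haveI := isFinite_preimage haL (a j₀ t ⁻¹ᵁ U t k)
      have h1 := isLocallyConstant_of_isPullback hw (IsPullback.of_hasPullback f gL)
        (aL ⁻¹ᵁ (a j₀ t ⁻¹ᵁ U t k))
      have e : MoreMor.fibreIntegral ((aL ⁻¹ᵁ (a j₀ t ⁻¹ᵁ U t k)).ι ≫ pullback.snd f gL)
          (fun x => w (pullback.fst f gL ((aL ⁻¹ᵁ (a j₀ t ⁻¹ᵁ U t k)).ι x))) =
          F t k ∘ ⇑(H8Lim.stageProj (g t) c qv gL hgL j₀) := funext fun v => by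
        refine Eq.trans ?_ (fibreIntegral_opens_bc haL (a j₀ t ⁻¹ᵁ U t k)
          (fun x => wj (pullback.fst (H8Lim.stageSnd D f0 j₀) (H8Lim.stageSnd D (g t) j₀) x)) v)
        congr 1
        funext x
        rw [← hwj', ← Scheme.Hom.comp_apply, ← Scheme.Hom.comp_apply, ← Scheme.Hom.comp_apply]
        simp only [aL, pullback.map, Category.assoc, pullback.lift_fst]
        try rfl
      exact e ▸ h1
  haveI : ∀ t : T, Fintype (κ t.1) := fun t => hκ t.1
  choose j φ hφ using hdesc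
  obtain ⟨k, ψ, ψj, hψ⟩ := IsCofiltered.wideCospan φ
  refine ⟨k, fun x => wj ((H8Lim.stage D f0).map ψ x), isWeighting_of_nhds _ _ fun y => ?_, fun x => ?_⟩
  swap
  · dsimp only
    rw [← hwj' x, ← Scheme.Hom.comp_apply]
    congr 1
    exact congr($((H8Lim.stageCone f0 c pX f hX).w ψ) x)
  obtain ⟨t, ht, v₀, hv₀, hv₀y⟩ := hT (D.map k.hom y)
  obtain ⟨v, hv1, hv2⟩ := Scheme.exists_preimage_of_isPullback (H8Lim.isPullback_stage D (g t) k) v₀ y hv₀y
  haveI := hg t
  haveI : Etale (H8Lim.stageSnd D (g t) k) :=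
    MorphismProperty.of_isPullback (H8Lim.isPullback_stage D (g t) k) ‹_›
  refine ⟨_, H8Lim.stageSnd D (g t) k, inferInstance, v, hv2, fun {Ω'} _ _ vb' hvb' q hq => ?_⟩
  obtain ⟨h1, h2⟩ := hC' t (vb' ≫ H8Lim.stageFst D (g t) k) (by rw [pt_comp, hvb', hv1]; exact hv₀)
  have hq' : q ≫ a k t ∈ GP Ω' (pullback.snd f0 (g t)) (vb' ≫ H8Lim.stageFst D (g t) k) := by
    show (q ≫ a k t) ≫ _ = _
    rw [Category.assoc, (ha k t).w, ← Category.assoc, show q ≫ pullback.snd _ _ = vb' from hq]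
  obtain ⟨l, hl, -⟩ := h1 _ hq'
  haveI := hfin t l
  refine ⟨a k t ⁻¹ᵁ U t l, isSingle_bc (ha k t) ⟨hfin t l, hl, fun z' hz' hzU => h2 l
    ⟨hz'.trans hq', hzU⟩ ⟨hq', hl⟩⟩ q rfl, ?_⟩
  -- compare with stage `j₀`
  let b : P k t ⟶ P j₀ t := pullback.map _ _ _ _ ((H8Lim.stage D f0).map ψ) ((H8Lim.stage D (g t)).map ψ)
    (D.map ψ.left) (H8Lim.stageMap_snd D f0 ψ).symm (H8Lim.stageMap_snd D (g t) ψ).symm
  have hb : IsPullback b (pullback.snd _ _) (pullback.snd _ _) ((H8Lim.stage D (g t)).map ψ) :=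
    isPullback_map (H8Lim.isPullback_stageMap D f0 ψ) (H8Lim.stageMap_snd D (g t) ψ).symm
  have hba : b ≫ a j₀ t = a k t := by
    refine pullback.hom_ext ?_ ?_
    · simp only [a, b, pullback.map, pullback.lift_fst, pullback.lift_fst_assoc, Category.assoc,
        H8Lim.stageMap_fst]
    · simp only [a, b, pullback.map, pullback.lift_snd, pullback.lift_snd_assoc, Category.assoc,
        H8Lim.stageMap_fst]
  have hlc := (hφ ⟨⟨t, ht⟩, l⟩).comp_continuous
    ((H8Lim.stage D (g t)).map (ψj ⟨⟨t, ht⟩, l⟩)).continuous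
  rw [← hba, Scheme.Hom.comp_preimage]
  convert hlc using 1
  funext u
  have e := fibreIntegral_opens_bc hb (a j₀ t ⁻¹ᵁ U t l) (fun x => wj (pullback.fst (H8Lim.stageSnd D f0 j₀) (H8Lim.stageSnd D (g t) j₀) x)) u
  have e' : (H8Lim.stage D (g t)).map ψ u =
      (H8Lim.stage D (g t)).map (φ ⟨⟨t, ht⟩, l⟩) ((H8Lim.stage D (g t)).map (ψj ⟨⟨t, ht⟩, l⟩) u) := by
    rw [← Scheme.Hom.comp_apply, ← Functor.map_comp, hψ]
  simp only [Function.comp_apply, ← e']
  refine Eq.trans ?_ e
  congr 1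
  funext x
  simp only [← Scheme.Hom.comp_apply, b, pullback.map, Category.assoc, pullback.lift_fst]

end Groth.Agent.FlatMorWeight
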