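import Groth.Agent.S0021
import Mathlib.AlgebraicGeometry.Morphisms.Finite
import Mathlib.AlgebraicGeometry.Noetherian
import Mathlib.RingTheory.Localization.Integral
import Mathlib.RingTheory.FiniteType

/-! A quasi-compact open of an affine scheme which is the image of an affine scheme, finite over it, is
affine (Chevalley, by descent to finitely generated `ℤ`-algebras). -/

universe u

set_option autoImplicit false
set_option backward.isDefEq.respectTransparency false

namespace Groth.Agent.FlatMorWeight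

open AlgebraicGeometry CategoryTheory CategoryTheory.Limits TopologicalSpace TensorProduct Polynomial

theorem finite_restrict_basicOpen_iff {A B : Type u} [CommRing A] [CommRing B] [Algebra A B] (a : A) :
    IsFinite (Spec.map (CommRingCat.ofHom (algebraMap A B)) ∣_ PrimeSpectrum.basicOpen a) ↔
      (Algebra.TensorProduct.includeRight : Localization.Away a →ₐ[A] B ⊗[A] Localization.Away a).toRingHom.Finite := by
  let g := Spec.map (CommRingCat.ofHom (algebraMap A (Localization.Away a)))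
  have : IsOpenImmersion g := IsOpenImmersion.of_isLocalization (S := Localization.Away a) a
  have hg : g.opensRange = PrimeSpectrum.basicOpen a :=
    Opens.ext (PrimeSpectrum.localization_away_comap_range (Localization.Away a) a)
  rw [← hg]
  refine ((MorphismProperty.arrow_mk_iso_iff (@IsFinite.{u}) (morphismRestrictOpensRange _ g))).trans ?_
  rw [← pullbackSpecIso_hom_snd A B (Localization.Away a), MorphismProperty.cancel_left_of_respectsIso (P := @IsFinite.{u}),
    IsFinite.SpecMap_iff]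
  rfl

theorem exists_relation {A B : Type u} [CommRing A] [CommRing B] [Algebra A B] (a : A)
    (h : (Algebra.TensorProduct.includeRight : Localization.Away a →ₐ[A] B ⊗[A] Localization.Away a).toRingHom.Finite)
    (b : B) : ∃ (p : A[X]) (m M : ℕ), p.Monic ∧
      algebraMap A B a ^ M * aeval (algebraMap A B a ^ m * b) p = 0 := by
  let Ba := Localization.Away (algebraMap A B a)
  let loc : Localization.Away a →ₐ[A] Ba :=
    IsLocalization.liftAlgHom (M := Submonoid.powers a) (f := Algebra.ofId A Ba) (fun y => by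
      obtain ⟨_, k, rfl⟩ := y
      show IsUnit (algebraMap A Ba (a ^ k))
      rw [map_pow, IsScalarTower.algebraMap_apply A B Ba]
      exact (IsLocalization.Away.algebraMap_isUnit (algebraMap A B a)).pow k)
  let ψ : B ⊗[A] Localization.Away a →ₐ[A] Ba :=
    Algebra.TensorProduct.lift (IsScalarTower.toAlgHom A B Ba) loc (fun _ _ => .all _ _)
  let _ : Algebra (Localization.Away a) (B ⊗[A] Localization.Away a) :=
    (Algebra.TensorProduct.includeRight : Localization.Away a →ₐ[A] B ⊗[A] Localization.Away a).toRingHom.toAlgebra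
  let _ : Algebra (Localization.Away a) Ba := loc.toRingHom.toAlgebra
  have : IsScalarTower A (Localization.Away a) Ba := .of_algebraMap_eq fun x => (loc.commutes x).symm
  have : Module.Finite (Localization.Away a) (B ⊗[A] Localization.Away a) := h
  let ψ' : B ⊗[A] Localization.Away a →ₐ[Localization.Away a] Ba :=
    AlgHom.mk ψ.toRingHom fun x => (Algebra.TensorProduct.lift_tmul (IsScalarTower.toAlgHom A B Ba) loc
      (fun _ _ => .all _ _) 1 x).trans (by rw [map_one, one_mul]; rfl)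
  have hint : IsIntegral (Localization.Away a) (algebraMap B Ba b) := by
    have h1 : IsIntegral (Localization.Away a) (b ⊗ₜ[A] (1 : Localization.Away a)) := .of_finite _ _
    have := h1.map ψ'
    rwa [show ψ' (b ⊗ₜ[A] (1 : Localization.Away a)) = algebraMap B Ba b from by
      show ψ _ = _; simp [ψ]] at this
  obtain ⟨⟨_, m, rfl⟩, p, hp, hev⟩ :=
    IsIntegral.exists_multiple_integral_of_isLocalization (Submonoid.powers a) (algebraMap B Ba b) hint
  have h0 : algebraMap B Ba (aeval (algebraMap A B a ^ m * b) p) = 0 := by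
    rw [← aeval_algebraMap_apply, map_mul, map_pow, ← IsScalarTower.algebraMap_apply, ← map_pow,
      ← Algebra.smul_def]
    exact hev
  obtain ⟨⟨_, M, rfl⟩, hM⟩ := (IsLocalization.map_eq_zero_iff (Submonoid.powers (algebraMap A B a)) Ba _).1 h0
  exact ⟨p, m, M, hp, hM⟩

theorem finite_includeRight_of_relations {A B : Type u} [CommRing A] [CommRing B] [Algebra A B]
    [Algebra.FiniteType A B] (a : A) (G : Set B) (hG : Algebra.adjoin A G = ⊤)
    (h : ∀ g ∈ G, ∃ (p : A[X]) (m M : ℕ), p.Monic ∧ algebraMap A B a ^ M * aeval (algebraMap A B a ^ m * g) p = 0) :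
    (Algebra.TensorProduct.includeRight : Localization.Away a →ₐ[A] B ⊗[A] Localization.Away a).toRingHom.Finite := by
  let R := Localization.Away a
  let T := R ⊗[A] B
  have hF : IsUnit (algebraMap A T a) := by
    rw [IsScalarTower.algebraMap_apply A R T]
    exact (IsLocalization.Away.algebraMap_isUnit a).map _
  have hg : ∀ g ∈ G, IsIntegral R ((1 : R) ⊗ₜ[A] g) := by
    intro g hg
    obtain ⟨p, m, M, hp, he⟩ := h g hg
    let ι : B →ₐ[A] T := Algebra.TensorProduct.includeRight
    have h0 : aeval (algebraMap A T a ^ m * ι g) p = 0 := by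
      have := congrArg ι he
      rw [map_mul, map_pow, AlgHom.commutes, map_zero, ← Polynomial.aeval_algHom_apply, map_mul, map_pow,
        AlgHom.commutes] at this
      exact (hF.pow M).mul_right_eq_zero.1 this
    have hi : IsIntegral R (algebraMap A T a ^ m * ι g) := IsIntegral.tower_top (R := A) ⟨p, hp, h0⟩
    obtain ⟨v, hv⟩ := (IsLocalization.Away.algebraMap_isUnit (S := R) a).pow m
    have := (isIntegral_algebraMap (R := R) (A := T) (x := (↑v⁻¹ : R))).mul hi
    rw [← mul_assoc, IsScalarTower.algebraMap_apply A R T, ← map_pow (algebraMap R T), ← hv, ← map_mul,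
      Units.inv_mul, map_one, one_mul] at this
    exact this
  have : Algebra.IsIntegral R T := ⟨fun z => by
    induction z using TensorProduct.induction_on with
    | zero => exact isIntegral_zero
    | tmul r b =>
      rw [show r ⊗ₜ[A] b = r • ((1 : R) ⊗ₜ[A] b) by rw [TensorProduct.smul_tmul', smul_eq_mul, mul_one]]
      refine IsIntegral.smul _ ?_
      have hb : b ∈ Algebra.adjoin A G := hG ▸ Algebra.mem_top
      induction hb using Algebra.adjoin_induction with
      | mem x hx => exact hg x hx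
      | algebraMap x =>
        rw [show (1 : R) ⊗ₜ[A] algebraMap A B x = algebraMap R T (algebraMap A R x) from by
          rw [← IsScalarTower.algebraMap_apply, ← (Algebra.TensorProduct.includeRight : B →ₐ[A] T).commutes]; rfl]
        exact isIntegral_algebraMap
      | add x y _ _ hx hy => rw [TensorProduct.tmul_add]; exact hx.add hy
      | mul x y _ _ hx hy => rw [← one_mul (1 : R), ← Algebra.TensorProduct.tmul_mul_tmul]; exact hx.mul hy
    | add x y hx hy => exact hx.add hy⟩
  have hfin : Module.Finite R T := Algebra.IsIntegral.finite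
  have h1 : (algebraMap R T).Finite := RingHom.finite_algebraMap.2 hfin
  have h2 := (RingHom.Finite.of_surjective (Algebra.TensorProduct.comm A R B).toRingEquiv.toRingHom
    (Algebra.TensorProduct.comm A R B).surjective).comp h1
  convert h2 using 1
  exact RingHom.ext fun r => (Algebra.TensorProduct.comm_tmul (R := A) r (1 : B)).symm

theorem aeval_coe_subalgebra {A B : Type u} [CommRing A] [CommRing B] [Algebra A B] {A₀ : Subalgebra ℤ A}
    {B₀ : Subalgebra A₀ B} (x : B₀) (p₀ : A₀[X]) :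
    ((aeval x p₀ : B₀) : B) = aeval (x : B) (p₀.map (algebraMap A₀ A)) := by
  rw [aeval_map_algebraMap, Subalgebra.aeval_coe]

/-- Chevalley: a quasi-compact open of an affine scheme which is the image of an affine scheme, finite
over it, is affine. -/
theorem isAffineOpen_of_finite_range {A B : Type u} [CommRing A] [CommRing B] [Algebra A B]
    [Algebra.FiniteType A B] (U : (Spec (CommRingCat.of A)).Opens) (hUc : IsCompact (U : Set (Spec (CommRingCat.of A))))
    (hrange : Set.range (Spec.map (CommRingCat.ofHom (algebraMap A B))) = U)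
    (hfin : IsFinite (Spec.map (CommRingCat.ofHom (algebraMap A B)) ∣_ U)) : IsAffineOpen U := by
  classical
  let φ := Spec.map (CommRingCat.ofHom (algebraMap A B))
  have hloc : ∀ x : (U : Set (Spec (CommRingCat.of A))), ∃ a : A,
      (x : Spec (CommRingCat.of A)) ∈ PrimeSpectrum.basicOpen a ∧ PrimeSpectrum.basicOpen a ≤ U := by
    rintro ⟨x, hx⟩
    obtain ⟨_, ⟨_, ⟨a, rfl⟩, rfl⟩, hxa, hle⟩ :=
      PrimeSpectrum.isBasis_basic_opens.exists_subset_of_mem_open hx U.2
    exact ⟨a, hxa, hle⟩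
  choose f hxf hfU using hloc
  obtain ⟨t, ht⟩ := hUc.elim_finite_subcover (fun x => (PrimeSpectrum.basicOpen (f x) : Set (PrimeSpectrum A)))
    (fun x => (PrimeSpectrum.basicOpen (f x)).2) fun x hx => Set.mem_iUnion.2 ⟨⟨x, hx⟩, hxf ⟨x, hx⟩⟩
  let ι := {x // x ∈ t}
  let a : ι → A := fun i => f i.1
  have haU : ∀ i, PrimeSpectrum.basicOpen (a i) ≤ U := fun i => hfU i.1
  have hUcov : ∀ x ∈ U, ∃ i, x ∈ PrimeSpectrum.basicOpen (a i) := fun x hx => by
    obtain ⟨y, hy, hxy⟩ := Set.mem_iUnion₂.1 (ht hx)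
    exact ⟨⟨y, hy⟩, hxy⟩
  have hone : (1 : B) ∈ Ideal.span (Set.range fun i => algebraMap A B (a i)) := by
    rw [← Ideal.eq_top_iff_one]
    by_contra hne
    obtain ⟨Q, hQ, hle⟩ := Ideal.exists_le_maximal _ hne
    have hxU : φ ⟨Q, hQ.isPrime⟩ ∈ U := hrange.subset ⟨_, rfl⟩
    obtain ⟨i, hi⟩ := hUcov _ hxU
    exact hi (hle (Ideal.subset_span ⟨i, rfl⟩))
  obtain ⟨b, hb⟩ := Ideal.mem_span_range_iff_exists_fun.1 hone
  obtain ⟨G₁, hG₁⟩ : (⊤ : Subalgebra A B).FG := Algebra.FiniteType.out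
  let G : Finset B := G₁ ∪ Finset.univ.image b
  have hfinD : ∀ i, IsFinite (φ ∣_ PrimeSpectrum.basicOpen (a i)) := fun i => by
    have h := MorphismProperty.of_isPullback (P := @IsFinite.{u})
      (isPullback_morphismRestrict (φ ∣_ U) (U.ι ⁻¹ᵁ PrimeSpectrum.basicOpen (a i))).flip hfin
    rw [MorphismProperty.arrow_mk_iso_iff (@IsFinite.{u}) (morphismRestrictRestrict φ U _)] at h
    rwa [Scheme.Hom.image_preimage_eq_opensRange_inf, Scheme.Opens.opensRange_ι, inf_eq_right.2 (haU i)] at h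
  have hrel : ∀ (i : ι) (g : G), ∃ (p : A[X]) (m M : ℕ), p.Monic ∧
      algebraMap A B (a i) ^ M * aeval (algebraMap A B (a i) ^ m * g.1) p = 0 := fun i g =>
    exists_relation (a i) ((finite_restrict_basicOpen_iff _).1 (hfinD i)) g.1
  choose p m M hp hrel using hrel
  let C : Finset A := Finset.univ.image a ∪
    (Finset.univ : Finset (ι × G)).biUnion fun x => (p x.1 x.2).support.image (p x.1 x.2).coeff
  let A₀ : Subalgebra ℤ A := Algebra.adjoin ℤ (C : Set A)
  have hFT : Algebra.FiniteType ℤ A₀ := Algebra.FiniteType.adjoin_of_finite C.finite_toSet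
  have hNoeth : IsNoetherianRing A₀ := Algebra.FiniteType.isNoetherianRing ℤ A₀
  let a₀ : ι → A₀ := fun i => ⟨a i, Algebra.subset_adjoin (Finset.mem_union_left _
    (Finset.mem_image_of_mem a (Finset.mem_univ i)))⟩
  have hp₀ : ∀ i g, ∃ q : A₀[X], q.map (algebraMap A₀ A) = p i g ∧ q.Monic := fun i g => by
    obtain ⟨q, hq, -, hqm⟩ := lifts_and_natDegree_eq_and_monic (f := algebraMap A₀ A) (p := p i g)
      ((lifts_iff_coeff_lifts _).2 fun n => by
        by_cases hn : (p i g).coeff n = 0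
        · exact ⟨0, by rw [map_zero, hn]⟩
        · exact ⟨⟨_, Algebra.subset_adjoin (Finset.mem_union_right _ (Finset.mem_biUnion.2
            ⟨(i, g), Finset.mem_univ _, Finset.mem_image_of_mem _ (mem_support_iff.2 hn)⟩))⟩, rfl⟩) (hp i g)
    exact ⟨q, hq, hqm⟩
  choose q hq hqm using hp₀
  let B₀ : Subalgebra A₀ B := Algebra.adjoin A₀ (G : Set B)
  have hFT₀ : Algebra.FiniteType A₀ B₀ := Algebra.FiniteType.adjoin_of_finite G.finite_toSet
  let G₀ : Set B₀ := Subtype.val ⁻¹' (G : Set B)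
  have hG₀ : Algebra.adjoin A₀ G₀ = ⊤ := Algebra.adjoin_adjoin_coe_preimage
  have hsum : ∑ i, (⟨b i, Algebra.subset_adjoin (Finset.mem_union_right _
      (Finset.mem_image_of_mem b (Finset.mem_univ i)))⟩ : B₀) * algebraMap A₀ B₀ (a₀ i) = 1 := by
    apply Subtype.val_injective
    rw [AddSubmonoidClass.coe_finsetSum, OneMemClass.coe_one, ← hb]
    exact Finset.sum_congr rfl fun i _ => rfl
  let U₀ : (Spec (CommRingCat.of A₀)).Opens := ⨆ i, PrimeSpectrum.basicOpen (a₀ i)
  let φ₀ := Spec.map (CommRingCat.ofHom (algebraMap A₀ B₀))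
  let σ := Spec.map (CommRingCat.ofHom (algebraMap A₀ A))
  have hσU : σ ⁻¹ᵁ U₀ = U := by
    refine Opens.ext (Set.ext fun x => ?_)
    constructor
    · intro h
      obtain ⟨i, hi⟩ := Opens.mem_iSup.1 (show σ x ∈ U₀ from h)
      exact haU i hi
    · intro h
      obtain ⟨i, hi⟩ := hUcov x h
      exact Opens.mem_iSup.2 ⟨i, hi⟩
  have htop : φ₀ ⁻¹ᵁ U₀ = ⊤ := top_le_iff.1 fun x _ => by
    by_contra h
    refine x.2.ne_top ((Ideal.eq_top_iff_one _).2 ?_)
    rw [← hsum]
    exact Ideal.sum_mem _ fun i _ => Ideal.mul_mem_left _ _ (by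
      by_contra hi; exact h (Opens.mem_iSup.2 ⟨i, hi⟩))
  have hfin₀ : IsFinite (φ₀ ∣_ U₀) := by
    have hcov : ⨆ i, U₀.ι ⁻¹ᵁ PrimeSpectrum.basicOpen (a₀ i) = ⊤ :=
      top_le_iff.1 fun x _ => by
        obtain ⟨i, hi⟩ := Opens.mem_iSup.1 x.2
        exact Opens.mem_iSup.2 ⟨i, hi⟩
    refine (IsZariskiLocalAtTarget.iff_of_iSup_eq_top (P := @IsFinite.{u}) _ hcov).2 fun i => ?_
    refine (MorphismProperty.arrow_mk_iso_iff (@IsFinite.{u}) (morphismRestrictRestrict φ₀ U₀ _)).2 ?_
    rw [Scheme.Hom.image_preimage_eq_opensRange_inf, Scheme.Opens.opensRange_ι,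
      inf_eq_right.2 (le_iSup (fun i => PrimeSpectrum.basicOpen (a₀ i)) i)]
    refine (finite_restrict_basicOpen_iff _).2 (finite_includeRight_of_relations (a₀ i) G₀ hG₀ fun g hg => ?_)
    refine ⟨q i ⟨g.1, hg⟩, m i ⟨g.1, hg⟩, M i ⟨g.1, hg⟩, hqm i _, Subtype.val_injective ?_⟩
    rw [MulMemClass.coe_mul, aeval_coe_subalgebra, hq, ZeroMemClass.coe_zero]
    exact hrel i ⟨g.1, hg⟩
  have hsurj : Surjective (φ₀ ∣_ U₀) := ⟨fun y => by
    by_contra hy
    have hcl : IsClosed (Set.range (φ₀ ∣_ U₀)) := (φ₀ ∣_ U₀).isClosedMap.isClosed_range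
    obtain ⟨O, hO, hOy⟩ : ∃ O : Set (Spec (CommRingCat.of A₀)), IsOpen O ∧
        Subtype.val ⁻¹' O = (Set.range (φ₀ ∣_ U₀))ᶜ := isOpen_induced_iff.1 hcl.isOpen_compl
    have hd : DenseRange σ := (PrimeSpectrum.denseRange_comap_iff_ker_le_nilRadical (algebraMap A₀ A)).2 (by
      rw [(RingHom.injective_iff_ker_eq_bot _).1 Subtype.val_injective]; exact bot_le)
    obtain ⟨_, ⟨hxO, hxU⟩, x, rfl⟩ := hd.inter_open_nonempty (O ∩ U₀) (hO.inter U₀.2)
      ⟨y.1, show y ∈ Subtype.val ⁻¹' O from hOy ▸ hy, y.2⟩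
    have hxU' : x ∈ U := hσU.le (show x ∈ σ ⁻¹ᵁ U₀ from hxU)
    obtain ⟨z, rfl⟩ := hrange.superset hxU'
    let z₀ : Spec (CommRingCat.of B₀) := Spec.map (CommRingCat.ofHom (algebraMap B₀ B)) z
    have hz₀ : φ₀ z₀ = σ (φ z) := PrimeSpectrum.ext rfl
    have hz₀U : z₀ ∈ φ₀ ⁻¹ᵁ U₀ := htop ▸ trivial
    have : (⟨σ (φ z), hxU⟩ : U₀) ∈ Subtype.val ⁻¹' O := hxO
    rw [hOy] at this
    exact this ⟨⟨z₀, hz₀U⟩, Subtype.ext ((congrArg (fun g : (φ₀ ⁻¹ᵁ U₀).toScheme ⟶ _ => g ⟨z₀, hz₀U⟩)
      (morphismRestrict_ι φ₀ U₀)).trans hz₀)⟩⟩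
  have : IsAffine (φ₀ ⁻¹ᵁ U₀).toScheme := by rw [htop]; exact isAffineOpen_top _
  have : IsLocallyNoetherian U₀.toScheme := isLocallyNoetherian_of_isOpenImmersion U₀.ι
  have : CompactSpace U₀.toScheme := isCompact_iff_compactSpace.1 (NoetherianSpace.isCompact _)
  have : IsNoetherian U₀.toScheme := ⟨⟩
  have hU₀ : IsAffineOpen U₀ := S0021.vanish (φ₀ ∣_ U₀)
  exact hσU ▸ hU₀.preimage σ

/-- Scheme form. -/
theorem isAffineOpen_of_finite_surjective {Z Y : Scheme.{u}} [IsAffine Z] [IsAffine Y] (h : Z ⟶ Y)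
    [LocallyOfFiniteType h] (U : Y.Opens) (hUc : IsCompact (U : Set Y)) (hrange : Set.range h = U)
    (hfin : IsFinite (h ∣_ U)) : IsAffineOpen U := by
  algebraize [h.appTop.hom]
  have : Algebra.FiniteType Γ(Y, ⊤) Γ(Z, ⊤) :=
    HasRingHomProperty.appTop (P := @LocallyOfFiniteType) h ‹_›
  let h' := Spec.map h.appTop
  let U' : (Spec Γ(Y, ⊤)).Opens := Y.isoSpec.inv ⁻¹ᵁ U
  have hh' : h' ≫ Y.isoSpec.inv = Z.isoSpec.inv ≫ h := Scheme.isoSpec_inv_naturality h
  have hc : IsCompact (U' : Set (Spec Γ(Y, ⊤))) := by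
    have : Homeomorph (Spec Γ(Y, ⊤)) Y := Scheme.homeoOfIso Y.isoSpec.symm
    exact (Scheme.homeoOfIso Y.isoSpec.symm).isCompact_preimage.2 hUc
  have hr : Set.range h' = U' := by
    ext y
    constructor
    · rintro ⟨z, rfl⟩
      show Y.isoSpec.inv (h' z) ∈ U
      rw [← Scheme.Hom.comp_apply, hh', Scheme.Hom.comp_apply]
      exact hrange.subset ⟨_, rfl⟩
    · intro hy
      obtain ⟨z, hz⟩ := hrange.superset (show Y.isoSpec.inv y ∈ U from hy)
      refine ⟨Z.isoSpec.hom z, (Scheme.homeoOfIso Y.isoSpec.symm).injective ?_⟩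
      show Y.isoSpec.inv (h' (Z.isoSpec.hom z)) = Y.isoSpec.inv y
      rw [← Scheme.Hom.comp_apply, ← Scheme.Hom.comp_apply, hh', Iso.hom_inv_id_assoc, hz]
  have hf' : IsFinite (h' ∣_ U') := by
    have h1 : IsFinite ((Z.isoSpec.inv ≫ h) ∣_ U) := by
      rw [morphismRestrict_comp]; exact MorphismProperty.comp_mem (W := @IsFinite.{u}) _ _ inferInstance hfin
    rw [← hh', morphismRestrict_comp] at h1
    exact (MorphismProperty.cancel_right_of_respectsIso (P := @IsFinite.{u}) _ _).1 h1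
  have := (isAffineOpen_of_finite_range (A := Γ(Y, ⊤)) (B := Γ(Z, ⊤)) U' hc hr hf').image_of_isOpenImmersion Y.isoSpec.inv
  rwa [Scheme.Hom.image_preimage_eq_opensRange_inf, show Y.isoSpec.inv.opensRange = ⊤ from
    Opens.ext Y.isoSpec.inv.surjective.range_eq, top_inf_eq] at this

end Groth.Agent.FlatMorWeight
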