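import Groth.Agent.FlatMorWeight.LevelSets

/-! Level sets of fibre integrals are locally constructible. -/

universe u

namespace Groth.Agent.FlatMorWeight

open AlgebraicGeometry CategoryTheory Limits TopologicalSpace Groth.Agent.H8ProCons

variable {X Y : Scheme.{u}} {f : X ⟶ Y} {w : X → ℤ}

theorem isProConstructible_opens {P : Scheme.{u}} (U : P.Opens) [QuasiCompact U.ι] :
    ProCons.IsProConstructible (U : Set P) := by
  have h := isProConstructible_image U.ι (E := (Set.univ : Set U.toScheme))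
    (isProConstructible_iff_compl.2 (by
      rw [Set.compl_univ]; exact isIndConstructible_of_isOpen isOpen_empty))
  rwa [Set.image_univ, Scheme.Opens.range_ι] at h

theorem quasiCompact_ι {P V : Scheme.{u}} (π : P ⟶ V) [QuasiSeparated π] (U : P.Opens)
    [IsFinite (U.ι ≫ π)] : QuasiCompact U.ι :=
  QuasiCompact.of_comp U.ι π

theorem exists_indConstructible_integral [LocallyQuasiFinite f] [LocallyOfFinitePresentation f]
    [QuasiCompact f] [QuasiSeparated f] (hw : MoreMor.IsWeighting f w) (y : Y) :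
    ∃ F : Set Y, ProCons.IsIndConstructible F ∧ y ∈ F ∧
      ∀ y' ∈ F, MoreMor.fibreIntegral f w y' = MoreMor.fibreIntegral f w y := by
  classical
  obtain ⟨Ω, _, _, yb, rfl⟩ := exists_geomPt' y
  have hfin : ∀ y : Y, (f ⁻¹' {y}).Finite := fun y => f.finite_preimage_singleton y
  have hS := finite_GP f yb (hfin _)
  obtain ⟨V, g, vb, U, hg, hvb, hU⟩ := exists_pieces f hS (yb := yb) fun z hz => hz
  haveI := hg
  let π := pullback.snd f g
  let κ := {z // z ∈ hS.toFinset}
  have hsingle : ∀ k : κ, ∃ z₁, IsSingle π (U k.1) z₁ ∧ z₁ ≫ pullback.fst f g = k.1 ∧ z₁ ≫ π = vb :=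
    fun k => isSingle_of_isPiece (hU k.1 (hS.mem_toFinset.1 k.2))
  choose z hz hzx hzv using hsingle
  have hw' := fun k => single_sum_eventually hw g (U k.1) (hz k)
  choose N₂ hN₂ hN₂' using hw'
  let N : V.Opens := (Finset.univ : Finset κ).inf N₂
  let bad : Set ↑(pullback f g) :=
    {q | (∀ k : κ, q ∉ U k.1) ∨ ∃ k k' : κ, k ≠ k' ∧ q ∈ U k.1 ∧ q ∈ U k'.1}
  have hbad : ProCons.IsProConstructible bad := by
    refine isProConstructible_iff_compl.2 (isIndConstructible_of_forall_subset fun q hq => ?_)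
    simp only [bad, Set.mem_compl_iff, Set.mem_setOf_eq, not_or, not_forall, not_not, not_exists, not_and] at hq
    obtain ⟨⟨k, hk⟩, huniq⟩ := hq
    refine ⟨(U k.1 : Set _) ∩ ⋂ k' : {k' : κ // k' ≠ k}, (U k'.1.1 : Set _)ᶜ, ?_,
      ⟨hk, Set.mem_iInter.2 fun k' h => huniq k k'.1 (Ne.symm k'.2) hk h⟩, ?_⟩
    · refine isIndConstructible_inter (isIndConstructible_of_isOpen (U k.1).isOpen) ?_
      have key : ∀ s : Finset {k' : κ // k' ≠ k},
          ProCons.IsIndConstructible (⋂ k' ∈ s, ((U k'.1.1 : Set ↑(pullback f g)))ᶜ) := by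
        intro s
        induction s using Finset.induction_on with
        | empty => simpa using isIndConstructible_of_isOpen isOpen_univ
        | insert a t _ ih =>
          rw [Finset.set_biInter_insert]
          haveI := (hz a.1).1
          haveI := quasiCompact_ι π (U a.1.1)
          exact isIndConstructible_inter (isProConstructible_iff_compl.1 (isProConstructible_opens _)) ih
      simpa using key Finset.univ
    · rintro p ⟨hp, hp'⟩ (h | ⟨a, b, hab, ha, hb⟩)
      · exact h k hp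
      · rw [Set.mem_iInter] at hp'
        rcases eq_or_ne a k with rfl | hak
        · exact hp' ⟨b, hab.symm⟩ hb
        · exact hp' ⟨a, hak⟩ ha
  let G : Set V := (N : Set V) ∩ (π '' bad)ᶜ
  have hG : ProCons.IsIndConstructible G := isIndConstructible_inter (isIndConstructible_of_isOpen N.isOpen)
    (isProConstructible_iff_compl.1 (isProConstructible_image π hbad))
  refine ⟨g '' G, isIndConstructible_image g hG, ⟨pt vb, ⟨?_, ?_⟩, by rw [← pt_comp, hvb]⟩, ?_⟩
  · rw [Opens.coe_finset_inf, Finset.inf_set_eq_iInter]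
    exact Set.mem_iInter₂.2 fun k _ => by rw [← hzv k, pt_comp]; exact hN₂ k
  · rintro ⟨q, hq, hqv⟩
    obtain ⟨q₁, hq₁, rfl⟩ := exists_GP_at π vb q hqv
    have hmem : q₁ ≫ pullback.fst f g ∈ hS.toFinset := by
      rw [hS.mem_toFinset]
      show (q₁ ≫ pullback.fst f g) ≫ f = yb
      rw [Category.assoc, pullback.condition, ← Category.assoc, show q₁ ≫ pullback.snd f g = vb from hq₁, hvb]
    let k₀ : κ := ⟨_, hmem⟩
    have hq₀ : q₁ = z k₀ := pullback.hom_ext (hzx k₀).symm (hq₁.trans (hzv k₀).symm)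
    have hk₀ : pt q₁ ∈ U k₀.1 := by rw [hq₀]; exact (hz k₀).2.1
    have honly : ∀ k, pt q₁ ∈ U k.1 → k = k₀ := fun k hk => Subtype.ext (by
      have := (hz k).2.2 q₁ (show q₁ ≫ π = z k ≫ π by rw [hzv k]; exact hq₁) hk
      rw [← hzx k, ← this])
    rcases hq with h | ⟨a, b, hab, ha, hb⟩
    · exact h k₀ hk₀
    · exact hab ((honly a ha).trans (honly b hb).symm)
  rintro _ ⟨v, ⟨hvN, hv⟩, rfl⟩
  obtain ⟨_, _, _, v₁, rfl⟩ := exists_geomPt' v
  have hpb := IsPullback.of_hasPullback f g
  have hA : (GP _ π v₁).Finite := Set.Finite.of_injOn (f := fun z => z ≫ pullback.fst f g)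
    (by rw [← GPIn_top π]; exact fun q hq => ((bijOn_GPIn hpb ⊤ v₁).mapsTo hq).1)
    (by rw [← GPIn_top π]; exact (bijOn_GPIn hpb ⊤ v₁).injOn)
    (finite_GP f (v₁ ≫ g) (hfin _))
  have hint : MoreMor.fibreIntegral f w (g (pt v₁)) = ∑ q ∈ hA.toFinset, w (pullback.fst f g (pt q)) := by
    rw [← pt_comp, fibreIntegral_eq_finsum f (v₁ ≫ g) (hfin _), ← GPIn_top f, ← finsum_GPIn_bc
      hpb ⊤ v₁ w, ← finsum_mem_eq_finite_toFinset_sum _ hA]
    exact finsum_mem_congr (GPIn_top π v₁) fun _ _ => rfl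
  let B : κ → Finset _ := fun k => hA.toFinset.filter fun q => pt q ∈ U k.1
  have hgood : ∀ q ∈ hA.toFinset, pt q ∉ bad := fun q hq hqb =>
    hv ⟨pt q, hqb, by rw [← pt_comp, show q ≫ π = v₁ from hA.mem_toFinset.1 hq]⟩
  have hB : ∀ k, ∑ q ∈ B k, w (pullback.fst f g (pt q)) = w (pt k.1) := fun k => by
    obtain ⟨hf', hs⟩ := hN₂' k v₁ ((Finset.inf_le (Finset.mem_univ k) : _ ≤ N₂ k) hvN)
    rw [← pt_comp (z k), hzx k] at hs
    rw [← hs, finsum_mem_eq_finite_toFinset_sum _ hf']
    refine Finset.sum_congr ?_ fun _ _ => rfl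
    ext q
    simp [B, GPIn, π]
  have hdisj : ((Finset.univ : Finset κ) : Set κ).PairwiseDisjoint B := fun k _ k' _ hne =>
    Finset.disjoint_left.2 fun q hq hq' => by
      simp only [B, Finset.mem_filter] at hq hq'
      exact hgood q hq.1 (Or.inr ⟨k, k', hne, hq.2, hq'.2⟩)
  have hcover : (Finset.univ : Finset κ).biUnion B = hA.toFinset := by
    refine Finset.Subset.antisymm (Finset.biUnion_subset.2 fun k _ => Finset.filter_subset _ _) fun q hq => ?_
    by_contra hne
    refine hgood q hq (Or.inl fun k hk => hne ?_)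
    exact Finset.mem_biUnion.2 ⟨k, Finset.mem_univ _, Finset.mem_filter.2 ⟨hq, hk⟩⟩
  rw [hint, ← hcover, Finset.sum_biUnion hdisj, Finset.sum_congr rfl fun k _ => hB k,
    fibreIntegral_eq_finsum f yb (hfin _), finsum_mem_eq_finite_toFinset_sum _ hS]
  exact Finset.sum_coe_sort hS.toFinset fun i => w (pt i)

theorem isLocallyConstructible_integral_level [LocallyQuasiFinite f] [LocallyOfFinitePresentation f]
    [QuasiCompact f] [QuasiSeparated f] (hw : MoreMor.IsWeighting f w) (n : ℤ) :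
    Topology.IsLocallyConstructible {y : Y | MoreMor.fibreIntegral f w y = n} := by
  refine isLocallyConstructible_iff_ind_and_pro.2 ⟨?_, isProConstructible_iff_compl.2 ?_⟩ <;>
    refine isIndConstructible_of_forall_subset fun x hx => ?_ <;>
    obtain ⟨F, hF, hxF, hFw⟩ := exists_indConstructible_integral hw x
  · exact ⟨F, hF, hxF, fun y hy => (hFw y hy).trans hx⟩
  · exact ⟨F, hF, hxF, fun y hy h => hx ((hFw y hy).symm.trans h)⟩

end Groth.Agent.FlatMorWeight
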