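import Groth.Agent.FlatMorWeight.Positive
import Groth.Agent.FlatMorWeight.FiniteImageAffine
import Mathlib.AlgebraicGeometry.Morphisms.QuasiFinite
import Mathlib.AlgebraicGeometry.IdealSheaf.Subscheme

/-! The locus of maximal fibre integral of a quasi-finite morphism of affine schemes is affine: the
tuples of geometric points of a fibre taken with multiplicity at most their weight form a closed
subset of the fibre power, finite and surjective over that locus. -/

universe u

set_option autoImplicit false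
set_option backward.isDefEq.respectTransparency false

namespace Groth.Agent.FlatMorWeight

open AlgebraicGeometry CategoryTheory CategoryTheory.Limits TopologicalSpace

theorem exists_tuples {X Y : Scheme.{u}} (f : X ⟶ Y) [IsAffine X] [IsAffine Y] [LocallyOfFiniteType f] :
    ∀ n : ℕ, ∃ (P : Scheme.{u}) (q : P ⟶ Y) (pr : Fin n → (P ⟶ X)), IsAffine P ∧ LocallyOfFiniteType q ∧
      (∀ i, pr i ≫ f = q) ∧
      (∀ (T : Scheme.{u}) (t : T ⟶ Y) (a : Fin n → (T ⟶ X)), (∀ i, a i ≫ f = t) →
        ∃ l : T ⟶ P, l ≫ q = t ∧ ∀ i, l ≫ pr i = a i) ∧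
      ∀ O : Y.Opens, IsFinite (f ∣_ O) → IsFinite (q ∣_ O)
  | 0 => ⟨Y, 𝟙 Y, fun i => i.elim0, inferInstance, inferInstance, fun i => i.elim0,
      fun T t a _ => ⟨t, Category.comp_id t, fun i => i.elim0⟩, fun O _ => inferInstance⟩
  | n + 1 => by
    obtain ⟨P, q, pr, hP, hlft, hq, hlift, hfin⟩ := exists_tuples f n
    refine ⟨pullback q f, pullback.fst q f ≫ q, Fin.snoc (fun i => pullback.fst q f ≫ pr i) (pullback.snd q f),
      inferInstance, inferInstance, fun i => ?_, fun T t a ha => ?_, fun O hO => ?_⟩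
    · refine i.lastCases ?_ fun j => ?_
      · rw [Fin.snoc_last, pullback.condition]
      · rw [Fin.snoc_castSucc, Category.assoc, hq]
    · obtain ⟨l, hl, hl'⟩ := hlift T t (fun i => a i.castSucc) fun i => ha _
      refine ⟨pullback.lift l (a (Fin.last n)) (by rw [hl, ha]), ?_, fun i => ?_⟩
      · rw [pullback.lift_fst_assoc, hl]
      · refine i.lastCases ?_ fun j => ?_
        · rw [Fin.snoc_last, pullback.lift_snd]
        · rw [Fin.snoc_castSucc, pullback.lift_fst_assoc, hl']
    · have := hfin O hO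
      have h1 : IsFinite (pullback.fst q f ∣_ q ⁻¹ᵁ O) := by
        have hres : IsPullback ((pullback.fst q f ⁻¹ᵁ q ⁻¹ᵁ O).ι ≫ pullback.snd q f) (pullback.fst q f ∣_ q ⁻¹ᵁ O)
            f ((q ∣_ O) ≫ O.ι) := by
          rw [morphismRestrict_ι]
          exact (isPullback_morphismRestrict (pullback.fst q f) (q ⁻¹ᵁ O)).flip.paste_horiz
            (IsPullback.of_hasPullback q f).flip
        have h2 : IsPullback (IsPullback.lift (isPullback_morphismRestrict f O) (pullback.fst q f ∣_ q ⁻¹ᵁ O ≫ q ∣_ O)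
            ((pullback.fst q f ⁻¹ᵁ q ⁻¹ᵁ O).ι ≫ pullback.snd q f) (by rw [Category.assoc, ← hres.w]))
            (pullback.fst q f ∣_ q ⁻¹ᵁ O) (f ∣_ O) (q ∣_ O) :=
          IsPullback.of_right (by rw [IsPullback.lift_snd]; exact hres)
            (IsPullback.lift_fst _ _ _ _) (isPullback_morphismRestrict f O).flip
        exact MorphismProperty.of_isPullback (P := @IsFinite.{u}) h2 hO
      rw [morphismRestrict_comp]
      exact MorphismProperty.comp_mem (W := @IsFinite.{u}) _ _ h1 this

variable {X Y : Scheme.{u}} (f : X ⟶ Y) (w : X → ℤ)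

open scoped Classical in
/-- Tuples taking some point more often than its weight. -/
def TupleBad {P : Scheme.{u}} {n : ℕ} (pr : Fin n → (P ⟶ X)) (t : P) : Prop :=
  ∃ i, w (pr i t) < ((Finset.univ.filter fun j =>
    P.fromSpecResidueField t ≫ pr j = P.fromSpecResidueField t ≫ pr i).card : ℤ)

theorem rel_iff {P : Scheme.{u}} {Ω : Type u} [Field Ω] (zb : Spec (CommRingCat.of Ω) ⟶ P) (a b : P ⟶ X) :
    P.fromSpecResidueField (pt zb) ≫ a = P.fromSpecResidueField (pt zb) ≫ b ↔ zb ≫ a = zb ≫ b := by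
  obtain ⟨φ, hφ⟩ := exists_specMap zb
  conv_rhs => rw [← hφ, Category.assoc, Category.assoc]
  have : Flat (Spec.map φ) := (HasRingHomProperty.Spec_iff (P := @Flat)).2 (by
    let := φ.hom.toAlgebra
    exact RingHom.flat_algebraMap_iff.2 (inferInstanceAs (Module.Flat (P.residueField (pt zb)) Ω)))
  have : Surjective (Spec.map φ) := ⟨fun x => ⟨(⊥ : PrimeSpectrum Ω), Subsingleton.elim (α := PrimeSpectrum (P.residueField (pt zb))) _ _⟩⟩
  have := Flat.epi_of_flat_of_surjective (Spec.map φ)
  exact (cancel_epi (Spec.map φ)).symm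

theorem isOpen_tupleBad [LocallyQuasiFinite f] [LocallyOfFiniteType f] (hw : MoreMor.IsWeighting f w)
    (hpos : ∀ x, 0 < w x) {P : Scheme.{u}} (q : P ⟶ Y) {n : ℕ} (pr : Fin n → (P ⟶ X))
    (hq : ∀ i, pr i ≫ f = q) : IsOpen {t : P | TupleBad w pr t} := by
  classical
  rw [isOpen_iff_forall_mem_open]
  intro t ht
  obtain ⟨i, hi⟩ := ht
  obtain ⟨Ω, _, _, zb, rfl⟩ := exists_geomPt' t
  let qb := zb ≫ pr i
  obtain ⟨V, g, vb, U, hg, hvb, hP⟩ := exists_piece f qb
  obtain ⟨z, hz, hzx, hzv⟩ := isSingle_of_isPiece hP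
  obtain ⟨N, hN, hN'⟩ := single_sum_eventually hw g U hz
  let S := Finset.univ.filter fun j =>
    P.fromSpecResidueField (pt zb) ≫ pr j = P.fromSpecResidueField (pt zb) ≫ pr i
  let π : Fin n → (pullback q g ⟶ pullback f g) := fun j =>
    pullback.map q g f g (pr j) (𝟙 V) (𝟙 Y) (by rw [Category.comp_id, hq]) (by rw [Category.comp_id, Category.id_comp])
  have hπ₁ : ∀ j, π j ≫ pullback.fst f g = pullback.fst q g ≫ pr j := fun j => pullback.lift_fst _ _ _
  have hπ₂ : ∀ j, π j ≫ pullback.snd f g = pullback.snd q g := fun j =>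
    (pullback.lift_snd _ _ _).trans (Category.comp_id _)
  let O : (pullback q g).Opens := pullback.snd q g ⁻¹ᵁ N ⊓ S.inf fun j => π j ⁻¹ᵁ U
  refine ⟨pullback.fst q g '' O, ?_, (pullback.fst q g).isOpenMap _ O.2, ?_⟩
  · rintro _ ⟨p, hp, rfl⟩
    obtain ⟨Ω', _, _, pb, rfl⟩ := exists_geomPt' p
    have hpU : ∀ j ∈ S, π j (pt pb) ∈ U := fun j hj => (Finset.inf_le (f := fun j => π j ⁻¹ᵁ U) hj : S.inf (fun j => π j ⁻¹ᵁ U) ≤ π j ⁻¹ᵁ U) hp.2
    let v₁ := pb ≫ pullback.snd q g
    have hv₁ : pt v₁ ∈ N := hp.1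
    obtain ⟨hfin, hsum⟩ := hN' v₁ hv₁
    let r : Fin n → (Spec (CommRingCat.of Ω') ⟶ pullback f g) := fun j => pb ≫ π j
    have hr : ∀ j ∈ S, r j ∈ hfin.toFinset := fun j hj => by
      rw [Set.Finite.mem_toFinset]
      exact ⟨show (pb ≫ π j) ≫ _ = _ by rw [Category.assoc, hπ₂], hpU j hj⟩
    let zb' := pb ≫ pullback.fst q g
    have hrx : ∀ j, r j ≫ pullback.fst f g = zb' ≫ pr j := fun j => by
      show (pb ≫ π j) ≫ _ = _
      rw [Category.assoc, hπ₁, Category.assoc]
    show TupleBad w pr (pt zb')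
    by_contra hgood
    have hbound : ∀ ρ ∈ hfin.toFinset, ((S.filter fun j => r j = ρ).card : ℤ) ≤ w (pullback.fst f g (pt ρ)) := by
      intro ρ _
      rcases (S.filter fun j => r j = ρ).eq_empty_or_nonempty with h | ⟨j₀, hj₀⟩
      · rw [h, Finset.card_empty]; exact (hpos _).le
      obtain ⟨-, rfl⟩ := Finset.mem_filter.1 hj₀
      have h1 := not_lt.1 (fun h => hgood ⟨j₀, h⟩)
      rw [← pt_comp, hrx, pt_comp]
      refine le_trans ?_ h1
      refine Nat.cast_le.2 (Finset.card_le_card fun j hj => ?_)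
      refine Finset.mem_filter.2 ⟨Finset.mem_univ _, (rel_iff zb' _ _).2 ?_⟩
      rw [← hrx, ← hrx, (Finset.mem_filter.1 hj).2]
    have : (S.card : ℤ) ≤ w (pullback.fst f g (pt z)) := by
      rw [← hsum, finsum_mem_eq_finite_toFinset_sum _ hfin, Finset.card_eq_sum_card_fiberwise hr, Nat.cast_sum]
      exact Finset.sum_le_sum hbound
    rw [← pt_comp, hzx] at this
    exact absurd this (not_le.2 hi)
  · have e : zb ≫ q = vb ≫ g := by rw [hvb, ← hq i, ← Category.assoc]
    refine ⟨pt (pullback.lift zb vb e), ⟨?_, ?_⟩, by rw [← pt_comp, pullback.lift_fst]⟩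
    · show pullback.snd q g (pt _) ∈ N
      rw [← pt_comp, pullback.lift_snd, ← hzv, pt_comp]
      exact hN
    · rw [Opens.coe_finset_inf, Finset.inf_set_eq_iInter]
      refine Set.mem_iInter₂.2 fun j hj => ?_
      show π j (pt _) ∈ U
      rw [← pt_comp, show pullback.lift zb vb e ≫ π j = z from pullback.hom_ext ?_ ?_]
      · exact hz.2.1
      · rw [Category.assoc, hπ₁, pullback.lift_fst_assoc, hzx]
        exact (rel_iff zb _ _).1 (Finset.mem_filter.1 hj).2
      · rw [Category.assoc, hπ₂, pullback.lift_snd, hzv]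

/-- The locus where the fibre integral attains its maximum is an affine open. -/
theorem isAffineOpen_max [IsAffine X] [IsAffine Y] [LocallyQuasiFinite f] [LocallyOfFiniteType f]
    (hw : MoreMor.IsWeighting f w) (hpos : ∀ x, 0 < w x) (d : ℕ)
    (hmax : ∀ y : Y, MoreMor.fibreIntegral f w y ≤ d) :
    ∃ hYd : IsOpen {y : Y | MoreMor.fibreIntegral f w y = d},
      IsAffineOpen (⟨{y : Y | MoreMor.fibreIntegral f w y = d}, hYd⟩ : Y.Opens) := by
  classical
  have : QuasiCompact f := inferInstance
  have hfib : ∀ y : Y, (f ⁻¹' {y}).Finite := fun y => Scheme.Hom.finite_preimage_singleton f y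
  obtain ⟨hYd, hfinite⟩ := finite_over_max hfib hw hpos (d : ℤ) hmax
  refine ⟨hYd, ?_⟩
  obtain ⟨P, q, pr, _, _, hq, hlift, hfin⟩ := exists_tuples f d
  let C : Closeds P := ⟨{t | TupleBad w pr t}ᶜ, (isOpen_tupleBad f w hw hpos q pr hq).isClosed_compl⟩
  let ι := (Scheme.IdealSheafData.vanishingIdeal C).subschemeι
  have hιr : Set.range ι = (C : Set P) := by
    rw [Scheme.IdealSheafData.range_subschemeι, Scheme.IdealSheafData.coe_support_vanishingIdeal]
  have : IsAffine (Scheme.IdealSheafData.vanishingIdeal C).subscheme := isAffine_of_isAffineHom ι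
  have hrange : Set.range (ι ≫ q) = {y : Y | MoreMor.fibreIntegral f w y = d} := by
    ext y
    constructor
    · rintro ⟨s, rfl⟩
      have hgood : ¬ TupleBad w pr (ι s) := hιr.subset ⟨s, rfl⟩
      rw [Scheme.Hom.comp_apply]
      generalize ι s = t at hgood
      obtain ⟨Ω, _, _, zb, rfl⟩ := exists_geomPt' t
      refine le_antisymm (hmax _) ?_
      rw [← pt_comp, fibreIntegral_eq_finsum f (zb ≫ q) (hfib _), finsum_mem_eq_finite_toFinset_sum _
        (finite_GP f (zb ≫ q) (hfib _))]
      have hmem : ∀ j ∈ (Finset.univ : Finset (Fin d)), zb ≫ pr j ∈ (finite_GP f (zb ≫ q) (hfib _)).toFinset :=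
        fun j _ => by
          rw [Set.Finite.mem_toFinset]
          show (zb ≫ pr j) ≫ f = _
          rw [Category.assoc, hq]
      calc (d : ℤ) = ((Finset.univ : Finset (Fin d)).card : ℤ) := by simp
        _ ≤ _ := by
          rw [Finset.card_eq_sum_card_fiberwise hmem, Nat.cast_sum]
          refine Finset.sum_le_sum fun ρ _ => ?_
          rcases (Finset.univ.filter fun j => zb ≫ pr j = ρ).eq_empty_or_nonempty with h | ⟨j₀, hj₀⟩
          · rw [h, Finset.card_empty]; exact (hpos _).le
          obtain ⟨-, rfl⟩ := Finset.mem_filter.1 hj₀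
          rw [pt_comp]
          refine le_trans (le_of_eq ?_) (not_lt.1 fun h => hgood ⟨j₀, h⟩)
          refine congrArg _ (congrArg Finset.card (Finset.filter_congr fun j _ => (rel_iff zb _ _).symm))
    · intro hy
      obtain ⟨Ω, _, _, yb, rfl⟩ := exists_geomPt' y
      have hGP := finite_GP f yb (hfib _)
      let F := hGP.toFinset
      have hsum : ∑ z ∈ F, w (pt z) = d := by
        rw [← finsum_mem_eq_finite_toFinset_sum _ hGP, ← fibreIntegral_eq_finsum f yb (hfib _)]
        exact hy
      let σ := (k : F) × Fin (w (pt k.1)).toNat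
      have hcard : Fintype.card σ = d := by
        rw [Fintype.card_sigma]
        simp only [Fintype.card_fin]
        rw [Finset.sum_coe_sort F fun z => (w (pt z)).toNat]
        apply Int.ofNat_inj.1
        rw [Nat.cast_sum, ← hsum]
        exact Finset.sum_congr rfl fun z _ => Int.toNat_of_nonneg (hpos _).le
      let e : σ ≃ Fin d := Fintype.equivFinOfCardEq hcard
      obtain ⟨l, hl, hla⟩ := hlift _ yb (fun j => (e.symm j).1.1) fun j => (Set.Finite.mem_toFinset hGP).1 (e.symm j).1.2
      have hgood : ¬ TupleBad w pr (pt l) := by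
        rintro ⟨i, hi⟩
        rw [← pt_comp, hla] at hi
        refine hi.not_ge (le_of_eq ?_)
        rw [Finset.filter_congr (fun j _ => (rel_iff l (pr j) (pr i)).trans (by rw [hla, hla])),
          show (Finset.univ.filter fun j => (e.symm j).1.1 = (e.symm i).1.1) =
            (Finset.univ.filter fun s : σ => s.1 = (e.symm i).1).map e.toEmbedding from by
              ext j; simp only [Finset.mem_map_equiv, Finset.mem_filter, Finset.mem_univ, true_and, Subtype.ext_iff],
          Finset.card_map, show (Finset.univ.filter fun s : σ => s.1 = (e.symm i).1) =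
            (Finset.univ : Finset (Fin (w (pt (e.symm i).1.1)).toNat)).map
              (Function.Embedding.sigmaMk (β := fun k : F => Fin (w (pt k.1)).toNat) (e.symm i).1) from by
              ext ⟨k, m⟩; simp only [Finset.mem_filter, Finset.mem_univ, true_and, Finset.mem_map]
              constructor
              · rintro rfl; exact ⟨m, rfl⟩
              · rintro ⟨m', h⟩; exact (congrArg Sigma.fst h).symm,
          Finset.card_map, Finset.card_univ, Fintype.card_fin, Int.toNat_of_nonneg (hpos _).le]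
      obtain ⟨s, hs⟩ := hιr.superset hgood
      exact ⟨s, by rw [Scheme.Hom.comp_apply, hs, ← pt_comp, hl]⟩
  refine isAffineOpen_of_finite_surjective (ι ≫ q) _ ?_ hrange ?_
  · show IsCompact {y : Y | MoreMor.fibreIntegral f w y = d}
    rw [← hrange]
    exact isCompact_range (ι ≫ q).continuous
  · rw [morphismRestrict_comp]
    exact MorphismProperty.comp_mem (W := @IsFinite.{u}) _ _ inferInstance (hfin _ hfinite)

end Groth.Agent.FlatMorWeight
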