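import Groth.Agent.FlatMorWeight.MaxAffine
import Groth.Agent.FlatMorWeight.Chevalley
import Groth.Agent.FlatMorGeom.AffineStrat

/-! Affine stratification by the values of the fibre integral of a positive weighting. -/

universe u

set_option autoImplicit false
set_option backward.isDefEq.respectTransparency false

namespace Groth.Agent.FlatMorWeight

open AlgebraicGeometry CategoryTheory CategoryTheory.Limits TopologicalSpace

theorem isWeighting_of_isPullback {X Y X' Y' : Scheme.{u}} {f : X ⟶ Y} [LocallyQuasiFinite f]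
    [LocallyOfFiniteType f] {w : X → ℤ} (hw : MoreMor.IsWeighting f w) {h : X' ⟶ X} {f' : X' ⟶ Y'}
    {g : Y' ⟶ Y} (hc : IsPullback h f' f g) : MoreMor.IsWeighting f' (fun x => w (h x)) := by
  intro V v _ U hU
  exact isLocallyConstant_of_isPullback hw ((IsPullback.of_hasPullback f' v).paste_horiz hc) U

theorem fibreIntegral_of_isPullback {X Y X' Y' : Scheme.{u}} {f : X ⟶ Y} [LocallyQuasiFinite f]
    {h : X' ⟶ X} {f' : X' ⟶ Y'} {g : Y' ⟶ Y} (hc : IsPullback h f' f g) (w : X → ℤ)
    (hfib : ∀ y, (f ⁻¹' {y}).Finite) (y' : Y') :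
    MoreMor.fibreIntegral f' (fun x => w (h x)) y' = MoreMor.fibreIntegral f w (g y') :=
  (fibreIntegral_baseChange f f' h g hc w y' (hfib _)).2

theorem isAffineHom_of_affine_source {X Y : Scheme.{u}} (f : X ⟶ Y) [IsAffine X] [Y.IsSeparated] :
    IsAffineHom f := by
  have : IsAffineHom (f ≫ terminal.from Y) := inferInstance
  exact MorphismProperty.of_postcomp (W := @IsAffineHom.{u}) (W' := @IsSeparated.{u}) f (terminal.from Y)
    inferInstance this

theorem fibreIntegral_nonneg {X Y : Scheme.{u}} (f : X ⟶ Y) (w : X → ℤ) (hpos : ∀ x, 0 < w x) (y : Y) :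
    0 ≤ MoreMor.fibreIntegral f w y :=
  finsum_nonneg fun _ => mul_nonneg (hpos _).le (Int.natCast_nonneg _)

/-- The open locus of the maximal value is affine, for an affine source and a separated target. -/
theorem isAffineOpen_max_of_isSeparated {X Y : Scheme.{u}} (f : X ⟶ Y) [IsAffine X] [Y.IsSeparated]
    [LocallyQuasiFinite f] [LocallyOfFiniteType f] [QuasiCompact f] [Surjective f] (w : X → ℤ)
    (hw : MoreMor.IsWeighting f w) (hpos : ∀ x, 0 < w x) (d : ℤ)
    (hmax : ∀ y : Y, MoreMor.fibreIntegral f w y ≤ d) :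
    ∃ hYd : IsOpen {y : Y | MoreMor.fibreIntegral f w y = d},
      IsAffineOpen (⟨{y : Y | MoreMor.fibreIntegral f w y = d}, hYd⟩ : Y.Opens) := by
  have hfib : ∀ y : Y, (f ⁻¹' {y}).Finite := fun y => Scheme.Hom.finite_preimage_singleton f y
  obtain ⟨hYd, hfin⟩ := finite_over_max hfib hw hpos d hmax
  refine ⟨hYd, ?_⟩
  let W : Y.Opens := ⟨_, hYd⟩
  have haff : IsAffineHom W.ι := isAffineHom_of_forall_exists_isAffineOpen _ fun y => by
    obtain ⟨O, hO, hyO, -⟩ := exists_isAffineOpen_mem_and_subset (x := y) (U := (⊤ : Y.Opens)) trivial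
    refine ⟨O, hyO, hO, ?_⟩
    rw [← Scheme.Hom.isAffineOpen_iff_of_isOpenImmersion W.ι, W.ι.image_preimage_eq_opensRange_inf,
      Scheme.Opens.opensRange_ι]
    have : IsAffine O.toScheme := hO
    have : IsAffineHom f := isAffineHom_of_affine_source f
    have : IsAffine (f ⁻¹ᵁ O).toScheme := hO.preimage f
    have hc : IsPullback (f ⁻¹ᵁ O).ι (f ∣_ O) f O.ι := (isPullback_morphismRestrict f O).flip
    have hint := fibreIntegral_of_isPullback hc w hfib
    by_cases hd : 0 ≤ d
    · obtain ⟨n, rfl⟩ := Int.eq_ofNat_of_zero_le hd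
      obtain ⟨hop, ha⟩ := isAffineOpen_max (f ∣_ O) (fun x => w ((f ⁻¹ᵁ O).ι x)) (isWeighting_of_isPullback hw hc)
        (fun x => hpos _) n (fun y => by rw [hint]; exact hmax _)
      have he : W ⊓ O = O.ι ''ᵁ ⟨_, hop⟩ := by
        ext z
        constructor
        · rintro ⟨hzW, hzO⟩
          exact ⟨⟨z, hzO⟩, by show MoreMor.fibreIntegral _ _ _ = _; rw [hint]; exact hzW, rfl⟩
        · rintro ⟨y, hy, rfl⟩
          refine ⟨?_, y.2⟩
          exact (hint y).symm.trans hy
      rw [he]
      exact ha.image_of_isOpenImmersion O.ι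
    · have he : W ⊓ O = ⊥ := bot_unique fun z hz => hd (hz.1 ▸ fibreIntegral_nonneg f w hpos z)
      rw [he]
      exact isAffineOpen_bot Y
  have : IsAffineHom (f ⁻¹ᵁ W).ι := MorphismProperty.of_isPullback (P := @IsAffineHom.{u}) (isPullback_morphismRestrict f W) haff
  have : IsAffine (f ⁻¹ᵁ W).toScheme := isAffine_of_isAffineHom (f ⁻¹ᵁ W).ι
  have := hfin
  have : Surjective (f ∣_ W) := MorphismProperty.of_isPullback (P := @Surjective.{u}) (isPullback_morphismRestrict f W).flip ‹_›
  have : CompactSpace W.toScheme := Function.Surjective.compactSpace (f ∣_ W).continuous (f ∣_ W).surjective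
  have : QuasiSeparatedSpace W.toScheme := QuasiSeparatedSpace.of_isOpenEmbedding W.ι.isOpenEmbedding
  exact isAffine_of_finite_surjective (f ∣_ W)

/-- The stratification by the values of the fibre integral. -/
theorem hasAffineStratification_of_weighting {X Y : Scheme.{u}} (f : X ⟶ Y) [Surjective f]
    [LocallyQuasiFinite f] [LocallyOfFiniteType f] [QuasiCompact f] [IsAffine X] [Y.IsSeparated] [Nonempty Y]
    (w : X → ℤ) (hw : MoreMor.IsWeighting f w) (hpos : ∀ x, 0 < w x) (k : ℕ)
    (hk : (Set.range (MoreMor.fibreIntegral f w)).ncard = k)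
    (hkfin : (Set.range (MoreMor.fibreIntegral f w)).Finite) :
    MoreMor.HasAffineStratification Y (k - 1) := by
  classical
  have hfib : ∀ y : Y, (f ⁻¹' {y}).Finite := fun y => Scheme.Hom.finite_preimage_singleton f y
  let F := MoreMor.fibreIntegral f w
  let R := hkfin.toFinset
  have hcard : R.card = k := by rw [← hk, Set.ncard_eq_toFinset_card _ hkfin]
  obtain ⟨y₀⟩ := ‹Nonempty Y›
  have hk0 : k - 1 + 1 = k := by
    have : 0 < R.card := Finset.card_pos.2 ⟨F y₀, hkfin.mem_toFinset.2 ⟨y₀, rfl⟩⟩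
    omega
  let e : Fin (k - 1 + 1) ≃o R := R.orderIsoOfFin (hcard.trans hk0.symm)
  let s : Y → Fin (k - 1 + 1) := fun y => e.symm ⟨F y, hkfin.mem_toFinset.2 ⟨y, rfl⟩⟩
  have hle : ∀ y i, s y ≤ i ↔ F y ≤ (e i : ℤ) := fun y i =>
    e.symm_apply_le.trans Iff.rfl
  have heq : ∀ y i, s y = i ↔ F y = (e i : ℤ) := fun y i =>
    e.toEquiv.symm_apply_eq.trans Subtype.ext_iff
  have hclosed : ∀ v : ℤ, IsClosed {y : Y | F y ≤ v} := fun v =>
    lowerSemicontinuous_iff_isClosed_preimage.1 (lowerSemicontinuous hfib hw hpos) v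
  refine ⟨s, fun i => ?_, fun i => (?_ : FlatMorGeom.IsAffineStratum _)⟩
  · simp only [hle]; exact hclosed _
  simp only [heq]
  let v : ℤ := e i
  let C : Closeds Y := ⟨_, hclosed v⟩
  let I := Scheme.IdealSheafData.vanishingIdeal C
  let ι := I.subschemeι
  have hι : Set.range ι = (C : Set Y) := by
    rw [Scheme.IdealSheafData.range_subschemeι, Scheme.IdealSheafData.coe_support_vanishingIdeal]
  have hc : IsPullback (pullback.fst f ι) (pullback.snd f ι) f ι := IsPullback.of_hasPullback f ι
  have : IsAffine (pullback f ι) := isAffine_of_isAffineHom (pullback.fst f ι)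
  have : LocallyQuasiFinite (pullback.snd f ι) := MorphismProperty.of_isPullback (P := @LocallyQuasiFinite.{u}) hc ‹_›
  have : I.subscheme.IsSeparated := ⟨by
    rw [← terminal.comp_from ι]; infer_instance⟩
  have hint := fibreIntegral_of_isPullback hc w hfib
  obtain ⟨hop, ha⟩ := isAffineOpen_max_of_isSeparated (pullback.snd f ι) (fun x => w (pullback.fst f ι x))
    (isWeighting_of_isPullback hw hc) (fun x => hpos _) v (fun y => by rw [hint]; exact hι.subset ⟨y, rfl⟩)
  let W : I.subscheme.Opens := ⟨_, hop⟩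
  have : IsAffine W.toScheme := ha
  refine ⟨W.toScheme, W.ι ≫ ι, inferInstance, inferInstance, isAffineHom_of_affine_source _, ?_⟩
  ext y
  constructor
  · rintro ⟨z, rfl⟩
    show F _ = v
    rw [Scheme.Hom.comp_apply, show F (ι (W.ι z)) = _ from (hint _).symm]
    exact z.2
  · intro hy
    obtain ⟨z, rfl⟩ := hι.superset (show y ∈ (C : Set Y) from le_of_eq hy)
    refine ⟨⟨z, ?_⟩, rfl⟩
    show MoreMor.fibreIntegral _ _ z = v
    rw [hint]; exact hy

end Groth.Agent.FlatMorWeight
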