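import Groth.Agent.FlatMorWeight.Piece

/-! Behaviour of finite opens near a fibre. -/

universe u

namespace Groth.Agent.FlatMorWeight

open AlgebraicGeometry CategoryTheory Limits TopologicalSpace

variable {P V : Scheme.{u}} (π : P ⟶ V) {Ω : Type u} [Field Ω]

/-- `U` is finite over `V` and `z` is its only geometric point in its fibre. -/
def IsSingle (U : P.Opens) (z : Spec (CommRingCat.of Ω) ⟶ P) : Prop :=
  IsFinite (U.ι ≫ π) ∧ pt z ∈ U ∧ ∀ z' ∈ GP Ω π (z ≫ π), pt z' ∈ U → z' = z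

theorem isSingle_of_isPiece {X Y : Scheme.{u}} {f : X ⟶ Y} {V : Scheme.{u}} {g : V ⟶ Y}
    {U : (pullback f g).Opens} {xb : Spec (CommRingCat.of Ω) ⟶ X} {vb : Spec (CommRingCat.of Ω) ⟶ V}
    (h : IsPiece f g U xb vb) :
    ∃ z, IsSingle (pullback.snd f g) U z ∧ z ≫ pullback.fst f g = xb ∧ z ≫ pullback.snd f g = vb := by
  obtain ⟨hfin, z, hz, hzU, hzx, huniq⟩ := h
  refine ⟨z, ⟨hfin, hzU, fun z' hz' hU => huniq z' ?_ hU⟩, hzx, hz⟩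
  show z' ≫ _ = vb
  rw [show z' ≫ _ = z ≫ pullback.snd f g from hz']
  exact hz

/-- Finite morphisms: neighbourhood of a fibre contains the preimage of a neighbourhood. -/
theorem exists_nhds_of_fibre_subset (U : P.Opens) [IsFinite (U.ι ≫ π)] (v : V) (O : Set P)
    (hO : IsOpen O) (h : ∀ q ∈ U, π q = v → q ∈ O) :
    ∃ N : V.Opens, v ∈ N ∧ ∀ q ∈ U, π q ∈ N → q ∈ O := by
  let C : Set U.toScheme := (U.ι ⁻¹' O)ᶜ
  have hC : IsClosed C := (hO.preimage U.ι.continuous).isClosed_compl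
  refine ⟨⟨((U.ι ≫ π) '' C)ᶜ, ((U.ι ≫ π).isClosedMap C hC).isOpen_compl⟩, ?_, fun q hq hqN => ?_⟩
  · rintro ⟨q, hq, hqv⟩
    exact hq (h _ q.2 hqv)
  · by_contra hqO
    exact hqN ⟨⟨q, hq⟩, hqO, rfl⟩

theorem mem_of_fibre [IsAlgClosed Ω] [LocallyQuasiFinite π] {U : P.Opens}
    {z : Spec (CommRingCat.of Ω) ⟶ P} (h : IsSingle π U z) {q : P} (hq : q ∈ U) (hqv : π q = π (pt z)) :
    q = pt z := by
  obtain ⟨z', hz', rfl⟩ := exists_GP_at π (z ≫ π) q (by rw [pt_comp]; exact hqv)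
  rw [h.2.2 z' hz' hq]

theorem IsSingle.exists_nhds [IsAlgClosed Ω] [LocallyQuasiFinite π] {U : P.Opens}
    {z : Spec (CommRingCat.of Ω) ⟶ P} (h : IsSingle π U z) (O : Set P) (hO : IsOpen O) (hz : pt z ∈ O) :
    ∃ N : V.Opens, π (pt z) ∈ N ∧ ∀ q ∈ U, π q ∈ N → q ∈ O := by
  haveI := h.1
  exact exists_nhds_of_fibre_subset π U _ O hO fun q hq hqv => by rw [mem_of_fibre π h hq hqv]; exact hz

/-- A finite open inside a separated open is closed there. -/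
theorem isOpen_diff (U O : P.Opens) [IsFinite (U.ι ≫ π)] [IsSeparated (O.ι ≫ π)] (N : V.Opens)
    (h : ∀ q ∈ U, π q ∈ N → q ∈ O) : IsOpen (((O ⊓ π ⁻¹ᵁ N : P.Opens) : Set P) \ (U : Set P)) := by
  let A : U.toScheme.Opens := (U.ι ≫ π) ⁻¹ᵁ N
  have hA : Set.range (A.ι ≫ U.ι) ⊆ Set.range O.ι := by
    rintro _ ⟨q, rfl⟩
    rw [Scheme.Opens.range_ι]
    exact h _ (A.ι q).2 q.2
  let j₀ := IsOpenImmersion.lift O.ι (A.ι ≫ U.ι) hA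
  let R : O.toScheme.Opens := (O.ι ≫ π) ⁻¹ᵁ N
  have hR : Set.range j₀ ⊆ Set.range R.ι := by
    rintro _ ⟨q, rfl⟩
    rw [Scheme.Opens.range_ι]
    show π (O.ι (j₀ q)) ∈ N
    rw [← Scheme.Hom.comp_apply j₀, IsOpenImmersion.lift_fac]
    exact q.2
  let j := IsOpenImmersion.lift R.ι j₀ hR
  have hj : j ≫ R.ι ≫ O.ι = A.ι ≫ U.ι := by
    rw [IsOpenImmersion.lift_fac_assoc, IsOpenImmersion.lift_fac]
  haveI : IsFinite ((U.ι ≫ π) ∣_ N) :=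
    MorphismProperty.of_isPullback (P := @IsFinite) (isPullback_morphismRestrict (U.ι ≫ π) N).flip ‹_›
  haveI : IsSeparated ((O.ι ≫ π) ∣_ N) := IsZariskiLocalAtTarget.restrict ‹_› N
  haveI : IsFinite (j ≫ ((O.ι ≫ π) ∣_ N)) := by
    have : j ≫ ((O.ι ≫ π) ∣_ N) = (U.ι ≫ π) ∣_ N := by
      rw [← cancel_mono N.ι, Category.assoc, morphismRestrict_ι, morphismRestrict_ι]
      exact (reassoc_of% hj) π
    rw [this]; infer_instance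
  haveI : IsFinite j := IsFinite.of_comp j ((O.ι ≫ π) ∣_ N)
  have hcl : IsOpen (Set.range j)ᶜ := j.isClosedMap.isClosed_range.isOpen_compl
  convert ((R.ι ≫ O.ι).isOpenEmbedding.isOpenMap _ hcl) using 1
  ext q
  constructor
  · rintro ⟨⟨hqO, hqN⟩, hqU⟩
    refine ⟨⟨⟨q, hqO⟩, hqN⟩, ?_, rfl⟩
    rintro ⟨a, ha⟩
    apply hqU
    have : U.ι (A.ι a) = q := by
      rw [← Scheme.Hom.comp_apply, ← hj, Scheme.Hom.comp_apply, ha]; rfl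
    rw [← this]
    exact (A.ι a).2
  · rintro ⟨r, hr, rfl⟩
    refine ⟨⟨(R.ι r).2, r.2⟩, fun hqU => hr ?_⟩
    refine ⟨⟨⟨_, hqU⟩, r.2⟩, ?_⟩
    refine (R.ι ≫ O.ι).isOpenEmbedding.injective ?_
    exact congrArg (fun m : A.toScheme ⟶ P => m ⟨⟨_, hqU⟩, r.2⟩) hj

/-- Near the fibre, single-point pieces are disjoint and contained in `O`. -/
theorem exists_disjoint_nhds [IsAlgClosed Ω] [LocallyQuasiFinite π] (O : P.Opens)
    [IsSeparated (O.ι ≫ π)] {ι : Type*} (s : Finset ι) (U : ι → P.Opens)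
    (z : ι → (Spec (CommRingCat.of Ω) ⟶ P)) (vb : Spec (CommRingCat.of Ω) ⟶ V)
    (hv : ∀ i ∈ s, z i ≫ π = vb) (hs : ∀ i ∈ s, IsSingle π (U i) (z i)) (hO : ∀ i ∈ s, pt (z i) ∈ O)
    (hinj : Set.InjOn z s) :
    ∃ N : V.Opens, pt vb ∈ N ∧ (∀ i ∈ s, ∀ q ∈ U i, π q ∈ N → q ∈ O) ∧
      ∀ i ∈ s, ∀ j ∈ s, i ≠ j → ∀ q ∈ U i, π q ∈ N → q ∉ U j := by
  classical
  have hpt : ∀ i ∈ s, π (pt (z i)) = pt vb := fun i hi => by rw [← pt_comp, hv i hi]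
  have h1 : ∀ i ∈ s, ∃ N : V.Opens, pt vb ∈ N ∧ ∀ q ∈ U i, π q ∈ N → q ∈ O := fun i hi => by
    obtain ⟨N, hN, h⟩ := (hs i hi).exists_nhds π O O.isOpen (hO i hi)
    exact ⟨N, hpt i hi ▸ hN, h⟩
  choose! N₁ hN₁ hN₁' using h1
  let N₀ : V.Opens := s.inf N₁
  have hN₀ : pt vb ∈ N₀ := by
    rw [← SetLike.mem_coe, Opens.coe_finset_inf, Finset.inf_set_eq_iInter]
    exact Set.mem_iInter₂.2 hN₁
  have hle : ∀ i ∈ s, ∀ q ∈ U i, π q ∈ N₀ → q ∈ O := fun i hi q hq hqN =>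
    hN₁' i hi q hq ((Finset.inf_le hi : N₀ ≤ N₁ i) hqN)
  have h2 : ∀ p ∈ (s ×ˢ s).filter (fun p => p.1 ≠ p.2), ∃ N : V.Opens, pt vb ∈ N ∧
      ∀ q ∈ U p.1, π q ∈ N → q ∈ ((O ⊓ π ⁻¹ᵁ N₀ : P.Opens) : Set P) \ (U p.2 : Set P) := by
    rintro ⟨i, j⟩ hp
    rw [Finset.mem_filter, Finset.mem_product] at hp
    obtain ⟨⟨hi, hj⟩, hij⟩ := hp
    haveI := (hs j hj).1
    obtain ⟨N, hN, h⟩ := (hs i hi).exists_nhds π _ (isOpen_diff π (U j) O N₀ (hle j hj))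
      ⟨⟨hO i hi, by show π (pt (z i)) ∈ N₀; rw [hpt i hi]; exact hN₀⟩, fun hmem => hij (hinj hi hj
        ((hs j hj).2.2 _ (show z i ≫ π = z j ≫ π by rw [hv i hi, hv j hj]) hmem))⟩
    exact ⟨N, hpt i hi ▸ hN, h⟩
  choose! N₂ hN₂ hN₂' using h2
  refine ⟨N₀ ⊓ ((s ×ˢ s).filter (fun p => p.1 ≠ p.2)).inf N₂, ⟨hN₀, ?_⟩,
    fun i hi q hq hqN => hle i hi q hq hqN.1, fun i hi j hj hij q hq hqN => ?_⟩
  · rw [Opens.coe_finset_inf, Finset.inf_set_eq_iInter]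
    exact Set.mem_iInter₂.2 hN₂
  · have hp : (i, j) ∈ (s ×ˢ s).filter (fun p => p.1 ≠ p.2) := by simp [hi, hj, hij]
    exact (hN₂' (i, j) hp q hq ((Finset.inf_le hp : _ ≤ N₂ (i, j)) hqN.2)).2

end Groth.Agent.FlatMorWeight
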