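import Groth.Agent.FlatMorWeight.EtaleSplit
import Groth.Agent.FlatMorWeight.GeomPoints

/-! Finite pieces with one geometric point over an étale neighbourhood; weightings on them. -/

universe u

namespace Groth.Agent.FlatMorWeight

open AlgebraicGeometry CategoryTheory Limits TopologicalSpace TensorProduct

variable {X Y : Scheme.{u}} (f : X ⟶ Y) {Ω : Type u} [Field Ω]

/-- `U` is finite over `V` and has a single geometric point over `vb`, lying over `xb`. -/
def IsPiece {V : Scheme.{u}} (g : V ⟶ Y) (U : (pullback f g).Opens)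
    (xb : Spec (CommRingCat.of Ω) ⟶ X) (vb : Spec (CommRingCat.of Ω) ⟶ V) : Prop :=
  IsFinite (U.ι ≫ pullback.snd f g) ∧ ∃ z₀ ∈ GP Ω (pullback.snd f g) vb,
    pt z₀ ∈ U ∧ z₀ ≫ pullback.fst f g = xb ∧ ∀ z ∈ GP Ω (pullback.snd f g) vb, pt z ∈ U → z = z₀

theorem exists_piece [LocallyQuasiFinite f] [LocallyOfFiniteType f]
    (xb : Spec (CommRingCat.of Ω) ⟶ X) :
    ∃ (V : Scheme.{u}) (g : V ⟶ Y) (vb : Spec (CommRingCat.of Ω) ⟶ V) (U : (pullback f g).Opens),
      Etale g ∧ vb ≫ g = xb ≫ f ∧ IsPiece f g U xb vb := by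
  obtain ⟨_, ⟨V₀, hV₀, rfl⟩, hyV, -⟩ :=
    Y.isBasis_affineOpens.exists_subset_of_mem_open (Set.mem_univ (f (pt xb))) isOpen_univ
  obtain ⟨_, ⟨U₀, hU₀, rfl⟩, hxU, hle : U₀ ≤ f ⁻¹ᵁ V₀⟩ :=
    X.isBasis_affineOpens.exists_subset_of_mem_open hyV (f ⁻¹ᵁ V₀).isOpen
  replace hV₀ : IsAffineOpen V₀ := hV₀
  replace hU₀ : IsAffineOpen U₀ := hU₀
  have := LocallyQuasiFinite.quasiFinite_appLE (f := f) hV₀ hU₀ hle
  have := f.finiteType_appLE hV₀ hU₀ hle
  have hrange : Set.range xb ⊆ Set.range hU₀.fromSpec := by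
    rintro _ ⟨q, rfl⟩
    rw [hU₀.range_fromSpec, eq_pt]
    exact hxU
  obtain ⟨χ', hχ'⟩ := Spec.map_surjective (IsOpenImmersion.lift hU₀.fromSpec xb hrange)
  algebraize [(f.appLE V₀ U₀ hle).hom]
  letI : Algebra Γ(Y, V₀) Ω := (χ'.hom.comp (f.appLE V₀ U₀ hle).hom).toAlgebra
  let χ : Γ(X, U₀) →ₐ[Γ(Y, V₀)] Ω := { χ'.hom with commutes' := fun _ => rfl }
  haveI : (RingHom.ker χ).IsPrime := RingHom.ker_isPrime _
  obtain ⟨R', _, _, _, ρ, e, he, hfin, hpt, huniq⟩ := exists_etale_split χ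
  let R := Γ(Y, V₀)
  let S := Γ(X, U₀)
  let L := Localization.Away e
  letI : Algebra R L := ((algebraMap (R' ⊗[R] S) L).comp (algebraMap R (R' ⊗[R] S))).toAlgebra
  let iR : R' →+* L := (algebraMap (R' ⊗[R] S) L).comp
    (Algebra.TensorProduct.includeLeft (R := R) (S := R)).toRingHom
  let iS : S →+* L := (algebraMap (R' ⊗[R] S) L).comp
    (Algebra.TensorProduct.includeRight (R := R) (A := R')).toRingHom
  have hiRS : iS.comp (f.appLE V₀ U₀ hle).hom = iR.comp (algebraMap R R') :=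
    RingHom.ext fun r => congrArg (algebraMap (R' ⊗[R] S) L)
      ((AlgHom.commutes Algebra.TensorProduct.includeRight r).trans
        (AlgHom.commutes Algebra.TensorProduct.includeLeft r).symm)
  let φR : R ⟶ CommRingCat.of R' := CommRingCat.ofHom (algebraMap R R')
  haveI : Etale (Spec.map φR) :=
    HasRingHomProperty.Spec_iff.mpr (RingHom.etale_algebraMap.mpr ‹Algebra.Etale R R'›)
  let g : Spec (CommRingCat.of R') ⟶ Y := Spec.map φR ≫ hV₀.fromSpec
  haveI : Etale g := inferInstance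
  let e₁ : Spec (CommRingCat.of (R' ⊗[R] S)) ≅
      pullback (Spec.map (f.appLE V₀ U₀ hle)) (Spec.map φR) :=
    (pullbackSpecIso _ _ _).symm ≪≫ pullbackSymmetry _ _
  haveI := hU₀.isOpenImmersion_fromSpec
  haveI := hV₀.isOpenImmersion_fromSpec
  let pm := pullback.map (Spec.map (f.appLE V₀ U₀ hle)) (Spec.map φR) f g hU₀.fromSpec (𝟙 _)
    hV₀.fromSpec (IsAffineOpen.SpecMap_appLE_fromSpec f hV₀ hU₀ hle) (by simp [g])
  let ι : Spec (CommRingCat.of L) ⟶ pullback f g :=
    Spec.map (CommRingCat.ofHom (algebraMap (R' ⊗[R] S) L)) ≫ e₁.hom ≫ pm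
  haveI : IsOpenImmersion ι := by
    haveI : IsOpenImmersion (Spec.map (CommRingCat.ofHom (algebraMap (R' ⊗[R] S) L))) :=
      IsOpenImmersion.of_isLocalization e
    infer_instance
  have hιfst : ι ≫ pullback.fst f g = Spec.map (CommRingCat.ofHom iS) ≫ hU₀.fromSpec := by
    have : e₁.hom ≫ pullback.fst _ _ =
        Spec.map (CommRingCat.ofHom (Algebra.TensorProduct.includeRight (R := R) (A := R')).toRingHom) := by
      simp only [e₁, Iso.trans_hom, Iso.symm_hom, Category.assoc]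
      erw [pullbackSymmetry_hom_comp_fst]
      exact pullbackSpecIso_inv_snd ..
    simp only [ι, pm, Category.assoc, pullback.lift_fst]
    rw [reassoc_of% this, ← Spec.map_comp_assoc]
    rfl
  have hιsnd : ι ≫ pullback.snd f g = Spec.map (CommRingCat.ofHom iR) := by
    have : e₁.hom ≫ pullback.snd _ _ =
        Spec.map (CommRingCat.ofHom (Algebra.TensorProduct.includeLeft (R := R) (S := R) (A := R') (B := S)).toRingHom) := by
      simp only [e₁, Iso.trans_hom, Iso.symm_hom, Category.assoc]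
      erw [pullbackSymmetry_hom_comp_snd]
      exact pullbackSpecIso_inv_fst ..
    simp only [ι, pm, Category.assoc, pullback.lift_snd, Category.comp_id]
    rw [this, ← Spec.map_comp]
    rfl
  let φ₀ : R' ⊗[R] S →ₐ[R] Ω := Algebra.TensorProduct.lift ρ χ fun _ _ => .all _ _
  let φL : L →+* Ω := IsLocalization.Away.lift (g := φ₀.toRingHom) e (isUnit_iff_ne_zero.2 hpt)
  have hφL : φL.comp (algebraMap (R' ⊗[R] S) L) = φ₀.toRingHom :=
    IsLocalization.Away.lift_comp (g := φ₀.toRingHom) e _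
  have hφLR : φL.comp iR = ρ.toRingHom := RingHom.ext fun r => by
    refine (RingHom.congr_fun hφL _).trans ?_
    simp [φ₀]
  have hφLS : φL.comp iS = χ'.hom := RingHom.ext fun s => by
    refine (RingHom.congr_fun hφL _).trans ?_
    simp [φ₀]
    rfl
  refine ⟨Spec (CommRingCat.of R'), g, Spec.map (CommRingCat.ofHom ρ.toRingHom), ι.opensRange,
    inferInstance, ?_, ?_, Spec.map (CommRingCat.ofHom φL) ≫ ι, ?_, ?_, ?_, ?_⟩
  · simp only [g, ← Spec.map_comp_assoc]
    have : φR ≫ CommRingCat.ofHom ρ.toRingHom = f.appLE V₀ U₀ hle ≫ χ' :=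
      CommRingCat.hom_ext ρ.comp_algebraMap
    rw [this, Spec.map_comp_assoc, IsAffineOpen.SpecMap_appLE_fromSpec, hχ',
      IsOpenImmersion.lift_fac_assoc]
    exact hU₀
  · rw [show ι.opensRange.ι = (Scheme.Hom.isoOpensRange ι).inv ≫ ι by
      rw [Iso.eq_inv_comp, Scheme.Hom.isoOpensRange_hom_ι], Category.assoc, hιsnd]
    suffices IsFinite (Spec.map (CommRingCat.ofHom iR)) from inferInstance
    rw [IsFinite.SpecMap_iff]
    have : iR = algebraMap R' L := RingHom.ext fun r => by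
      rw [IsScalarTower.algebraMap_apply R' (R' ⊗[R] S) L]; rfl
    rw [CommRingCat.hom_ofHom, this]
    exact RingHom.finite_algebraMap.mpr hfin
  · show (_ ≫ ι) ≫ pullback.snd f g = _
    rw [Category.assoc, hιsnd, ← Spec.map_comp, ← CommRingCat.ofHom_comp, hφLR]
  · exact ⟨_, rfl⟩
  · rw [Category.assoc, hιfst, ← Spec.map_comp_assoc, ← CommRingCat.ofHom_comp, hφLS,
      CommRingCat.ofHom_hom, hχ', IsOpenImmersion.lift_fac]
  · intro z hz hzU
    have hr : Set.range z ⊆ Set.range ι := by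
      rintro _ ⟨q, rfl⟩
      rw [eq_pt]; exact hzU
    obtain ⟨ψ, hψ⟩ := Spec.map_surjective (IsOpenImmersion.lift ι z hr)
    have hzι : Spec.map ψ ≫ ι = z := by rw [hψ, IsOpenImmersion.lift_fac]
    have hψR : ψ.hom.comp iR = ρ.toRingHom := by
      have h1 : Spec.map (CommRingCat.ofHom (ψ.hom.comp iR)) = Spec.map (CommRingCat.ofHom ρ.toRingHom) := by
        rw [CommRingCat.ofHom_comp, CommRingCat.ofHom_hom, Spec.map_comp, ← hιsnd, ← Category.assoc, hzι]
        exact hz
      exact congrArg CommRingCat.Hom.hom (Spec.map_injective h1)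
    let φ : R' ⊗[R] S →ₐ[R] Ω :=
      { ψ.hom.comp (algebraMap (R' ⊗[R] S) L) with
        commutes' := fun r => by
          show ψ.hom (algebraMap (R' ⊗[R] S) L (algebraMap R _ r)) = _
          rw [← AlgHom.commutes (Algebra.TensorProduct.includeLeft (R := R) (S := R) (A := R') (B := S)) r]
          exact (RingHom.congr_fun hψR _).trans (ρ.commutes r) }
    have hφl : φ.comp Algebra.TensorProduct.includeLeft = ρ :=
      AlgHom.ext fun r => RingHom.congr_fun hψR r
    have hφr := huniq φ hφl ((IsLocalization.Away.algebraMap_isUnit e).map ψ.hom).ne_zero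
    have hφ : φ = φ₀ := Algebra.TensorProduct.ext' fun r s => by
      show φ _ = φ₀ _
      rw [← mul_one r, ← one_mul s, ← Algebra.TensorProduct.tmul_mul_tmul, map_mul, map_mul]
      refine congrArg₂ (· * ·) ?_ ?_
      · exact (AlgHom.congr_fun hφl r).trans (by simp [φ₀])
      · exact (AlgHom.congr_fun hφr s).trans (by simp [φ₀])
    have : ψ = CommRingCat.ofHom φL := CommRingCat.hom_ext (IsLocalization.ringHom_ext (Submonoid.powers e) (by
      rw [CommRingCat.hom_ofHom, hφL, ← hφ]))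
    rw [← hzι, this]

variable {f}

/-- Pieces pull back along morphisms of neighbourhoods. -/
theorem IsPiece.baseChange {V V' : Scheme.{u}} {g : V ⟶ Y} {U : (pullback f g).Opens}
    {xb : Spec (CommRingCat.of Ω) ⟶ X} {vb : Spec (CommRingCat.of Ω) ⟶ V} (h : IsPiece f g U xb vb)
    (g' : V' ⟶ Y) (c : V' ⟶ V) (hc : c ≫ g = g') (vb' : Spec (CommRingCat.of Ω) ⟶ V')
    (hvb : vb' ≫ c = vb) :
    ∃ m : pullback f g' ⟶ pullback f g, m ≫ pullback.fst f g = pullback.fst f g' ∧
      m ≫ pullback.snd f g = pullback.snd f g' ≫ c ∧ IsPiece f g' (m ⁻¹ᵁ U) xb vb' := by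
  subst hc
  obtain ⟨hfin, z₀, hz₀, hz₀U, hz₀x, huniq⟩ := h
  let m : pullback f (c ≫ g) ⟶ pullback f g :=
    pullback.lift (pullback.fst _ _) (pullback.snd _ _ ≫ c) (by rw [pullback.condition, Category.assoc])
  have hm₁ : m ≫ pullback.fst f g = pullback.fst f (c ≫ g) := pullback.lift_fst _ _ _
  have hm₂ : m ≫ pullback.snd f g = pullback.snd f (c ≫ g) ≫ c := pullback.lift_snd _ _ _
  have hsq : IsPullback m (pullback.snd f (c ≫ g)) (pullback.snd f g) c := by
    refine IsPullback.of_right ?_ hm₂ (IsPullback.of_hasPullback f g)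
    rw [hm₁]
    exact IsPullback.of_hasPullback f (c ≫ g)
  have hres := ((isPullback_morphismRestrict m U).flip).paste_horiz hsq.flip
  have hw : xb ≫ f = vb' ≫ c ≫ g := by
    rw [← hz₀x, Category.assoc, pullback.condition, ← Category.assoc, show z₀ ≫ _ = vb from hz₀,
      reassoc_of% hvb]
  refine ⟨m, hm₁, hm₂, ?_, pullback.lift xb vb' hw, ?_, ?_, ?_, ?_⟩
  · exact MorphismProperty.of_isPullback (P := @IsFinite) hres.flip hfin
  · exact pullback.lift_snd _ _ _
  · show m (pt _) ∈ U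
    rw [← pt_comp]
    have : pullback.lift xb vb' hw ≫ m = z₀ := by
      refine pullback.hom_ext ?_ ?_
      · rw [Category.assoc, hm₁, pullback.lift_fst, hz₀x]
      · rw [Category.assoc, hm₂, pullback.lift_snd_assoc, hvb]; exact hz₀.symm
    rw [this]; exact hz₀U
  · exact pullback.lift_fst _ _ _
  · intro z hz hzU
    refine pullback.hom_ext ?_ (hz.trans (pullback.lift_snd xb vb' hw).symm)
    rw [pullback.lift_fst, ← hz₀x, ← hm₁, ← Category.assoc]
    congr 1
    refine huniq _ ?_ hzU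
    show (z ≫ m) ≫ _ = vb
    rw [Category.assoc, hm₂, ← Category.assoc, show z ≫ _ = vb' from hz, hvb]

variable (f)

/-- Simultaneous pieces for finitely many geometric points over one. -/
theorem exists_pieces [LocallyQuasiFinite f] [LocallyOfFiniteType f]
    {yb : Spec (CommRingCat.of Ω) ⟶ Y} {s : Set (Spec (CommRingCat.of Ω) ⟶ X)} (hs : s.Finite)
    (hsy : ∀ z ∈ s, z ≫ f = yb) :
    ∃ (V : Scheme.{u}) (g : V ⟶ Y) (vb : Spec (CommRingCat.of Ω) ⟶ V)
      (U : (Spec (CommRingCat.of Ω) ⟶ X) → (pullback f g).Opens),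
      Etale g ∧ vb ≫ g = yb ∧ ∀ z ∈ s, IsPiece f g (U z) z vb := by
  induction s, hs using Set.Finite.induction_on with
  | empty => exact ⟨Y, 𝟙 Y, yb, fun _ => ⊥, inferInstance, Category.comp_id _, fun z hz => hz.elim⟩
  | @insert a t _ _ ih =>
    obtain ⟨V₁, g₁, v₁, U₁, hg₁, hv₁, hU₁⟩ := ih fun z hz => hsy z (Set.mem_insert_of_mem _ hz)
    obtain ⟨V₂, g₂, v₂, U₂, hg₂, hv₂, hU₂⟩ := exists_piece f a
    rw [hsy a (Set.mem_insert _ _)] at hv₂
    let g' := pullback.fst g₁ g₂ ≫ g₁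
    let vb := pullback.lift v₁ v₂ (hv₁.trans hv₂.symm)
    haveI := hg₂
    haveI : Etale (pullback.fst g₁ g₂) := inferInstance
    have h2 : pullback.snd g₁ g₂ ≫ g₂ = g' := pullback.condition.symm
    obtain ⟨m₂, -, -, hp₂⟩ := hU₂.baseChange g' (pullback.snd g₁ g₂) h2 vb (pullback.lift_snd _ _ _)
    classical
    refine ⟨_, g', vb, fun z => if z = a then m₂ ⁻¹ᵁ U₂ else
      pullback.lift (pullback.fst f g') (pullback.snd f g' ≫ pullback.fst g₁ g₂)
        (by rw [pullback.condition, Category.assoc]) ⁻¹ᵁ U₁ z, inferInstance, ?_, ?_⟩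
    · rw [← Category.assoc, pullback.lift_fst, hv₁]
    · intro z hz
      dsimp only
      split_ifs with h
      · subst h; exact hp₂
      · obtain ⟨m, hm₁, hm₂, hp⟩ := (hU₁ z (hz.resolve_left h)).baseChange g' (pullback.fst g₁ g₂) rfl
          vb (pullback.lift_fst _ _ _)
        have : pullback.lift (pullback.fst f g') (pullback.snd f g' ≫ pullback.fst g₁ g₂)
            (by rw [pullback.condition, Category.assoc]) = m := by
          refine pullback.hom_ext ?_ ?_
          · rw [pullback.lift_fst, hm₁]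
          · rw [pullback.lift_snd, hm₂]
        rw [this]; exact hp

end Groth.Agent.FlatMorWeight
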