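import Groth.Agent.FlatMorWeight.IntegralLevels
import Groth.Agent.FlatMorWeight.Comp

/-! Covering of the target by finite étale pieces; functions with constructible level sets. -/

universe u

namespace Groth.Agent.FlatMorWeight

open AlgebraicGeometry CategoryTheory Limits TopologicalSpace Groth.Agent.H8ProCons

variable {X Y : Scheme.{u}}

theorem isIndConstructible_iInter {ι : Type*} (s : Finset ι) (E : ι → Set X)
    (h : ∀ i ∈ s, ProCons.IsIndConstructible (E i)) : ProCons.IsIndConstructible (⋂ i ∈ s, E i) := by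
  classical
  induction s using Finset.induction_on with
  | empty => simpa using isIndConstructible_of_isOpen isOpen_univ
  | insert a t _ ih =>
    rw [Finset.set_biInter_insert]
    exact isIndConstructible_inter (h a (Finset.mem_insert_self _ _))
      (ih fun i hi => h i (Finset.mem_insert_of_mem hi))

/-- Sums on a fibre split along pieces. -/
theorem fibreIntegral_eq_sum_pieces (f : X ⟶ Y) [LocallyQuasiFinite f] [QuasiCompact f] (w : X → ℤ)
    {V : Scheme.{u}} (g : V ⟶ Y) {κ : Type u} [Fintype κ] (U : κ → (pullback f g).Opens)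
    {Ω : Type u} [Field Ω] [IsAlgClosed Ω] (v₁ : Spec (CommRingCat.of Ω) ⟶ V)
    (h1 : ∀ q ∈ GP Ω (pullback.snd f g) v₁, ∃! k, pt q ∈ U k)
    (h2 : ∀ k, (GPIn (pullback.snd f g) (U k) v₁).Subsingleton)
    (c : κ → ℤ) (h3 : ∀ k, ∃ q ∈ GPIn (pullback.snd f g) (U k) v₁, w (pullback.fst f g (pt q)) = c k) :
    MoreMor.fibreIntegral f w (g (pt v₁)) = ∑ k, c k := by
  classical
  choose q hq hqc using h3
  rw [← pt_comp, fibreIntegral_eq_finsum f (v₁ ≫ g) (f.finite_preimage_singleton _), ← GPIn_top f,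
    ← finsum_GPIn_bc (IsPullback.of_hasPullback f g) ⊤ v₁ w, ← finsum_eq_sum_of_fintype c,
    ← finsum_mem_univ (f := c)]
  have hbij : Set.BijOn q Set.univ (GPIn (pullback.snd f g) (pullback.fst f g ⁻¹ᵁ ⊤) v₁) := by
    refine ⟨fun k _ => ⟨(hq k).1, trivial⟩, fun k _ l _ h => ?_, fun z hz => ?_⟩
    · exact (h1 _ (hq k).1).unique (hq k).2 (h ▸ (hq l).2)
    · obtain ⟨k, hk, -⟩ := h1 z hz.1
      exact ⟨k, trivial, h2 k (hq k) ⟨hz.1, hk⟩⟩
  exact (finsum_mem_eq_of_bijOn q hbij fun k _ => (hqc k).symm).symm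

/-- Each point of the target has an affine étale neighbourhood and a constructible neighbourhood
in it over which the fibres split into single-point pieces. -/
theorem exists_pieces_nhd (f : X ⟶ Y) [LocallyQuasiFinite f] [LocallyOfFiniteType f] [QuasiCompact f]
    [QuasiSeparated f] (y : Y) :
    ∃ (V : Scheme.{u}) (g : V ⟶ Y) (_ : Etale g) (_ : IsAffine V) (κ : Type u) (_ : Fintype κ)
      (U : κ → (pullback f g).Opens) (C : Set V), (∀ k, IsFinite ((U k).ι ≫ pullback.snd f g)) ∧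
      ProCons.IsIndConstructible C ∧
      (∀ {Ω : Type u} [Field Ω] [IsAlgClosed Ω] (v₁ : Spec (CommRingCat.of Ω) ⟶ V), pt v₁ ∈ C →
        (∀ q ∈ GP Ω (pullback.snd f g) v₁, ∃! k, pt q ∈ U k) ∧
        ∀ k, (GPIn (pullback.snd f g) (U k) v₁).Subsingleton) ∧
      ∃ (Ω : Type u) (_ : Field Ω) (_ : IsAlgClosed Ω) (vb : Spec (CommRingCat.of Ω) ⟶ V),
        pt vb ∈ C ∧ g (pt vb) = y ∧ ∀ k, (GPIn (pullback.snd f g) (U k) vb).Nonempty := by
  classical
  obtain ⟨Ω, _, _, yb, rfl⟩ := exists_geomPt' y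
  have hS := finite_GP f yb (f.finite_preimage_singleton _)
  obtain ⟨V₀, g₀, vb₀, U₀, hg₀, hvb₀, hU₀⟩ := exists_pieces f hS (yb := yb) fun z hz => hz
  obtain ⟨N, hN, hvN⟩ : ∃ N : V₀.Opens, IsAffineOpen N ∧ pt vb₀ ∈ N := by
    obtain ⟨_, ⟨N, hN, rfl⟩, hvN, -⟩ :=
      V₀.isBasis_affineOpens.exists_subset_of_mem_open (Set.mem_univ (pt vb₀)) isOpen_univ
    exact ⟨N, hN, hvN⟩
  haveI : IsAffine N.toScheme := hN
  haveI := hg₀
  let g : N.toScheme ⟶ Y := N.ι ≫ g₀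
  haveI : Etale g := inferInstanceAs (Etale (N.ι ≫ g₀))
  let vb : Spec (CommRingCat.of Ω) ⟶ N.toScheme := IsOpenImmersion.lift N.ι vb₀ (by
    rintro _ ⟨q, rfl⟩
    rw [Scheme.Opens.range_ι, eq_pt]; exact hvN)
  have hvb : vb ≫ N.ι = vb₀ := IsOpenImmersion.lift_fac _ _ _
  let π := pullback.snd f g
  let κ := {z // z ∈ hS.toFinset}
  let U : κ → (pullback f g).Opens := fun k => bcMap f g₀ N.ι ⁻¹ᵁ U₀ k.1
  have hsingle : ∀ k : κ, ∃ z₁, IsSingle π (U k) z₁ ∧ z₁ ≫ pullback.fst f g = k.1 ∧ z₁ ≫ π = vb := by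
    intro k
    obtain ⟨z₀, hz₀, hz₀x, hz₀v⟩ := isSingle_of_isPiece (hU₀ k.1 (hS.mem_toFinset.1 k.2))
    have hpb := isPullback_bcMap f g₀ N.ι
    refine ⟨hpb.lift z₀ vb (hz₀v.trans hvb.symm), isSingle_bc hpb hz₀ _ (hpb.lift_fst _ _ _), ?_,
      hpb.lift_snd _ _ _⟩
    rw [← bcMap_fst, ← Category.assoc, hpb.lift_fst, hz₀x]
  choose z hz hzx hzv using hsingle
  haveI := fun k => (hz k).1
  have hS' := fun k => isIndConstructible_atMostOne ((U k).ι ≫ π)
  choose S hSc hS'' using hS'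
  let bad : Set ↑(pullback f g) :=
    {q | (∀ k : κ, q ∉ U k) ∨ ∃ k k' : κ, k ≠ k' ∧ q ∈ U k ∧ q ∈ U k'}
  have hbad : ProCons.IsProConstructible bad := by
    refine isProConstructible_iff_compl.2 (isIndConstructible_of_forall_subset fun q hq => ?_)
    simp only [bad, Set.mem_compl_iff, Set.mem_setOf_eq, not_or, not_forall, not_not, not_exists, not_and] at hq
    obtain ⟨⟨k, hk⟩, huniq⟩ := hq
    refine ⟨(U k : Set _) ∩ ⋂ k' ∈ Finset.univ.erase k, (U k' : Set _)ᶜ, ?_,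
      ⟨hk, Set.mem_iInter₂.2 fun k' hk' h => huniq k k' (Finset.ne_of_mem_erase hk').symm hk h⟩, ?_⟩
    · refine isIndConstructible_inter (isIndConstructible_of_isOpen (U k).isOpen)
        (isIndConstructible_iInter _ _ fun k' _ => ?_)
      haveI := quasiCompact_ι π (U k')
      exact isProConstructible_iff_compl.1 (isProConstructible_opens _)
    · rintro p ⟨hp, hp'⟩ (h | ⟨a, b, hab, ha, hb⟩)
      · exact h k hp
      · rw [Set.mem_iInter₂] at hp'
        rcases eq_or_ne a k with rfl | hak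
        · exact hp' b (Finset.mem_erase.2 ⟨hab.symm, Finset.mem_univ _⟩) hb
        · exact hp' a (Finset.mem_erase.2 ⟨hak, Finset.mem_univ _⟩) ha
  refine ⟨N.toScheme, g, inferInstance, inferInstance, κ, inferInstance, U,
    (π '' bad)ᶜ ∩ ⋂ k ∈ (Finset.univ : Finset κ), S k, fun k => (hz k).1,
    isIndConstructible_inter (isProConstructible_iff_compl.1 (isProConstructible_image π hbad))
      (isIndConstructible_iInter _ _ fun k _ => hSc k), fun {Ω'} _ _ v₁ hv => ⟨fun q hq => ?_, fun k => ?_⟩,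
    Ω, inferInstance, inferInstance, vb, ⟨?_, Set.mem_iInter₂.2 fun k _ => ?_⟩, ?_, fun k => ?_⟩
  · have hqb : pt q ∉ bad := fun h => hv.1 ⟨pt q, h, by rw [← pt_comp, show q ≫ π = v₁ from hq]⟩
    simp only [bad, Set.mem_setOf_eq, not_or, not_forall, not_not, not_exists, not_and] at hqb
    obtain ⟨⟨k, hk⟩, huniq⟩ := hqb
    exact ⟨k, hk, fun l hl => of_not_not fun h => huniq l k h hl hk⟩
  · show ({y ∈ GP Ω' π v₁ | pt y ∈ U k}).Subsingleton
    rw [← GP_opens]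
    exact ((hS'' k _).1 (Set.mem_iInter₂.1 hv.2 k (Finset.mem_univ _)) Ω' _ rfl).image _
  · rintro ⟨q, hq, hqv⟩
    obtain ⟨q₁, hq₁, rfl⟩ := exists_GP_at π vb q hqv
    have hmem : q₁ ≫ pullback.fst f g ∈ hS.toFinset := by
      rw [hS.mem_toFinset]
      show (q₁ ≫ pullback.fst f g) ≫ f = yb
      rw [Category.assoc, pullback.condition, ← Category.assoc, show q₁ ≫ pullback.snd f g = vb from hq₁,
        ← Category.assoc, hvb, hvb₀]
    let k₀ : κ := ⟨_, hmem⟩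
    have hq₀ : q₁ = z k₀ := pullback.hom_ext (hzx k₀).symm (hq₁.trans (hzv k₀).symm)
    have hk₀ : pt q₁ ∈ U k₀ := by rw [hq₀]; exact (hz k₀).2.1
    have honly : ∀ k, pt q₁ ∈ U k → k = k₀ := fun k hk => Subtype.ext (by
      have := (hz k).2.2 q₁ (show q₁ ≫ π = z k ≫ π by rw [hzv k]; exact hq₁) hk
      rw [← hzx k, ← this])
    rcases hq with h | ⟨a, b, hab, ha, hb⟩
    · exact h k₀ hk₀
    · exact hab ((honly a ha).trans (honly b hb).symm)
  · refine (hS'' k _).2 fun Ω' _ _ v hv y₁ h₁ y₂ h₂ => (cancel_mono (U k).ι).1 ?_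
    refine subsingleton_GP π (hz k) Ω' v (by rw [hv, ← pt_comp, hzv k]) ⟨?_, ?_⟩ ⟨?_, ?_⟩
    · exact (Category.assoc _ _ _).trans h₁
    · rw [pt_comp]; exact (pt y₁).2
    · exact (Category.assoc _ _ _).trans h₂
    · rw [pt_comp]; exact (pt y₂).2
  · rw [← pt_comp, ← Category.assoc, hvb, hvb₀]
  · exact ⟨z k, hzv k, (hz k).2.1⟩

/-- Fibre integrals of functions with constructible levels have constructible levels. -/
theorem isLocallyConstructible_integral_level' (f : X ⟶ Y) [LocallyQuasiFinite f]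
    [LocallyOfFinitePresentation f] [QuasiCompact f] [QuasiSeparated f] (w : X → ℤ)
    (hw : ∀ n, Topology.IsLocallyConstructible {x | w x = n}) (m : ℤ) :
    Topology.IsLocallyConstructible {y : Y | MoreMor.fibreIntegral f w y = m} := by
  have key : ∀ y : Y, ∃ F : Set Y, ProCons.IsIndConstructible F ∧ y ∈ F ∧
      ∀ y' ∈ F, MoreMor.fibreIntegral f w y' = MoreMor.fibreIntegral f w y := by
    intro y
    obtain ⟨V, g, _, _, κ, _, U, C, hfin, hC, hC', Ω, _, _, vb, hvb, rfl, hne⟩ := exists_pieces_nhd f y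
    choose q hq using hne
    let c : κ → ℤ := fun k => w (pullback.fst f g (pt (q k)))
    let G : Set V := C ∩ ⋂ k ∈ (Finset.univ : Finset κ), pullback.snd f g ''
      ((U k : Set _) ∩ pullback.fst f g ⁻¹' {x | w x = c k})
    have hG : ProCons.IsIndConstructible G := isIndConstructible_inter hC
      (isIndConstructible_iInter _ _ fun k _ => isIndConstructible_image _ (isIndConstructible_inter
        (isIndConstructible_of_isOpen (U k).isOpen)
        (isIndConstructible_preimage _ (isLocallyConstructible_iff_ind_and_pro.1 (hw (c k))).1)))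
    have hval : ∀ v ∈ G, MoreMor.fibreIntegral f w (g v) = ∑ k, c k := by
      intro v hv
      obtain ⟨Ω', _, _, v₁, rfl⟩ := exists_geomPt' v
      obtain ⟨h1, h2⟩ := hC' v₁ hv.1
      refine fibreIntegral_eq_sum_pieces f w g U v₁ h1 h2 c fun k => ?_
      obtain ⟨p, ⟨hpU, hpw⟩, hpv⟩ := Set.mem_iInter₂.1 hv.2 k (Finset.mem_univ _)
      obtain ⟨p₁, hp₁, rfl⟩ := exists_GP_at (pullback.snd f g) v₁ p hpv
      exact ⟨p₁, ⟨hp₁, hpU⟩, hpw⟩
    have hvbG : pt vb ∈ G := ⟨hvb, Set.mem_iInter₂.2 fun k _ =>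
      ⟨pt (q k), ⟨(hq k).2, rfl⟩, by rw [← pt_comp, show q k ≫ pullback.snd f g = vb from (hq k).1]⟩⟩
    refine ⟨g '' G, isIndConstructible_image g hG, ⟨_, hvbG, rfl⟩, ?_⟩
    rintro _ ⟨v, hv, rfl⟩
    rw [hval v hv, hval _ hvbG]
  refine isLocallyConstructible_iff_ind_and_pro.2 ⟨?_, isProConstructible_iff_compl.2 ?_⟩ <;>
    refine isIndConstructible_of_forall_subset fun x hx => ?_ <;>
    obtain ⟨F, hF, hxF, hFw⟩ := key x
  · exact ⟨F, hF, hxF, fun y hy => (hFw y hy).trans hx⟩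
  · exact ⟨F, hF, hxF, fun y hy h => hx ((hFw y hy).symm.trans h)⟩

theorem exists_single_bc' {Ω : Type u} [Field Ω] {P V P' V' : Scheme.{u}} {π : P ⟶ V} {π' : P' ⟶ V'}
    {a : P' ⟶ P} {c : V' ⟶ V} (h : IsPullback a π' π c) {U : P.Opens}
    {z : Spec (CommRingCat.of Ω) ⟶ P} (hz : IsSingle π U z) (v : Spec (CommRingCat.of Ω) ⟶ V')
    (hv : z ≫ π = v ≫ c) : ∃ z', IsSingle π' (a ⁻¹ᵁ U) z' ∧ z' ≫ a = z ∧ z' ≫ π' = v :=
  ⟨h.lift z v hv, isSingle_bc h hz _ (h.lift_fst _ _ _), h.lift_fst _ _ _, h.lift_snd _ _ _⟩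

/-- A criterion for weightings using one étale neighbourhood for each point of the target. -/
theorem isWeighting_of_nhds (f : X ⟶ Y) [LocallyQuasiFinite f] [LocallyOfFiniteType f] (w : X → ℤ)
    (H : ∀ y : Y, ∃ (V : Scheme.{u}) (g : V ⟶ Y) (_ : Etale g) (v : V), g v = y ∧
      ∀ {Ω : Type u} [Field Ω] [IsAlgClosed Ω] (vb : Spec (CommRingCat.of Ω) ⟶ V), pt vb = v →
        ∀ q ∈ GP Ω (pullback.snd f g) vb, ∃ U : (pullback f g).Opens, IsSingle (pullback.snd f g) U q ∧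
          IsLocallyConstant (MoreMor.fibreIntegral (U.ι ≫ pullback.snd f g)
            (fun x => w (pullback.fst f g (U.ι x))))) :
    MoreMor.IsWeighting f w := by
  intro V₀ g₀ _ U₀ hU₀
  refine isLocallyConstant_of_singles (f := f) (w := w) ?_ (IsPullback.of_hasPullback f g₀) U₀
  intro Ω _ _ V g _ U z hz
  haveI := hz.1
  let vb := z ≫ pullback.snd f g
  obtain ⟨V₂, g₂, _, v, hv, hv'⟩ := H (g (pt vb))
  haveI := locallyQuasiFinite_of_etale g₂
  obtain ⟨v₂, hv₂, hv₂v⟩ := exists_GP_at g₂ (vb ≫ g) v (by rw [pt_comp]; exact hv)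
  replace hv₂ : v₂ ≫ g₂ = vb ≫ g := hv₂
  let c₁ : pullback g g₂ ⟶ V := pullback.fst g g₂
  let c₂ : pullback g g₂ ⟶ V₂ := pullback.snd g g₂
  let wb := pullback.lift vb v₂ hv₂.symm
  haveI : Etale c₁ := inferInstanceAs (Etale (pullback.fst g g₂))
  haveI := locallyQuasiFinite_of_etale c₁
  let G := c₁ ≫ g
  have hG : c₂ ≫ g₂ = G := pullback.condition.symm
  let π := pullback.snd f G
  let m₁ : pullback f G ⟶ pullback f g := bcMap f g c₁
  let m₂ : pullback f G ⟶ pullback f g₂ :=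
    pullback.lift (pullback.fst f G) (π ≫ c₂) (by rw [Category.assoc, hG]; exact pullback.condition)
  have hm₂ : IsPullback m₂ π (pullback.snd f g₂) c₂ := by
    refine IsPullback.of_right ?_ (pullback.lift_snd _ _ _) (IsPullback.of_hasPullback f g₂)
    rw [pullback.lift_fst, hG]
    exact IsPullback.of_hasPullback f G
  obtain ⟨z', hz', hz'z, hz'v⟩ := exists_single_bc' (isPullback_bcMap f g c₁) hz wb
    (show z ≫ pullback.snd f g = wb ≫ c₁ from (pullback.lift_fst _ _ _).symm)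
  have hq : z' ≫ m₂ ∈ GP Ω (pullback.snd f g₂) v₂ := by
    show (z' ≫ m₂) ≫ _ = v₂
    rw [Category.assoc, hm₂.w, ← Category.assoc, hz'v, pullback.lift_snd]
  obtain ⟨U₂, hU₂, hlc⟩ := hv' v₂ hv₂v _ hq
  have hz₂ : IsSingle π (m₂ ⁻¹ᵁ U₂) z' := isSingle_bc hm₂ hU₂ z' rfl
  have hzx : pullback.fst f g₂ (pt (z' ≫ m₂)) = pullback.fst f g (pt z) := by
    rw [← hz'z, ← pt_comp, ← pt_comp, Category.assoc, Category.assoc, pullback.lift_fst, bcMap_fst]
  obtain ⟨N₁, hN₁, hN₁'⟩ := hz'.exists_nhds π _ (m₂ ⁻¹ᵁ U₂).isOpen hz₂.2.1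
  obtain ⟨N₂, hN₂, hN₂'⟩ := hz₂.exists_nhds π _ (m₁ ⁻¹ᵁ U).isOpen hz'.2.1
  haveI := hU₂.1
  let F := MoreMor.fibreIntegral (U₂.ι ≫ pullback.snd f g₂) (fun x => w (pullback.fst f g₂ (U₂.ι x)))
  have hF : ∀ {Ω : Type u} [Field Ω] [IsAlgClosed Ω] (v₁ : Spec (CommRingCat.of Ω) ⟶ V₂),
      F (pt v₁) = ∑ᶠ y ∈ GPIn (pullback.snd f g₂) U₂ v₁, w (pullback.fst f g₂ (pt y)) := fun v₁ =>
    (fibreIntegral_opens (pullback.snd f g₂) v₁ U₂ (fun x => w (pullback.fst f g₂ x))).1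
  have hFv : F (pt v₂) = w (pullback.fst f g (pt z)) := by
    rw [hF v₂, show v₂ = (z' ≫ m₂) ≫ pullback.snd f g₂ from hq.symm, GPIn_eq_singleton hU₂,
      finsum_mem_singleton, hzx]
  let N : (pullback g g₂).Opens := N₁ ⊓ N₂ ⊓ c₂ ⁻¹ᵁ ⟨F ⁻¹' {F (pt v₂)}, hlc.isOpen_fiber _⟩
  have hwN : pt wb ∈ N := by
    have e : π (pt z') = pt wb := by rw [← pt_comp, hz'v]
    refine ⟨⟨e ▸ hN₁, e ▸ hN₂⟩, ?_⟩
    show F (c₂ (pt wb)) = F (pt v₂)
    rw [← pt_comp, pullback.lift_snd]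
  refine ⟨⟨c₁ '' N, c₁.isOpenMap _ N.isOpen⟩, ⟨pt wb, hwN, ?_⟩, fun {Ω'} _ _ v₁ h₁ => ?_⟩
  · rw [← pt_comp, pullback.lift_fst, pt_comp]
  obtain ⟨a, ha, hav⟩ := h₁
  obtain ⟨u₁, hu₁, rfl⟩ := exists_GP_at c₁ v₁ a hav
  obtain rfl : u₁ ≫ c₁ = v₁ := hu₁
  refine ⟨(fibreIntegral_opens (pullback.snd f g) (u₁ ≫ c₁) U (fun _ => 0)).2, ?_⟩
  rw [← finsum_GPIn_bc (isPullback_bcMap f g c₁) U u₁ (fun x => w (pullback.fst f g x)), ← hFv,
    ← show F (c₂ (pt u₁)) = F (pt v₂) from ha.2, ← pt_comp, hF,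
    ← finsum_GPIn_bc hm₂ U₂ u₁ (fun x => w (pullback.fst f g₂ x))]
  refine finsum_mem_congr ?_ fun y _ => ?_
  · ext y
    refine ⟨fun hy => ⟨hy.1, hN₁' _ hy.2 ?_⟩, fun hy => ⟨hy.1, hN₂' _ hy.2 ?_⟩⟩
    · rw [← pt_comp, show y ≫ π = u₁ from hy.1]; exact ha.1.1
    · rw [← pt_comp, show y ≫ π = u₁ from hy.1]; exact ha.1.2
  · rw [← Scheme.Hom.comp_apply, ← Scheme.Hom.comp_apply, pullback.lift_fst, bcMap_fst]

end Groth.Agent.FlatMorWeight
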