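import Groth.Agent.FlatMorWeight.UnibranchOpen
import Groth.Agent.FlatUnram.Algebra
import Groth.Agent.FlatLocal.StalkCrit
import Groth.Agent.FlatLocal.Descent
import Groth.Agent.AlgSpLib.FppfSource

/-! Unramified and dominant over a geometrically unibranch point implies étale. -/

universe u

set_option backward.isDefEq.respectTransparency.types false

namespace Groth.Agent.FlatMorWeight

open TensorProduct AlgebraicGeometry CategoryTheory Limits

theorem isReduced_of_etale (A E : Type u) [CommRing A] [IsDomain A] [CommRing E] [Algebra A E]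
    [Algebra.Etale A E] : IsReduced E := by
  let K := FractionRing A
  have hinj : Function.Injective (Algebra.TensorProduct.includeLeft : E →ₐ[E] E ⊗[A] K) :=
    Algebra.TensorProduct.includeLeft_injective (R := A) (S := E) (A := E) (IsFractionRing.injective A K)
  have : IsReduced (K ⊗[A] E) := Algebra.FormallyUnramified.isReduced_of_field K _
  let c : (K ⊗[A] E) ≃+* E ⊗[A] K := (Algebra.TensorProduct.comm A K E).toRingEquiv
  have : IsReduced (E ⊗[A] K) := isReduced_of_injective c.symm c.symm.injective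
  exact isReduced_of_injective _ hinj

/-- The ring form: a finite type algebra, unramified at a point over a geometrically unibranch point
of a domain, with a generalisation over the generic point, is étale near the point. -/
theorem exists_etale_away {A L B : Type u} [CommRing A] [IsDomain A] [CommRing L] [IsLocalRing L] [Algebra A L]
    [CommRing B] [Algebra A B] [Algebra.FiniteType A B] (Q : Ideal B) [Q.IsPrime] (p : Ideal A) [p.IsPrime]
    (hp : Q.comap (algebraMap A B) = p) [IsLocalization.AtPrime L p] (hL : CAlg2.IsGeomUnibranch L)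
    [Algebra.IsUnramifiedAt A Q] (P : Ideal B) [P.IsPrime] (hPQ : P ≤ Q)
    (hP : P.comap (algebraMap A B) = ⊥) :
    ∃ g ∉ Q, Algebra.Etale A (Localization.Away g) := by
  obtain ⟨f, hfQ, SP, φ, hφ⟩ := Algebra.IsUnramifiedAt.exists_hasStandardEtaleSurjectionOn (R := A) Q
  let E := SP.Ring
  let ι := algebraMap B (Localization.Away f)
  have hdis : ∀ J : Ideal B, J.IsPrime → f ∉ J → Disjoint (Submonoid.powers f : Set B) J :=
    fun J hJ hf => (Ideal.disjoint_powers_iff_notMem f (Ideal.IsPrime.isRadical hJ)).2 hf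
  have hfP : f ∉ P := fun h => hfQ (hPQ h)
  let Qf := Q.map ι
  let Pf := P.map ι
  haveI hQf : Qf.IsPrime := IsLocalization.isPrime_of_isPrime_disjoint (.powers f) _ _ ‹_› (hdis Q ‹_› hfQ)
  haveI hPf : Pf.IsPrime := IsLocalization.isPrime_of_isPrime_disjoint (.powers f) _ _ ‹_› (hdis P ‹_› hfP)
  have hQc : Qf.comap ι = Q := IsLocalization.under_map_of_isPrime_disjoint (.powers f) _ ‹_› (hdis Q ‹_› hfQ)
  have hPc : Pf.comap ι = P := IsLocalization.under_map_of_isPrime_disjoint (.powers f) _ ‹_› (hdis P ‹_› hfP)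
  let q := Qf.comap φ.toRingHom
  let PE := Pf.comap φ.toRingHom
  have hA : ∀ J : Ideal (Localization.Away f),
      (J.comap φ.toRingHom).comap (algebraMap A E) = (J.comap ι).comap (algebraMap A B) := fun J => by
    rw [Ideal.comap_comap, Ideal.comap_comap]
    congr 1
    exact φ.comp_algebraMap.trans (IsScalarTower.algebraMap_eq A B _)
  have hqp : q.comap (algebraMap A E) = p := by rw [hA, hQc, hp]
  have hPEA : PE.comap (algebraMap A E) = ⊥ := by rw [hA, hPc, hP]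
  have hbot : (⊥ : Ideal A) ∈ minimalPrimes A := ⟨⟨Ideal.isPrime_bot, bot_le⟩, fun _ _ _ => bot_le⟩
  have hminA : (minimalPrimes A).Finite := by
    rw [IsDomain.minimalPrimes_eq_singleton_bot]; exact Set.finite_singleton _
  have hfin := FlatUnram.finite_minimalPrimes A E hminA
  have hminE : ∀ J ∈ minimalPrimes E, J ≤ q → J = PE := fun J hJ hJq => by
    haveI := hJ.1.1
    refine eq_of_le_of_etale_of_minimal (L := L) p hL q hqp J PE hJq
      (Ideal.comap_mono (Ideal.map_mono hPQ)) ?_ (hPEA ▸ hbot)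
    have : J.comap (algebraMap A E) ≤ ⊥ := by
      rw [← hPEA]
      obtain ⟨J', hJ', hle⟩ : ∃ J' : Ideal E, J'.IsPrime ∧ J' ≤ J := ⟨J, hJ.1.1, le_rfl⟩
      intro a ha
      by_contra hne
      have ha0 : a ≠ 0 := fun h => hne (h ▸ Ideal.zero_mem _)
      have hu : ¬ IsSMulRegular E a := fun hreg =>
        Set.disjoint_left.1 (Ideal.disjoint_nonZeroDivisors_of_mem_minimalPrimes hJ) ha (by
          refine mem_nonZeroDivisors_iff_right.2 fun x hx => hreg ?_
          show a • x = a • (0 : E)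
          rw [smul_zero, Algebra.smul_def, mul_comm]
          exact hx)
      exact hu (Module.Flat.isSMulRegular_of_nonZeroDivisors (mem_nonZeroDivisors_of_ne_zero ha0))
    rw [le_bot_iff.1 this]
    exact hbot
  have hPEmin : ∀ J ∈ minimalPrimes E, ¬ J ≤ PE → ¬ J ≤ q := fun J hJ h h' => h (hminE J hJ h').le
  haveI := isReduced_of_etale A E
  classical
  have hex : ∀ J : {J // J ∈ hfin.toFinset}, ∃ a : E, (J.1 = PE ∨ a ∈ J.1) ∧ a ∉ q := fun J => by
    by_cases h : J.1 = PE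
    · exact ⟨1, .inl h, q.ne_top_iff_one.1 (Ideal.IsPrime.ne_top inferInstance)⟩
    · obtain ⟨a, ha, haq⟩ := SetLike.not_le_iff_exists.1 fun hle =>
        h (hminE J.1 (hfin.mem_toFinset.1 J.2) hle)
      exact ⟨a, .inr ha, haq⟩
  choose a ha haq using hex
  let a₀ : E := ∏ J, a J
  have ha₀q : a₀ ∉ q := fun h => by
    obtain ⟨J, -, hJ⟩ := (Ideal.IsPrime.prod_mem_iff).1 h
    exact haq J hJ
  have hkill : ∀ z : E, φ z = 0 → a₀ * z = 0 := fun z hz => by
    have hmem : a₀ * z ∈ sInf (minimalPrimes E) := Submodule.mem_sInf.2 fun J hJ => by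
      show a₀ * z ∈ (J : Ideal E)
      rcases ha ⟨J, hfin.mem_toFinset.2 hJ⟩ with h | h
      · refine Ideal.mul_mem_left J _ ?_
        rw [show J = PE from h]
        show φ z ∈ Pf
        rw [hz]; exact Pf.zero_mem
      · obtain ⟨c, hc⟩ := Finset.dvd_prod_of_mem a (Finset.mem_univ (⟨J, hfin.mem_toFinset.2 hJ⟩ : {J // J ∈ hfin.toFinset}))
        rw [show a₀ = _ from hc, mul_assoc]
        exact Ideal.mul_mem_right _ J h
    rw [minimalPrimes, Ideal.sInf_minimalPrimes] at hmem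
    simpa using hmem
  obtain ⟨⟨g₀, ⟨_, n, rfl⟩⟩, hg₀⟩ := IsLocalization.surj (Submonoid.powers f) (φ a₀)
  refine ⟨f * g₀, Ideal.IsPrime.mul_notMem ‹_› hfQ fun h => ?_, ?_⟩
  · refine ha₀q ((hQf.mem_or_mem (?_ : φ a₀ * algebraMap B _ (f ^ n) ∈ Qf)).resolve_right fun h' => hfQ ?_)
    · rw [hg₀]; exact Ideal.mem_map_of_mem _ h
    · exact Ideal.IsPrime.mem_of_pow_mem ‹_› n (hQc ▸ Ideal.mem_comap.2 h' :)
  let M := Localization.Away (φ a₀)
  have : IsLocalization.Away (φ a₀) M := inferInstance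
  have hassoc : Associated (φ a₀) (algebraMap B (Localization.Away f) g₀) := by
    have hu : IsUnit (algebraMap B (Localization.Away f) (f ^ n)) :=
      IsLocalization.map_units _ (⟨f ^ n, n, rfl⟩ : Submonoid.powers f)
    exact ⟨hu.unit, hg₀⟩
  haveI : IsLocalization.Away (algebraMap B (Localization.Away f) g₀) M :=
    IsLocalization.Away.of_associated hassoc
  haveI : IsLocalization.Away (f * g₀) M := .mul' (Localization.Away f) _ _ _
  let Ea := Localization.Away a₀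
  let ψ : Ea →ₐ[A] M := IsLocalization.Away.mapₐ Ea M φ a₀
  have hψs : Function.Surjective ψ := IsLocalization.Away.mapₐ_surjective_of_surjective a₀ hφ
  have hψi : Function.Injective ψ := (injective_iff_map_eq_zero ψ).2 fun z hz => by
    obtain ⟨e, s, rfl⟩ := IsLocalization.exists_mk'_eq (Submonoid.powers a₀) z
    have hz' : algebraMap (Localization.Away f) M (φ e) = 0 := by
      have h1 : ψ (algebraMap E Ea e) = 0 := by
        rw [← IsLocalization.mk'_spec Ea e s, map_mul, hz, zero_mul]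
      rwa [show ψ (algebraMap E Ea e) = algebraMap _ M (φ e) from
        IsLocalization.map_eq (M := Submonoid.powers a₀) (T := Submonoid.powers (φ a₀))
          (by rintro _ ⟨n, rfl⟩; exact ⟨n, (map_pow φ a₀ n).symm⟩) _] at h1
    obtain ⟨⟨_, k, rfl⟩, hk⟩ := (IsLocalization.map_eq_zero_iff (Submonoid.powers (φ a₀)) M _).1 hz'
    have h2 := hkill (a₀ ^ k * e) (by rw [map_mul, map_pow]; exact hk)
    rw [IsLocalization.mk'_eq_zero_iff]
    exact ⟨⟨a₀ ^ (k + 1), k + 1, rfl⟩, by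
      show a₀ ^ (k + 1) * e = 0
      rw [pow_succ', mul_assoc]; exact h2⟩
  haveI : Algebra.Etale E Ea := Algebra.Etale.of_isLocalizationAway a₀
  haveI : Algebra.Etale A Ea := Algebra.Etale.comp A E Ea
  haveI : Algebra.Etale A M := .of_equiv (AlgEquiv.ofBijective ψ ⟨hψi, hψs⟩)
  exact .of_equiv ((IsLocalization.algEquiv (Submonoid.powers (f * g₀)) M
    (Localization.Away (f * g₀))).restrictScalars A)

variable {X Y : Scheme.{u}} (f : X ⟶ Y)

/-- Étale near an unramified point over a geometrically unibranch point, when some generalisation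
lies over the generic point. -/
theorem etale_nhd_of_geomUnibranch [IsIntegral Y] [LocallyOfFiniteType f] (x : X)
    (hY : CAlg2.IsGeomUnibranch (Y.presheaf.stalk (f x)))
    (hsp : ∃ x' : X, x' ⤳ x ∧ f x' = genericPoint ↑Y)
    (hunr : (f.stalkMap x).hom.FormallyUnramified) :
    ∃ U : X.Opens, x ∈ U ∧ Etale (U.ι ≫ f) := by
  obtain ⟨W, hW, V, hV, hyW, hxV, e⟩ := FlatLocal.exists_chart f x
  obtain ⟨x', hx', hx'η⟩ := hsp
  have hx'V : x' ∈ V := hx'.mem_open V.2 hxV
  haveI : Nonempty W := ⟨⟨f x, hyW⟩⟩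
  have := FlatLocal.isUnramifiedAt_of_stalkMap f hW hV e hxV hunr
  have hft : (f.appLE W V e).hom.FiniteType :=
    HasRingHomProperty.appLE @LocallyOfFiniteType f inferInstance ⟨W, hW⟩ ⟨V, hV⟩ e
  algebraize [(f.appLE W V e).hom]
  let := Y.presheaf.algebra_section_stalk (⟨f x, hyW⟩ : W)
  have := hW.isLocalization_stalk ⟨f x, hyW⟩
  have hc : ∀ (w : X) (hw : w ∈ V), (hV.primeIdealOf ⟨w, hw⟩).asIdeal.comap (algebraMap Γ(Y, W) Γ(X, V)) =
      (hW.primeIdealOf ⟨f w, e hw⟩).asIdeal := fun w hw =>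
    congrArg PrimeSpectrum.asIdeal (IsAffineOpen.comap_primeIdealOf_appLE W hW V hV e hw)
  have hgen : (hW.primeIdealOf ⟨f x', e hx'V⟩).asIdeal = ⊥ := by
    have h1 : (⟨f x', e hx'V⟩ : W) = ⟨genericPoint Y,
        ((genericPoint_spec Y).mem_open_set_iff W.isOpen).mpr (by simpa using ‹Nonempty W›)⟩ := Subtype.ext hx'η
    rw [h1, hW.primeIdealOf_genericPoint, genericPoint_eq_bot_of_affine]
    rfl
  obtain ⟨g, hg, het⟩ := exists_etale_away (L := Y.presheaf.stalk (f x)) (hV.primeIdealOf ⟨x, hxV⟩).asIdeal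
    (hW.primeIdealOf ⟨f x, hyW⟩).asIdeal (hc x hxV) hY (hV.primeIdealOf ⟨x', hx'V⟩).asIdeal
    ((primeIdealOf_le_iff hV _ _).2 hx') (by rw [hc x' hx'V, hgen])
  exact ⟨X.basicOpen g, FlatLocal.mem_basicOpen_of_notMem hV hxV hg,
    FlatLocal.prop_basicOpen (P := @Etale) f (fun ι _ => inferInstance) hW hV e g
      (RingHom.etale_algebraMap.mpr het)⟩

/-- Unramified, connected and dominant over a geometrically unibranch integral scheme. -/
theorem etale_and_irreducible [IsIntegral Y] (hY : ∀ y : Y, CAlg2.IsGeomUnibranch (Y.presheaf.stalk y))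
    [ConnectedSpace X] [FormallyUnramified f] [LocallyOfFiniteType f]
    (hdom : genericPoint ↑Y ∈ Set.range f) : Etale f ∧ IrreducibleSpace X := by
  set η := genericPoint ↑Y
  have hmaxη : IsMaximalPt η := by
    refine isMaximalPt_of_isGenericPoint (W := Set.univ) ?_ (genericPoint_spec Y)
    rw [irreducibleComponents_eq_singleton]; rfl
  have hfinV : ∀ V : X.Opens, IsAffineOpen V → ∀ W : Y.Opens, IsAffineOpen W → V ≤ f ⁻¹ᵁ W →
      {ζ ∈ (V : Set X) | f ζ = η}.Finite := fun V hV W hW e => by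
    by_cases hne : {ζ ∈ (V : Set X) | f ζ = η} = ∅
    · rw [hne]; exact Set.finite_empty
    obtain ⟨ζ₁, hζ₁V, hζ₁⟩ := Set.nonempty_iff_ne_empty.2 hne
    have hη : η ∈ W := hζ₁ ▸ e hζ₁V
    have hu : (f.appLE W V e).hom.FormallyUnramified :=
      HasRingHomProperty.appLE @FormallyUnramified f inferInstance ⟨W, hW⟩ ⟨V, hV⟩ e
    have hft : (f.appLE W V e).hom.FiniteType :=
      HasRingHomProperty.appLE @LocallyOfFiniteType f inferInstance ⟨W, hW⟩ ⟨V, hV⟩ e
    algebraize [(f.appLE W V e).hom]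
    refine ((Algebra.QuasiFinite.finite_primesOver (R := Γ(Y, W)) (S := Γ(X, V))
      (hW.primeIdealOf ⟨η, hη⟩).asIdeal).preimage (f := fun I : PrimeSpectrum Γ(X, V) => I.asIdeal)
      (fun _ _ _ _ h => PrimeSpectrum.ext h)).image hV.fromSpec |>.subset fun ζ hζ => ?_
    refine ⟨hV.primeIdealOf ⟨ζ, hζ.1⟩, ⟨inferInstance, ⟨?_⟩⟩, hV.fromSpec_primeIdealOf ⟨ζ, hζ.1⟩⟩
    have h1 : hW.primeIdealOf ⟨f ζ, e hζ.1⟩ = hW.primeIdealOf ⟨η, hη⟩ := by
      congr 1; exact Subtype.ext hζ.2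
    rw [← h1]
    exact (congrArg PrimeSpectrum.asIdeal (IsAffineOpen.comap_primeIdealOf_appLE W hW V hV e hζ.1)).symm
  let Z : Set X := {x | ∃ ζ, ζ ⤳ x ∧ f ζ = η}
  have hnhd : ∀ x ∈ Z, ∃ U : X.Opens, x ∈ U ∧ Etale (U.ι ≫ f) := fun x ⟨ζ, hζ, hf⟩ =>
    etale_nhd_of_geomUnibranch f x (hY _) ⟨ζ, hζ, hf⟩ (FormallyUnramified.stalkMap f x)
  have hopen : IsOpen Z := by
    rw [isOpen_iff_forall_mem_open]
    intro x hx
    obtain ⟨U, hxU, hU⟩ := hnhd x hx
    haveI := hU
    refine ⟨U, fun z hz => ?_, U.isOpen, hxU⟩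
    obtain ⟨w, hw, hwη⟩ := Flat.generalizingMap (U.ι ≫ f) (a := ⟨z, hz⟩)
      (genericPoint_specializes (f z))
    exact ⟨w.1, hw.map U.ι.continuous, hwη⟩
  have hclosed : IsClosed Z := by
    rw [← isOpen_compl_iff, isOpen_iff_forall_mem_open]
    intro x hx
    obtain ⟨W, hW, V, hV, -, hxV, e⟩ := FlatLocal.exists_chart f x
    refine ⟨V ∩ (⋃ ζ ∈ {ζ ∈ (V : Set X) | f ζ = η}, closure {ζ})ᶜ, ?_,
      V.isOpen.inter ((hfinV V hV W hW e).isClosed_biUnion fun _ _ => isClosed_closure).isOpen_compl, hxV, ?_⟩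
    · rintro z ⟨hzV, hz⟩ ⟨ζ, hζ, hf⟩
      exact hz (Set.mem_biUnion ⟨hζ.mem_open V.isOpen hzV, hf⟩ hζ.mem_closure)
    · intro hmem
      obtain ⟨ζ, hζ, hxζ⟩ := Set.mem_iUnion₂.1 hmem
      exact hx ⟨ζ, specializes_iff_mem_closure.2 hxζ, hζ.2⟩
  obtain ⟨ζ₀, hζ₀⟩ := hdom
  have hZ : Z = Set.univ := IsClopen.eq_univ ⟨hclosed, hopen⟩ ⟨ζ₀, ζ₀, specializes_rfl, hζ₀⟩
  have hE : Etale f := by
    choose U hxU hU using fun x => hnhd x (hZ ▸ Set.mem_univ x)
    exact IsZariskiLocalAtSource.of_iSup_eq_top U (TopologicalSpace.Opens.ext (Set.eq_univ_of_forall fun x =>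
      by simpa using ⟨x, hxU x⟩)) hU
  refine ⟨hE, ?_⟩
  haveI := hE
  have huniq : ∀ {z ζ₁ ζ₂ : X}, ζ₁ ⤳ z → ζ₂ ⤳ z → f ζ₁ = η → f ζ₂ = η → ζ₁ = ζ₂ := fun h₁ h₂ e₁ e₂ =>
    eq_of_specializes_of_etale f (hY _) h₁ h₂ (e₁ ▸ hmaxη) (e₂ ▸ hmaxη)
  have hcl : closure {ζ₀} = Set.univ := by
    refine IsClopen.eq_univ ⟨isClosed_closure, ?_⟩ ⟨ζ₀, subset_closure rfl⟩
    rw [isOpen_iff_forall_mem_open]
    intro x hx
    obtain ⟨W, hW, V, hV, -, hxV, e⟩ := FlatLocal.exists_chart f x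
    let T := {ζ ∈ (V : Set X) | f ζ = η} \ {ζ₀}
    refine ⟨V ∩ (⋃ ζ ∈ T, closure {ζ})ᶜ, ?_,
      V.isOpen.inter (((hfinV V hV W hW e).sdiff).isClosed_biUnion fun _ _ => isClosed_closure).isOpen_compl, hxV, ?_⟩
    · rintro z ⟨hzV, hz⟩
      obtain ⟨ζ, hζ, hf⟩ : z ∈ Z := hZ ▸ Set.mem_univ z
      by_cases h : ζ = ζ₀
      · exact (h ▸ hζ).mem_closure
      · have hT : ζ ∈ T := ⟨⟨hζ.mem_open V.isOpen hzV, hf⟩, h⟩
        exact absurd (Set.mem_biUnion hT hζ.mem_closure) hz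
    · intro hmem
      obtain ⟨ζ, hζ, hxζ⟩ := Set.mem_iUnion₂.1 hmem
      exact hζ.2 (huniq (specializes_iff_mem_closure.2 hxζ) (specializes_iff_mem_closure.2 hx) hζ.1.2 hζ₀)
  haveI : PreirreducibleSpace X := { isPreirreducible_univ := by rw [← hcl]; exact isIrreducible_singleton.closure.2 }
  exact { toNonempty := ⟨ζ₀⟩ }

/-- `g` is étale at `f x` when `g ∘ f` and `f` are étale at `x`. -/
theorem etale_nhd_of_comp {Z : Scheme.{u}} (g : Y ⟶ Z) (U : X.Opens) (x : X) (hx : x ∈ U)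
    [Etale (U.ι ≫ f)] [Etale (U.ι ≫ f ≫ g)] : ∃ V : Y.Opens, f x ∈ V ∧ Etale (V.ι ≫ g) := by
  let V : Y.Opens := ⟨Set.range (U.ι ≫ f), (U.ι ≫ f).isOpenMap.isOpen_range⟩
  let q : U.toScheme ⟶ V.toScheme := IsOpenImmersion.lift V.ι (U.ι ≫ f) (by rw [Scheme.Opens.range_ι]; rfl)
  have hq : q ≫ V.ι = U.ι ≫ f := IsOpenImmersion.lift_fac _ _ _
  haveI : Etale q := by
    haveI : Etale (q ≫ V.ι) := by rw [hq]; infer_instance
    exact Etale.of_comp q V.ι
  haveI : Surjective q := ⟨fun v => by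
    obtain ⟨u, hu⟩ := v.2
    refine ⟨u, V.ι.isOpenEmbedding.injective ?_⟩
    exact (congrArg (fun m : U.toScheme ⟶ Y => m u) hq).trans hu⟩
  haveI hqg : Etale (q ≫ V.ι ≫ g) := by
    rw [← Category.assoc, hq, Category.assoc]; infer_instance
  haveI : LocallyOfFinitePresentation (V.ι ≫ g) := AlgSpLib.lfp_of_comp_fppf q _ inferInstance
  haveI : Flat (V.ι ≫ g) := FlatLocal.flat_of_comp q _
  refine ⟨V, ⟨⟨x, hx⟩, rfl⟩, (FlatLocal.etale_iff_stalkMap _).2 fun v => ⟨Flat.stalkMap _ v, ?_⟩⟩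
  obtain ⟨u, rfl⟩ := q.surjective v
  have h1 := FormallyUnramified.stalkMap (q ≫ V.ι ≫ g) u
  rw [Scheme.Hom.stalkMap_comp] at h1
  replace h1 : ((q.stalkMap u).hom.comp ((V.ι ≫ g).stalkMap (q u)).hom).FormallyUnramified := h1
  have h2 := Flat.stalkMap q u
  have he1 := LocallyOfFiniteType.stalkMap (V.ι ≫ g) (q u)
  have he2 : ((q.stalkMap u).hom.comp ((V.ι ≫ g).stalkMap (q u)).hom).EssFiniteType := by
    have := LocallyOfFiniteType.stalkMap (q ≫ V.ι ≫ g) u
    rw [Scheme.Hom.stalkMap_comp] at this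
    exact this
  algebraize [((V.ι ≫ g).stalkMap (q u)).hom, (q.stalkMap u).hom,
    (q.stalkMap u).hom.comp ((V.ι ≫ g).stalkMap (q u)).hom]
  haveI : IsLocalHom (algebraMap (Z.presheaf.stalk ((V.ι ≫ g) (q u))) (V.toScheme.presheaf.stalk (q u))) :=
    inferInstanceAs <| IsLocalHom ((V.ι ≫ g).stalkMap (q u)).hom
  haveI : IsLocalHom (algebraMap (V.toScheme.presheaf.stalk (q u)) (U.toScheme.presheaf.stalk u)) :=
    inferInstanceAs <| IsLocalHom (q.stalkMap u).hom
  exact FlatLocal.formallyUnramified_of_flat_comp (C := U.toScheme.presheaf.stalk u)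

end Groth.Agent.FlatMorWeight
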